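import Cfsg.Agent.TwoTimesSym.Corner

/-!
Turning the square gives a group of order `256` with cyclic top, and the transfer into it is odd.
-/

set_option autoImplicit false
set_option linter.unusedSectionVars false
set_option linter.style.haveILetI false

namespace Cfsg.Lib.TwoTimesSym

open Subgroup

variable {G : Type*} [Group G]

theorem cycle_tables :
    (∀ k < 32, maskT [7, 8, 14] k = dB k) ∧
    (∀ x < 16, ev 58407 x ∈ sU ↔ x ∈ sU) ∧
    (∀ f ∈ sE, comp (comp 11915 f) 11915 ∈ sE) ∧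
    (∀ w ∈ sU, ∀ v ∈ [9, 15],
      (let o := w.testBit 3
       lamB o (16 + (w ^^^ 15)) = lamB o 1 ∧ vec (16 + (w ^^^ 15)) = rot (vec 1) ∧
       lamB o 7 = lamB o 2 ∧ vec 7 = rot (vec 2) ∧
       lamB o 6 = lamB o 6 ∧ vec 6 = rot (vec 6) ∧
       lamB o (16 + w) = lamB o 8 ∧ vec (16 + w) = rot (vec 8) ∧
       lamB o (lmul 32 v) = lamB o 16 ∧ vec (lmul 32 v) = rot (vec 16) ∧
       ∀ u ∈ [2, 4], ∀ i ∈ [0, 6], (let b := u ^^^ (if w.testBit 3 then w ^^^ 6 else w) ^^^ i
         lamB o b = lamB o 32 ∧ vec b = rot (vec 32)))) := by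
  decide +kernel

namespace Pair

variable {t : G} {P : Pair t} [Finite G]

/-- the conjugates of `t` in coordinates -/
theorem Turn.conj_phi_iff (hD : P.DL = [7, 8, 14]) (h0 : P.nC 57927 = 0) {g : G} (R : P.Turn g) :
    ∀ k < 64, IsConj t (R.toSide.phi k) ↔ dB k = true := by
  intro k hk
  set S := R.toSide
  by_cases h32 : k < 32
  · rw [S.phi_lt h32, P.conj_emb_iff h32, hD, cycle_tables.1 k h32]
  by_cases h48 : k < 48
  · have hx : k - 32 < 16 := by omega
    have e : S.phi k = R.q * P.F.el (ev 58407 (k - 32)) := by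
      have h := S.q_el (Frame.ev_lt 58407 (k - 32))
      rw [(show ∀ x < 16, ev 58407 (ev 58407 x) = x by decide +kernel) _ hx] at h
      rw [Side.phi, show k % 32 = k - 32 by omega, show k / 32 % 2 = 1 by omega, pow_one, P.emb_lt hx]
      exact h.symm
    rw [e, R.q_coset _ (Frame.ev_lt _ _), cycle_tables.2.1 _ hx, dB, if_neg h32, List.contains_iff_mem]
  · have hd : dB k = false := (show ∀ k < 64, 48 ≤ k → dB k = false by decide +kernel) k hk (by omega)
    rw [hd]
    refine iff_of_false (fun hc => ?_) Bool.false_ne_true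
    have hcode : P.F.code (S.phi k) = 57927 := by
      rw [S.phi_code, if_pos (show k / 16 % 2 = 1 by omega), if_pos (show k / 32 % 2 = 1 by omega)]
      decide +kernel
    haveI : IsEmpty {d : G // d ∈ P.F.N ∧ P.F.code d = 57927 ∧ IsConj t d} := (Finite.card_eq_zero_iff).1 h0
    exact IsEmpty.false (α := {d : G // d ∈ P.F.N ∧ P.F.code d = 57927 ∧ IsConj t d})
      ⟨_, S.phi_mem k, hcode, hc⟩

/-- turning preserves the functional and turns the corners -/
theorem Turn.turning (hl : P.IsRange xHalf) {g : G} (hg : g ∈ P.NT) (hgN : g ∉ P.F.N)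
    (hg1 : g * t * g⁻¹ = P.F.el 8) (hg8 : g * P.F.el 8 * g⁻¹ = P.F.el 7) (R : P.Turn g) :
    ∀ a < 64, ∃ b < 64, g * R.s * R.toSide.phi a * (g * R.s)⁻¹ = R.toSide.phi b ∧
      lamB (R.w.testBit 3) b = lamB (R.w.testBit 3) a ∧ vec b = rot (vec a) := by
  set S := R.toSide
  set o := R.w.testBit 3 with ho
  set r := g * R.s with hr
  obtain ⟨v, hv, hve⟩ := R.g_q_odd
  have tb := cycle_tables.2.2.2 R.w R.w_mem v hv
  simp only [] at tb
  have hw : R.w < 16 := (show ∀ x ∈ sU, x < 16 by decide) _ R.w_mem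
  have g6 : g * P.F.el 6 * g⁻¹ = P.F.el 6 := P.conj_z hg
  have g9 : g * P.F.el 9 * g⁻¹ = P.F.el 15 := by rw [R.g_u 9 (by decide)]; rfl
  have hrel : ∀ x < 16, r * P.F.el x * r⁻¹ = g * P.F.el (ev 11915 x) * g⁻¹ := by
    intro x hx
    have h := P.F.conj_el R.s_mem hx
    rw [R.s_code] at h
    rw [hr, ← h]; group
  let Good : Set G := {x | ∃ a < 64, S.phi a = x ∧
    ∃ b < 64, r * x * r⁻¹ = S.phi b ∧ lamB o b = lamB o a ∧ vec b = rot (vec a)}
  have hmulG : ∀ x ∈ Good, ∀ y ∈ Good, x * y ∈ Good := by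
    rintro _ ⟨a, ha, rfl, b, hb, e, e1, e2⟩ _ ⟨a', ha', rfl, b', hb', e', e1', e2'⟩
    obtain ⟨h1, h2, h3⟩ := lmul_tables.1 a ha a' ha'
    obtain ⟨k1, k2, k3⟩ := lmul_tables.1 b hb b' hb'
    refine ⟨_, h1, S.phi_mul, _, k1, ?_, by rw [h2, k2, e1, e1'], by
      rw [h3, k3, e2, e2', lmul_tables.2 a ha a' ha']⟩
    rw [S.phi_mul (a := b), ← e, ← e']; group
  have hone : (1 : G) ∈ Good := ⟨0, by norm_num, by rw [S.phi_lt (by norm_num), P.emb_zero], 0, by norm_num,
    by rw [S.phi_lt (by norm_num), P.emb_zero]; group, rfl, by decide +kernel⟩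
  have hpow : ∀ x ∈ Good, ∀ n : ℕ, x ^ n ∈ Good := by
    intro x hx n
    induction n with
    | zero => rw [pow_zero]; exact hone
    | succ n ih => rw [pow_succ]; exact hmulG _ ih _ hx
  let K : Subgroup G :=
    { carrier := Good
      one_mem' := hone
      mul_mem' := fun {x y} hx hy => hmulG x hx y hy
      inv_mem' := fun {x} hx => by
        have h := hpow x hx (orderOf x - 1)
        rwa [show x ^ (orderOf x - 1) = x⁻¹ by
          rw [eq_inv_iff_mul_eq_one, ← pow_succ, Nat.sub_add_cancel (orderOf_pos x), pow_orderOf_eq_one]] at h }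
  have mkK : ∀ a b : ℕ, a < 64 → b < 64 → r * S.phi a * r⁻¹ = S.phi b → lamB o b = lamB o a →
      vec b = rot (vec a) → S.phi a ∈ K := fun a b ha hb e e1 e2 => ⟨a, ha, rfl, b, hb, e, e1, e2⟩
  have hLK : S.L ≤ K := by
    refine S.L_le ?_ ?_ ?_ ?_ ?_ ?_
    · rw [← S.phi_el (by norm_num)]
      have hwx : R.w ^^^ 15 < 16 := Frame.xor_lt hw (by norm_num)
      refine mkK 1 (16 + (R.w ^^^ 15)) (by norm_num) (by omega) ?_ tb.1 tb.2.1
      rw [S.phi_el (by norm_num), hrel 1 (by norm_num), show ev 11915 1 = 2 ^^^ 9 by decide +kernel,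
        P.F.el_xor 2 (by norm_num) 9 (by norm_num), S.phi_lt (by omega), P.eq_T_pi (by omega) (by omega),
        Nat.add_sub_cancel_left, P.F.el_xor _ hw 15 (by norm_num)]
      calc g * (P.F.el 2 * P.F.el 9) * g⁻¹ = g * P.F.el 2 * g⁻¹ * (g * P.F.el 9 * g⁻¹) := by group
        _ = _ := by rw [R.g_two, g9, mul_assoc]
    · rw [← S.phi_el (by norm_num)]
      refine mkK 2 7 (by norm_num) (by norm_num) ?_ tb.2.2.1 tb.2.2.2.1
      rw [S.phi_el (by norm_num), hrel 2 (by norm_num), show ev 11915 2 = 8 by decide +kernel,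
        S.phi_el (by norm_num), hg8]
    · rw [← S.phi_el (by norm_num)]
      refine mkK 6 6 (by norm_num) (by norm_num) ?_ rfl tb.2.2.2.2.2.1
      rw [S.phi_el (by norm_num), hrel 6 (by norm_num), show ev 11915 6 = 6 by decide +kernel, g6]
    · rw [← S.phi_el (by norm_num)]
      refine mkK 8 (16 + R.w) (by norm_num) (by omega) ?_ tb.2.2.2.2.2.2.1 tb.2.2.2.2.2.2.2.1
      rw [S.phi_el (by norm_num), hrel 8 (by norm_num), show ev 11915 8 = 2 by decide +kernel,
        S.phi_lt (by omega), P.eq_T_pi (by omega) (by omega), Nat.add_sub_cancel_left, R.g_two]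
    · rw [← P.emb_16, ← S.phi_lt (show 16 < 32 by norm_num)]
      have hv16 : v < 16 := (show ∀ v ∈ [9, 15], v < 16 by decide) v hv
      refine mkK 16 (lmul 32 v) (by norm_num) (lmul_tables.1 32 (by norm_num) v (by omega)).1 ?_
        tb.2.2.2.2.2.2.2.2.1 tb.2.2.2.2.2.2.2.2.2.1
      rw [S.phi_lt (by norm_num), P.emb_16, S.phi_mul, S.phi_32, S.phi_el hv16]
      show _ = R.q * P.F.el v
      rw [← hve, ← R.s_p, hr]; group
    · rw [← S.phi_32]
      obtain ⟨i, hi, hie⟩ := R.s_q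
      -- the image of `p`
      have hgg : g * g ∈ P.F.N := P.mul_exch hg hgN hg hgN
      have hggT : g * g ∈ P.NT := mul_mem hg hg
      have hggc : P.F.code (g * g) ∈ sE :=
        corner_tables.2.1 _ (hl.mem _ hgg) (P.code_p_conj hgg hggT)
      have e2 := P.F.conj_el hgg (show 2 < 16 by norm_num)
      set u := ev (P.F.code (g * g)) 2 with hu
      have hu' : u ∈ [2, 4] := by
        rcases corner_tables.2.2.2.1 _ hggc with h | h <;> rw [hu, h] <;> decide
      have hu16 : u < 16 := Frame.ev_lt _ _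
      set w' := if R.w.testBit 3 then R.w ^^^ 6 else R.w with hw'
      have hw'16 : w' < 16 := (show ∀ w ∈ sU, (if w.testBit 3 then w ^^^ 6 else w) < 16 by decide +kernel) _ R.w_mem
      have hi16 : i < 16 := (show ∀ i ∈ [0, 6], i < 16 by decide) i hi
      have hgi : g * P.F.el i * g⁻¹ = P.F.el i := by
        simp only [List.mem_cons, List.not_mem_nil, or_false] at hi
        rcases hi with rfl | rfl
        · simp [P.F.el_zero]
        · exact g6
      have tb' := tb.2.2.2.2.2.2.2.2.2.2 u hu' i hi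
      have hlt : u ^^^ w' ^^^ i < 16 := Frame.xor_lt (Frame.xor_lt hu16 hw'16) hi16
      refine mkK 32 (u ^^^ w' ^^^ i) (by norm_num) (by omega) ?_ tb'.1 tb'.2
      rw [S.phi_32, S.phi_el hlt, P.F.el_xor _ (Frame.xor_lt hu16 hw'16) _ hi16, P.F.el_xor _ hu16 _ hw'16, ← e2,
        ← R.g_u R.w R.w_mem]
      have hp' : P.F.p = g * P.F.el 2 * g⁻¹ * P.F.el R.w := by
        rw [R.g_two, mul_assoc, P.F.el_sq hw, mul_one]
      calc r * R.q * r⁻¹ = g * (R.s * R.q * R.s⁻¹) * g⁻¹ := by rw [hr]; group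
        _ = g * P.F.p * g⁻¹ * (g * P.F.el i * g⁻¹) := by rw [hie]; group
        _ = g * (g * P.F.el 2 * g⁻¹ * P.F.el R.w) * g⁻¹ * P.F.el i := by rw [← hp', hgi]
        _ = _ := by group
  intro a ha
  obtain ⟨a', ha', e, b, hb, h1, h2, h3⟩ := hLK (S.phi_mem_L ha)
  obtain rfl := S.phi_inj ha' ha e
  exact ⟨b, hb, h1, h2, h3⟩

set_option maxHeartbeats 1000000 in
/-- the transfer into the group of order `256` -/
theorem Turn.index_two (hD : P.DL = [7, 8, 14]) (hl : P.IsRange xHalf) (hz : P.nC 11915 = 0) {g : G}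
    (hg : g ∈ P.NT) (hgN : g ∉ P.F.N) (hg1 : g * t * g⁻¹ = P.F.el 8) (hg8 : g * P.F.el 8 * g⁻¹ = P.F.el 7)
    (R : P.Turn g) : ∃ H : Subgroup G, H.index = 2 := by
  classical
  set S := R.toSide
  set o := R.w.testBit 3
  set r := g * R.s with hr
  have hDk := R.conj_phi_iff hD ((hl.nC_eq (f := 57927) (r := 11915) (by decide +kernel)).trans hz)
  have hturn := R.turning hl hg hgN hg1 hg8
  -- the functional and the corners on the group
  let lamL : G → Bool := fun x => if h : ∃ k < 64, S.phi k = x then lamB o h.choose else false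
  let vecL : G → ℕ := fun x => if h : ∃ k < 64, S.phi k = x then vec h.choose else 0
  have hval : ∀ k < 64, lamL (S.phi k) = lamB o k ∧ vecL (S.phi k) = vec k := by
    intro k hk
    have h : ∃ k' < 64, S.phi k' = S.phi k := ⟨k, hk, rfl⟩
    have e := S.phi_inj h.choose_spec.1 hk h.choose_spec.2
    exact ⟨by simp only [lamL, dif_pos h, e], by simp only [vecL, dif_pos h, e]⟩
  have lam_mul : ∀ x ∈ S.L, ∀ y ∈ S.L, lamL (x * y) = xor (lamL x) (lamL y) := by
    rintro _ ⟨a, ha, rfl⟩ _ ⟨b, hb, rfl⟩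
    obtain ⟨h1, h2, -⟩ := lmul_tables.1 a ha b hb
    rw [← S.phi_mul, (hval _ h1).1, h2, (hval a ha).1, (hval b hb).1]
  have lam_one : lamL 1 = false := by
    have h := (hval 0 (by norm_num)).1
    rw [S.phi_lt (by norm_num), P.emb_zero] at h
    rw [h]; simp [lamB]
  have rconj : ∀ x ∈ S.L, r * x * r⁻¹ ∈ S.L ∧ lamL (r * x * r⁻¹) = lamL x ∧
      vecL (r * x * r⁻¹) = rot (vecL x) := by
    rintro _ ⟨a, ha, rfl⟩
    obtain ⟨b, hb, e, e1, e2⟩ := hturn a ha
    rw [hr, e]
    exact ⟨S.phi_mem_L hb, by rw [(hval b hb).1, (hval a ha).1]; exact e1,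
      by rw [(hval b hb).2, (hval a ha).2]; exact e2⟩
  have hrn : r ∈ normalizer (S.L : Set G) := mem_normalizer_of_le fun x hx => (rconj x hx).1
  have rinv : ∀ (j : ℕ), ∀ x ∈ S.L, (r ^ j)⁻¹ * x * r ^ j ∈ S.L ∧ lamL ((r ^ j)⁻¹ * x * r ^ j) = lamL x := by
    intro j
    induction j with
    | zero => intro x hx; simpa using hx
    | succ j ih =>
      intro x hx
      have e : (r ^ (j + 1))⁻¹ * x * r ^ (j + 1) = r⁻¹ * ((r ^ j)⁻¹ * x * r ^ j) * r := by rw [pow_succ]; group
      obtain ⟨h1, h2⟩ := ih x hx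
      have h3 : r⁻¹ * ((r ^ j)⁻¹ * x * r ^ j) * r ∈ S.L := by
        have := (mem_normalizer_iff.1 (inv_mem hrn) _).1 h1
        rwa [inv_inv] at this
      have h4 := (rconj _ h3).2.1
      rw [show r * (r⁻¹ * ((r ^ j)⁻¹ * x * r ^ j) * r) * r⁻¹ = (r ^ j)⁻¹ * x * r ^ j by group] at h4
      rw [e]
      exact ⟨h3, h4.symm.trans h2⟩
  have hvr2 : ∀ x ∈ S.L, vecL (r ^ 2 * x * (r ^ 2)⁻¹) = rot (rot (vecL x)) := by
    intro x hx
    rw [show r ^ 2 * x * (r ^ 2)⁻¹ = r * (r * x * r⁻¹) * r⁻¹ by rw [pow_two]; group,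
      (rconj _ (rconj x hx).1).2.2, (rconj x hx).2.2]
  have hLinj : ∀ x ∈ S.L, vecL x ∈ [0, 1, 2, 3] → P.F.code x = cId := by
    rintro _ ⟨k, hk, rfl⟩ hv
    rw [(hval k hk).2] at hv
    rw [S.phi_code]
    exact (show ∀ k < 64, vec k ∈ [0, 1, 2, 3] →
      comp (if k / 16 % 2 = 1 then cPi else cId) (if k / 32 % 2 = 1 then 58407 else cId) = cId by decide +kernel)
      k hk hv
  have hel : ∀ x < 16, P.F.el x ∈ S.L ∧ vecL (P.F.el x) = vec x := by
    intro x hx
    rw [← S.phi_el hx]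
    exact ⟨S.phi_mem_L (by omega), (hval x (by omega)).2⟩
  -- the fourth power
  have hr4 : r ^ 4 ∈ S.L := by
    have h4 : ∀ x ∈ S.L, r ^ 4 * x * (r ^ 4)⁻¹ ∈ S.L ∧ vecL (r ^ 4 * x * (r ^ 4)⁻¹) = vecL x := by
      intro x hx
      have e : r ^ 4 * x * (r ^ 4)⁻¹ = r * (r * (r * (r * x * r⁻¹) * r⁻¹) * r⁻¹) * r⁻¹ := by
        simp only [pow_succ, pow_zero]; group
      have h1 := rconj x hx
      have h2 := rconj _ h1.1
      have h3 := rconj _ h2.1
      have h4 := rconj _ h3.1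
      refine ⟨e ▸ h4.1, ?_⟩
      rw [e, h4.2.2, h3.2.2, h2.2.2, h1.2.2]
      obtain ⟨k, hk, rfl⟩ := hx
      rw [(hval k hk).2]
      exact (show ∀ k < 64, rot (rot (rot (rot (vec k)))) = vec k by decide +kernel) k hk
    have hN : r ^ 4 ∈ P.F.N := by
      refine mem_normalizer_of_le fun y hy => ?_
      obtain ⟨x, hx, rfl⟩ := hy
      obtain ⟨h1, h2⟩ := h4 _ (hel x hx).1
      refine (P.F.code_eq_id_iff (S.mem_L.1 h1).1).1 (hLinj _ h1 ?_)
      rw [h2, (hel x hx).2]
      exact (show ∀ x < 16, vec x ∈ [0, 1, 2, 3] by decide +kernel) x hx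
    refine S.mem_L.2 ⟨hN, corner_tables.2.1 _ (hl.mem _ hN) ?_⟩
    have hpL : P.F.p ∈ S.L := by rw [← P.emb_16, ← S.phi_lt (show 16 < 32 by norm_num)]; exact S.phi_mem_L (by norm_num)
    obtain ⟨h1, h2⟩ := h4 _ hpL
    obtain ⟨k, hk, hke⟩ := h1
    rw [← hke, (hval k hk).2, ← P.emb_16, ← S.phi_lt (show 16 < 32 by norm_num), (hval 16 (by norm_num)).2] at h2
    have hc : P.F.code (r ^ 4 * P.F.p * (r ^ 4)⁻¹) = cPi := by
      rw [← hke, S.phi_code]
      exact (show ∀ k < 64, vec k = vec 16 →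
        comp (if k / 16 % 2 = 1 then cPi else cId) (if k / 32 % 2 = 1 then 58407 else cId) = cPi by decide +kernel)
        k hk h2
    obtain ⟨e1, e2⟩ := P.code_conj hN P.F.p_mem.1
    rw [e1, P.F.p_mem.2] at hc
    exact (show ∀ f ∈ xHalf, ∀ f' ∈ xHalf, comp f f' = cId → comp (comp f cPi) f' = cPi →
      comp f cPi = comp cPi f by decide +kernel) _ (hl.mem _ hN) _ (hl.mem _ (inv_mem hN)) e2 hc
  have hr2 : r ^ 2 ∉ S.L := by
    intro h
    have h1 := hvr2 _ (hel 1 (by norm_num)).1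
    have h2 := P.F.conj_el (S.mem_L.1 h).1 (show 1 < 16 by norm_num)
    rw [h2, (hel _ (Frame.ev_lt _ _)).2, (hel 1 (by norm_num)).2] at h1
    exact (show ∀ x < 16, vec x ≠ rot (rot (vec 1)) by decide +kernel) _ (Frame.ev_lt _ _) h1
  have hr1 : r ∉ S.L := fun h => hr2 (pow_mem h 2)
  have hr3 : r ^ 3 ∉ S.L := fun h => hr1 (by
    have := mul_mem (inv_mem h) hr4
    rwa [show (r ^ 3)⁻¹ * r ^ 4 = r by group] at this)
  -- the group of order `256`
  have hdec : ∀ (n : ℕ), ∀ x ∈ S.L, ∃ l ∈ S.L, r ^ n * x = r ^ (n % 4) * l ∧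
      lamL l = xor (lamL x) (decide (n / 4 % 2 = 1) && lamL (r ^ 4)) := by
    intro n
    induction n using Nat.strong_induction_on with
    | _ n ih =>
      intro x hx
      by_cases hn : n < 4
      · refine ⟨x, hx, by rw [Nat.mod_eq_of_lt hn], ?_⟩
        rw [show n / 4 = 0 by omega]; simp
      · obtain ⟨l, hl', e, e2⟩ := ih (n - 4) (by omega) (r ^ 4 * x) (mul_mem hr4 hx)
        refine ⟨l, hl', ?_, ?_⟩
        · rw [show n % 4 = (n - 4) % 4 by omega, ← e, ← mul_assoc, ← pow_add, show n - 4 + 4 = n by omega]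
        · rw [e2, lam_mul _ hr4 _ hx]
          rcases Nat.mod_two_eq_zero_or_one ((n - 4) / 4) with h | h
          · rw [h, show n / 4 % 2 = 1 by omega]; cases lamL x <;> cases lamL (r ^ 4) <;> rfl
          · rw [h, show n / 4 % 2 = 0 by omega]; cases lamL x <;> cases lamL (r ^ 4) <;> rfl
  have hmulM : ∀ (i j : ℕ), ∀ l ∈ S.L, ∀ m ∈ S.L, ∃ n ∈ S.L, r ^ i * l * (r ^ j * m) = r ^ ((i + j) % 4) * n ∧
      lamL n = xor (xor (lamL l) (lamL m)) (decide ((i + j) / 4 % 2 = 1) && lamL (r ^ 4)) := by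
    intro i j l hl' m hm
    obtain ⟨h1, h2⟩ := rinv j l hl'
    obtain ⟨n, hn, e, e2⟩ := hdec (i + j) _ (mul_mem h1 hm)
    refine ⟨n, hn, ?_, by rw [e2, lam_mul _ h1 _ hm, h2]⟩
    rw [← e, pow_add]; group
  let Mset : Set G := {x | ∃ i < 4, ∃ l ∈ S.L, x = r ^ i * l}
  have hpowM : ∀ x ∈ Mset, ∀ n : ℕ, x ^ n ∈ Mset := by
    intro x hx n
    induction n with
    | zero => exact ⟨0, by norm_num, 1, one_mem _, by simp⟩
    | succ n ih =>
      obtain ⟨i, hi, l, hl', e⟩ := ih
      obtain ⟨j, hj, m, hm, rfl⟩ := hx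
      obtain ⟨k, hk, e', -⟩ := hmulM i j l hl' m hm
      exact ⟨_, Nat.mod_lt _ (by norm_num), k, hk, by rw [pow_succ, e, e']⟩
  let M : Subgroup G :=
    { carrier := Mset
      one_mem' := ⟨0, by norm_num, 1, one_mem _, by simp⟩
      mul_mem' := by
        rintro _ _ ⟨i, hi, l, hl', rfl⟩ ⟨j, hj, m, hm, rfl⟩
        obtain ⟨k, hk, e', -⟩ := hmulM i j l hl' m hm
        exact ⟨_, Nat.mod_lt _ (by norm_num), k, hk, e'⟩
      inv_mem' := fun {x} hx => by
        have h := hpowM x hx (orderOf x - 1)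
        rwa [show x ^ (orderOf x - 1) = x⁻¹ by
          rw [eq_inv_iff_mul_eq_one, ← pow_succ, Nat.sub_add_cancel (orderOf_pos x), pow_orderOf_eq_one]] at h }
  have huniq : ∀ i < 4, ∀ j < 4, ∀ l ∈ S.L, ∀ m ∈ S.L, r ^ i * l = r ^ j * m → i = j ∧ l = m := by
    have step : ∀ i j, i ≤ j → j < 4 → ∀ l ∈ S.L, ∀ m ∈ S.L, r ^ i * l = r ^ j * m → i = j ∧ l = m := by
      intro i j hij hj l hl' m hm e
      obtain ⟨k, rfl⟩ := Nat.exists_eq_add_of_le hij
      rw [pow_add, mul_assoc] at e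
      have e' := mul_left_cancel e
      have hk : r ^ k ∈ S.L := by
        rw [show r ^ k = l * m⁻¹ by rw [e']; group]; exact mul_mem hl' (inv_mem hm)
      have hk0 : k = 0 := by
        rcases (show k = 0 ∨ k = 1 ∨ k = 2 ∨ k = 3 by omega) with h | rfl | rfl | rfl
        · exact h
        · exact absurd (by rwa [pow_one] at hk) hr1
        · exact absurd hk hr2
        · exact absurd hk hr3
      subst hk0
      exact ⟨by simp, by simpa using e'⟩
    intro i hi j hj l hl' m hm e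
    rcases le_total i j with h | h
    · exact step i j h hj l hl' m hm e
    · obtain ⟨h1, h2⟩ := step j i h hi m hm l hl' e.symm
      exact ⟨h1.symm, h2.symm⟩
  have hMmem : ∀ x : M, ∃ p : Fin 4 × S.L, r ^ (p.1 : ℕ) * (p.2 : G) = x := by
    rintro ⟨x, i, hi, l, hl', rfl⟩
    exact ⟨(⟨i, hi⟩, ⟨l, hl'⟩), rfl⟩
  choose dec hdec' using hMmem
  have hMc : Nat.card M = 32 * 8 := by
    let f : Fin 4 × S.L → M := fun p => ⟨r ^ (p.1 : ℕ) * (p.2 : G), p.1, p.1.2, p.2, p.2.2, rfl⟩
    have hf : Function.Bijective f := ⟨fun a b e => by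
      obtain ⟨h1, h2⟩ := huniq _ a.1.2 _ b.1.2 _ a.2.2 _ b.2.2 (congrArg Subtype.val e)
      exact Prod.ext (Fin.ext h1) (Subtype.ext h2), fun x => ⟨dec x, Subtype.ext (hdec' x)⟩⟩
    rw [← Nat.card_eq_of_bijective f hf, Nat.card_prod, S.card_L, Nat.card_fin]
  let val : ℕ → Bool → ZMod 8 := fun i b => (if lamL (r ^ 4) then (i : ZMod 8) else 0) + if b then 4 else 0
  let ψ : ↥M →* Multiplicative (ZMod 8) :=
    MonoidHom.mk' (fun x => Multiplicative.ofAdd (val (dec x).1 (lamL ((dec x).2 : G)))) (fun x y => by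
      obtain ⟨n, hn, e, e2⟩ := hmulM (dec x).1 (dec y).1 _ (dec x).2.2 _ (dec y).2.2
      rw [hdec', hdec', ← Subgroup.coe_mul] at e
      rw [← hdec' (x * y)] at e
      obtain ⟨h1, h2⟩ := huniq _ (dec (x * y)).1.2 _ (Nat.mod_lt _ (by norm_num)) _ (dec (x * y)).2.2 _ hn e
      rw [← ofAdd_add]
      congr 1
      simp only [val, h1, h2, e2]
      exact (show ∀ a b : Fin 4, ∀ p q ε : Bool,
        ((if ε then ((((a : ℕ) + (b : ℕ)) % 4 : ℕ) : ZMod 8) else (0 : ZMod 8)) +
            if xor (xor p q) (decide (((a : ℕ) + (b : ℕ)) / 4 % 2 = 1) && ε) then 4 else 0) =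
          ((if ε then ((a : ℕ) : ZMod 8) else 0) + if p then 4 else 0) +
            ((if ε then ((b : ℕ) : ZMod 8) else 0) + if q then 4 else 0) by decide +kernel)
        (dec x).1 (dec y).1 _ _ _)
  -- involutions
  have hsplit : ∀ x : M, (x : G) * x ∈ S.L → ((dec x).1 : ℕ) = 0 ∨ ((dec x).1 : ℕ) = 2 := by
    intro x hx
    obtain ⟨n, hn, e, -⟩ := hmulM (dec x).1 (dec x).1 _ (dec x).2.2 _ (dec x).2.2
    rw [hdec'] at e
    have h := (huniq 0 (by norm_num) _ (Nat.mod_lt _ (by norm_num)) _ hx _ hn (by simpa using e)).1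
    have := (dec x).1.2
    omega
  have hdecL : ∀ x : M, (x : G) ∈ S.L → ((dec x).1 : ℕ) = 0 ∧ ((dec x).2 : G) = x := by
    intro x hx
    exact huniq _ (dec x).1.2 0 (by norm_num) _ (dec x).2.2 _ hx (by rw [hdec']; simp)
  obtain ⟨c, hc, hC⟩ := P.hcard
  -- centralisers outside
  have hstab : ∀ d : M, (d : G) ∉ S.L → IsConj t (d : G) →
      Nat.card (centralizer ({d} : Set M)) ∣ 16 := by
    intro d hdL hdt
    set K := centralizer ({d} : Set M) with hK
    obtain ⟨h, hh⟩ := isConj_iff.1 hdt.symm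
    have hKd : ∀ x : K, ((x : M) : G) * d = d * ((x : M) : G) := fun x =>
      congrArg Subtype.val (mem_centralizer_singleton_iff.1 x.2)
    let K' : Subgroup G := (K.map M.subtype).map (MulAut.conj h).toMonoidHom
    have hMp : IsPGroup 2 M := IsPGroup.of_card (n := 8) (by rw [hMc]; norm_num)
    have hK'2 : IsPGroup 2 K' := ((hMp.to_subgroup K).map M.subtype).map _
    have hK'C : K' ≤ centralizer ({t} : Set G) ⊓ ⊤ := by
      rintro _ ⟨_, ⟨x, hx, rfl⟩, rfl⟩
      refine mem_inf.2 ⟨?_, mem_top _⟩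
      rw [mem_centralizer_singleton_iff, ← hh]
      simp only [MulEquiv.coe_toMonoidHom, MulAut.conj_apply, Subgroup.coe_subtype]
      calc h * (x : G) * h⁻¹ * (h * d * h⁻¹) = h * ((x : G) * d) * h⁻¹ := by group
        _ = _ := by rw [hKd ⟨x, hx⟩]; group
    obtain ⟨cc, ⟨-, -⟩, hcc⟩ := P.exists_conj_le le_top hK'2 hK'C
    let Φ : K →* P.T := MonoidHom.mk' (fun x => ⟨cc⁻¹ * (h * ((x : M) : G) * h⁻¹) * cc,
      hcc _ ⟨_, ⟨x, x.2, rfl⟩, rfl⟩⟩) (fun a b => by apply Subtype.ext; simp [mul_assoc])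
    have hΦ : Function.Injective Φ := fun a b e => by
      have e' : cc⁻¹ * (h * ((a : M) : G) * h⁻¹) * cc = cc⁻¹ * (h * ((b : M) : G) * h⁻¹) * cc :=
        congrArg Subtype.val e
      simp only [mul_left_cancel_iff, mul_right_cancel_iff] at e'
      exact Subtype.ext (Subtype.ext e')
    obtain ⟨k, hk, hke⟩ := (Nat.dvd_prime_pow Nat.prime_two).1
      (show Nat.card K ∣ 2 ^ 8 by have := card_subgroup_dvd_card K; rwa [hMc] at this)
    have hle : Nat.card K ≤ 32 := P.card_T ▸ Nat.card_le_card_of_injective Φ hΦ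
    by_contra hn
    have hk5 : k = 5 := by
      by_contra h5
      have : k ≤ 5 := by
        by_contra h6
        have h64 : 2 ^ 6 ≤ 2 ^ k := Nat.pow_le_pow_right (by norm_num) (by omega)
        rw [hke] at hle; omega
      exact hn (by rw [hke, show 16 = 2 ^ 4 from rfl]; exact pow_dvd_pow 2 (by omega))
    subst hk5
    have hΦs : Function.Surjective Φ := ((Nat.bijective_iff_injective_and_card Φ).2
      ⟨hΦ, by rw [hke, P.card_T]; norm_num⟩).2
    -- squares lie below
    obtain ⟨a0, ha0, b0, hb0, e1, e2, e3⟩ := T_squares.2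
    obtain ⟨a, haK⟩ := hΦs ⟨_, P.emb_mem ha0⟩
    obtain ⟨b, hbK⟩ := hΦs ⟨_, P.emb_mem hb0⟩
    have hinv2 : ∀ {x : K} {k : ℕ}, (Φ x : G) = P.emb k → tmul k k = 0 → x * x = 1 := by
      intro x k e e0
      refine hΦ (Subtype.ext ?_)
      rw [map_mul, map_one, Subgroup.coe_mul, e, ← P.emb_mul, e0, P.emb_zero]; rfl
    have ha2 := hinv2 (congrArg Subtype.val haK) e2
    have hb2 := hinv2 (congrArg Subtype.val hbK) e3
    set y := a * b * (a * b) with hy
    have hΦy : (Φ y : G) = P.emb 6 := by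
      rw [hy, map_mul, map_mul, Subgroup.coe_mul, Subgroup.coe_mul, haK, hbK, ← P.emb_mul, ← P.emb_mul, e1]
    have par : ∀ x : M, (x : G) * x = 1 → ((dec x).1 : ℕ) % 2 = 0 := by
      intro x hx
      rcases hsplit x (by rw [hx]; exact one_mem _) with h | h <;> rw [h]
    have hyL : ((y : M) : G) ∈ S.L := by
      have hpa := par a (congrArg (fun z : K => ((z : M) : G)) ha2)
      have hpb := par b (congrArg (fun z : K => ((z : M) : G)) hb2)
      obtain ⟨n, hn', e, -⟩ := hmulM (dec (a : M)).1 (dec (b : M)).1 _ (dec (a : M)).2.2 _ (dec (b : M)).2.2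
      rw [hdec', hdec'] at e
      obtain ⟨m, hm', e', -⟩ := hmulM (((dec (a : M)).1 + (dec (b : M)).1 : ℕ) % 4)
        (((dec (a : M)).1 + (dec (b : M)).1 : ℕ) % 4) n hn' n hn'
      rw [← e] at e'
      show ((a : M) : G) * ((b : M) : G) * (((a : M) : G) * ((b : M) : G)) ∈ S.L
      rw [e', show ((((dec (a : M)).1 : ℕ) + (dec (b : M)).1) % 4 + (((dec (a : M)).1 : ℕ) + (dec (b : M)).1) % 4) % 4
        = 0 by omega, pow_zero, one_mul]
      exact hm'
    have hsqL : ∀ x : K, ((x : M) : G) * ((x : M) : G) ∈ S.L := by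
      intro x
      obtain ⟨k, hk', e⟩ := (Φ x).2
      rcases T_squares.1 k hk' with h0 | h0
      · have := hinv2 e.symm h0
        rw [show ((x : M) : G) * ((x : M) : G) = ((((x * x : K) : M)) : G) from rfl, this]
        exact one_mem _
      · have : x * x = y := hΦ (Subtype.ext (by
          rw [hΦy, map_mul, Subgroup.coe_mul, ← e, ← P.emb_mul, h0]))
        rw [show ((x : M) : G) * ((x : M) : G) = ((((x * x : K) : M)) : G) from rfl, this]
        exact hyL
    have hdK : d ∈ K := mem_centralizer_singleton_iff.2 rfl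
    have hd2 : ((dec d).1 : ℕ) = 2 := by
      rcases hsplit d (hsqL ⟨d, hdK⟩) with h | h
      · exfalso; apply hdL
        rw [← hdec' d, h, pow_zero, one_mul]; exact (dec d).2.2
      · exact h
    have hd : (d : G) = r ^ 2 * ((dec d).2 : G) := by rw [← hd2, hdec']
    have hdd := P.sq_of_conj hdt
    have hvd : ∀ x ∈ S.L, (d : G) * x * (d : G)⁻¹ ∈ S.L ∧ vecL ((d : G) * x * (d : G)⁻¹) = rot (rot (vecL x)) := by
      intro x hx
      have hl0 := (dec d).2.2
      have hx' : ((dec d).2 : G) * x * ((dec d).2 : G)⁻¹ ∈ S.L := mul_mem (mul_mem hl0 hx) (inv_mem hl0)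
      rw [show (d : G) * x * (d : G)⁻¹ = r ^ 2 * (((dec d).2 : G) * x * ((dec d).2 : G)⁻¹) * (r ^ 2)⁻¹ by
        rw [hd]; group]
      refine ⟨(mem_normalizer_iff.1 (pow_mem hrn 2) _).1 hx', ?_⟩
      rw [hvr2 _ hx']
      congr 2
      obtain ⟨l, hll, el⟩ := (dec d).2.2
      obtain ⟨m, hmm, rfl⟩ := hx
      obtain ⟨l', hl'', e'⟩ := inv_mem hl0
      rw [← e'] at hx' ⊢
      rw [← el] at e' ⊢
      have h1 := (lmul_tables.1 l hll m hmm)
      have h2 := (lmul_tables.1 _ h1.1 l' hl'')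
      rw [← S.phi_mul, ← S.phi_mul, (hval _ h2.1).2, h2.2.2, h1.2.2, (hval m hmm).2]
      have h3 := lmul_tables.1 l hll l' hl''
      have h0 : lmul l l' = 0 := S.phi_inj h3.1 (by norm_num) (by
        rw [S.phi_mul, e', S.phi_lt (show 0 < 32 by norm_num), P.emb_zero]; group)
      have h4 := h3.2.2
      rw [h0, show vec 0 = 0 by decide +kernel] at h4
      rw [show vec l' = vec l from (Nat.xor_eq_zero_iff.1 h4.symm).symm, Nat.xor_comm (vec l), Nat.xor_assoc,
        Nat.xor_self, Nat.xor_zero]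
    -- the fixed part
    set KL : Subgroup M := K ⊓ S.L.subgroupOf M
    have hKL : 16 ≤ Nat.card KL := by
      let f : K → KL × Bool := fun x =>
        if hx : ((x : M) : G) ∈ S.L then (⟨x, mem_inf.2 ⟨x.2, hx⟩⟩, false)
        else (⟨(x : M) * d, mem_inf.2 ⟨mul_mem x.2 hdK, by
          rcases hsplit (x : M) (hsqL x) with h | h
          · exact absurd (by rw [← hdec' (x : M), h, pow_zero, one_mul]; exact (dec (x : M)).2.2) hx
          · rw [mem_subgroupOf, Subgroup.coe_mul, ← hdec' (x : M), h, hd]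
            obtain ⟨n, hn', e, -⟩ := hmulM 2 2 _ (dec (x : M)).2.2 _ (dec d).2.2
            rw [e, pow_zero, one_mul]
            exact hn'⟩⟩, true)
      have hf : Function.Injective f := by
        intro x x' e
        simp only [f] at e
        split_ifs at e <;> simp only [Prod.mk.injEq, Subtype.mk.injEq, Bool.false_eq_true, Bool.true_eq_false,
          and_false, and_true] at e
        · exact Subtype.ext e
        · exact Subtype.ext (mul_right_cancel e)
      have h1 := Nat.card_le_card_of_injective f hf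
      rw [hke, Nat.card_prod, Nat.card_eq_fintype_card (α := Bool), Fintype.card_bool] at h1
      omega
    let F16 := ((List.range 64).filter fun k => rot (rot (vec k)) == vec k).toFinset
    have hmemL : ∀ x : KL, ∃ k ∈ F16, S.phi k = ((x : M) : G) := by
      intro x
      obtain ⟨k, hk', e⟩ := mem_subgroupOf.1 (mem_inf.1 x.2).2
      refine ⟨k, List.mem_toFinset.2 (List.mem_filter.2 ⟨List.mem_range.2 hk', beq_iff_eq.2 ?_⟩), e⟩
      have hfix := (hvd _ (S.phi_mem_L hk')).2
      rw [show (d : G) * S.phi k * (d : G)⁻¹ = S.phi k by rw [e, ← hKd ⟨_, (mem_inf.1 x.2).1⟩]; group,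
        (hval k hk').2] at hfix
      exact hfix.symm
    choose kk hkk1 hkk2 using hmemL
    have hall : ∀ k ∈ F16, ∃ x : KL, S.phi k = ((x : M) : G) := by
      let f : KL → F16 := fun x => ⟨kk x, hkk1 x⟩
      have hf : Function.Injective f := fun a b e => by
        have e' : kk a = kk b := congrArg Subtype.val e
        exact Subtype.ext (Subtype.ext (by rw [← hkk2 a, ← hkk2 b, e']))
      have hfs := ((Nat.bijective_iff_injective_and_card f).2 ⟨hf, le_antisymm (Nat.card_le_card_of_injective f hf)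
        (by rw [Nat.card_eq_finsetCard, List.toFinset_card_of_nodup (List.nodup_range.filter _), fixed_sixteen.1]
            exact hKL)⟩).2
      intro k hk'
      obtain ⟨x, hx⟩ := hfs ⟨k, hk'⟩
      exact ⟨x, by have := hkk2 x; rwa [show kk x = k from congrArg Subtype.val hx] at this⟩
    have hcomm : ∀ k < 64, rot (rot (vec k)) = vec k → (d : G) * S.phi k * (d : G)⁻¹ = S.phi k := by
      intro k hk' e
      obtain ⟨x, hx⟩ := hall k (List.mem_toFinset.2 (List.mem_filter.2 ⟨List.mem_range.2 hk', beq_iff_eq.2 e⟩))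
      rw [hx, ← hKd ⟨_, (mem_inf.1 x.2).1⟩]; group
    -- the contradiction
    obtain ⟨hy1, hy2⟩ := hvd _ (hel 1 (by norm_num)).1
    obtain ⟨k, hk', hke'⟩ := hy1
    rw [← hke', (hval k hk').2, (hel 1 (by norm_num)).2, show rot (rot (vec 1)) = 8 by decide +kernel] at hy2
    obtain ⟨hk32, hkU⟩ := corner_cases k hk' hy2
    set x := k % 32
    have hx16 : x < 16 := (show ∀ x ∈ sU, x < 16 by decide) _ hkU
    have hxq : Commute R.q (P.F.el x) := P.commute_fixed R.mem hx16 (by
      rw [R.code]; exact (show ∀ x ∈ sU, ev 58407 x = x by decide +kernel) _ hkU)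
    have e1 : (d : G) * P.F.el 1 * (d : G)⁻¹ = R.q * P.F.el x := by
      rw [← hke', Side.phi, P.emb_lt hx16, show k / 32 % 2 = 1 by omega, pow_one]; exact hxq.symm.eq
    have ex : (d : G) * P.F.el x * (d : G)⁻¹ = P.F.el x := by
      rw [← S.phi_el hx16]
      exact hcomm x (by omega) ((show ∀ x ∈ sU, rot (rot (vec x)) = vec x by decide +kernel) _ hkU)
    have eq' : (d : G) * R.q * (d : G)⁻¹ = P.F.el 1 * P.F.el x := by
      have h2 : R.q = (d : G) * P.F.el 1 * (d : G)⁻¹ * P.F.el x := by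
        rw [e1, mul_assoc, P.F.el_sq hx16, mul_one]
      conv_lhs => rw [h2]
      calc (d : G) * ((d : G) * P.F.el 1 * (d : G)⁻¹ * P.F.el x) * (d : G)⁻¹
          = (d : G) * d * P.F.el 1 * ((d : G) * d)⁻¹ * ((d : G) * P.F.el x * (d : G)⁻¹) := by group
        _ = _ := by rw [hdd, ex]; group
    have h33 := hcomm 33 (by norm_num) fixed_sixteen.2.2.2
    have e33 : S.phi 33 = P.F.el 1 * R.q := by
      rw [Side.phi, show 33 % 32 = 1 from rfl, P.emb_lt (by norm_num)]
      exact congrArg _ (pow_one _)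
    rw [e33] at h33
    have e5 : R.q * P.F.el 1 = P.F.el 1 * R.q := by
      calc R.q * P.F.el 1 = R.q * P.F.el 1 * (P.F.el x * P.F.el x) := by rw [P.F.el_sq hx16, mul_one]
        _ = R.q * (P.F.el 1 * P.F.el x) * P.F.el x := by group
        _ = R.q * (P.F.el x * P.F.el 1) * P.F.el x := by rw [(P.F.el_comm (by norm_num) hx16).eq]
        _ = R.q * P.F.el x * (P.F.el 1 * P.F.el x) := by group
        _ = (d : G) * (P.F.el 1 * R.q) * (d : G)⁻¹ := by rw [← e1, ← eq']; group
        _ = _ := h33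
    have h7 := S.q_el (show 1 < 16 by norm_num)
    rw [show ev 58407 1 = 7 by decide +kernel] at h7
    have := mul_right_cancel (e5.symm.trans h7)
    exact absurd (P.F.el_inj _ (by norm_num) _ (by norm_num) this) (by norm_num)
  -- the count
  refine exists_index_two_of_values P.ht2 M ψ (a := Multiplicative.ofAdd (4 : ZMod 8)) (by decide) hC hc (q := 8)
    hMc fun η hη => ?_
  set Y := {d : M // (d : G) ∉ S.L ∧ IsConj t (d : G) ∧ ψ d = η}
  letI act : MulAction M Y :=
    { smul := fun m y => ⟨m * y.1 * m⁻¹, by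
        refine ⟨fun hmem => y.2.1 ?_, y.2.2.1.trans (isConj_iff.2 ⟨(m : G), rfl⟩), ?_⟩
        · obtain ⟨i, hi, l, hl', hm⟩ := m.2
          have hmn : (m : G) ∈ normalizer (S.L : Set G) := by
            rw [hm]; exact mul_mem (pow_mem hrn i) (le_normalizer hl')
          exact (mem_normalizer_iff.1 hmn _).2 hmem
        · rw [map_mul, map_mul, map_inv, mul_inv_cancel_comm]; exact y.2.2.2⟩
      one_smul := fun y => Subtype.ext (by show 1 * y.1 * 1⁻¹ = y.1; group)
      mul_smul := fun a b y => Subtype.ext (by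
        show a * b * y.1 * (a * b)⁻¹ = a * (b * y.1 * b⁻¹) * a⁻¹; group) }
  have hY : 16 ∣ Nat.card Y := by
    haveI := Fintype.ofFinite (Quotient (MulAction.orbitRel M Y))
    rw [Nat.card_congr (MulAction.selfEquivSigmaOrbitsQuotientStabilizer M Y), Nat.card_sigma]
    refine Finset.dvd_sum fun ω _ => ?_
    set y := ω.out
    have hst : MulAction.stabilizer M y = centralizer ({y.1} : Set M) := by
      ext m
      rw [MulAction.mem_stabilizer_iff, mem_centralizer_singleton_iff]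
      constructor
      · intro h; exact mul_inv_eq_iff_eq_mul.1 (congrArg Subtype.val h)
      · intro h; exact Subtype.ext (mul_inv_eq_iff_eq_mul.2 h)
    have h16 := hstab y.1 y.2.1 y.2.2.1
    have hm := (MulAction.stabilizer M y).index_mul_card
    rw [hMc, hst] at hm
    obtain ⟨j, hj⟩ := h16
    refine ⟨j, ?_⟩
    show (MulAction.stabilizer M y).index = 16 * j
    rw [hst]
    have hpos : 0 < Nat.card (centralizer ({y.1} : Set M)) := Nat.card_pos
    refine Nat.eq_of_mul_eq_mul_right hpos ?_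
    rw [hm, mul_assoc, mul_comm j, ← hj]
    norm_num
  let X := {d : M // (d : G) ∈ S.L ∧ IsConj t (d : G) ∧ ψ d = η}
  have hsum : conjVal t M ψ η = Nat.card X + Nat.card Y := by
    rw [conjVal, ← Nat.card_sum]
    exact Nat.card_congr
      { toFun := fun d => if h : (d.1 : G) ∈ S.L then Sum.inl ⟨d.1, h, d.2⟩ else Sum.inr ⟨d.1, h, d.2⟩
        invFun := fun s => Sum.elim (fun d => ⟨d.1, d.2.2⟩) (fun d => ⟨d.1, d.2.2⟩) s
        left_inv := fun d => by by_cases h : (d.1 : G) ∈ S.L <;> simp [h]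
        right_inv := by
          rintro (d | d)
          · simp [d.2.1]
          · simp [d.2.1] }
  have hψL : ∀ x : M, (x : G) ∈ S.L →
      ψ x = Multiplicative.ofAdd (if lamL (x : G) then (4 : ZMod 8) else 0) := by
    intro x hx
    obtain ⟨h1, h2⟩ := hdecL x hx
    show Multiplicative.ofAdd (val _ _) = _
    simp only [val, h1, h2, Nat.cast_zero, ite_self, zero_add]
  have hX : Nat.card X = if η = Multiplicative.ofAdd (4 : ZMod 8) then 8 else 0 := by
    split
    case isFalse hne =>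
      haveI : IsEmpty X := ⟨fun d => by
        have := hψL d.1 d.2.1
        rw [d.2.2.2] at this
        cases hb : lamL (d.1 : G)
        · rw [hb] at this; exact hη (by simpa using this)
        · rw [hb] at this; exact hne (by simpa using this)⟩
      exact Nat.card_of_isEmpty
    case isTrue heq =>
      rw [← lam_count o, ← List.toFinset_card_of_nodup (List.nodup_range.filter _), ← Nat.card_eq_finsetCard]
      set Fs := ((List.range 64).filter fun k => dB k && lamB o k).toFinset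
      have hFs : ∀ k : Fs, k.1 < 64 ∧ dB k.1 = true ∧ lamB o k.1 = true := fun k => by
        have h := List.mem_filter.1 (List.mem_toFinset.1 k.2)
        exact ⟨List.mem_range.1 h.1, Bool.and_eq_true_iff.1 h.2⟩
      have hLM : ∀ x ∈ S.L, x ∈ M := fun x hx => ⟨0, by norm_num, x, hx, by simp⟩
      let f : Fs → X := fun k => ⟨⟨S.phi k.1, hLM _ (S.phi_mem_L (hFs k).1)⟩, S.phi_mem_L (hFs k).1,
        (hDk _ (hFs k).1).2 (hFs k).2.1, by
          rw [hψL _ (S.phi_mem_L (hFs k).1)]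
          simp only [(hval _ (hFs k).1).1, (hFs k).2.2, if_true]
          exact heq.symm⟩
      refine (Nat.card_congr (Equiv.ofBijective f ⟨fun a b e => Subtype.ext (S.phi_inj (hFs a).1 (hFs b).1
        (congrArg (fun z : X => ((z.1 : M) : G)) e)), fun d => ?_⟩)).symm
      obtain ⟨k, hk', e⟩ := d.2.1
      have h1 := hψL d.1 d.2.1
      replace h1 := d.2.2.2.symm.trans h1
      replace h1 := heq.symm.trans h1
      rw [show lamL ((d.1 : M) : G) = lamB o k by rw [← e]; exact (hval k hk').1] at h1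
      have hlam : lamB o k = true := by
        cases hb : lamB o k
        · rw [hb] at h1; exact absurd h1 (by decide)
        · rfl
      have hd' : dB k = true := (hDk k hk').1 (e ▸ d.2.2.1)
      exact ⟨⟨k, List.mem_toFinset.2 (List.mem_filter.2 ⟨List.mem_range.2 hk', by rw [hd', hlam]; rfl⟩)⟩,
        Subtype.ext (Subtype.ext e)⟩
  obtain ⟨j, hj⟩ := hY
  refine ⟨(if η = Multiplicative.ofAdd (4 : ZMod 8) then 1 else 0) + 2 * j, ?_, ?_⟩
  · rw [hsum, hX, hj]; split <;> ring
  · split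
    case isTrue h => exact iff_of_true ⟨j, by ring⟩ h
    case isFalse h => exact iff_of_false (by rw [Nat.zero_add, Nat.not_odd_iff_even]; exact even_two_mul j) h

end Pair

end Cfsg.Lib.TwoTimesSym
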