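import Cfsg.Agent.TwoTimesSym.Eight
import Cfsg.Agent.TwoTimesSym.Cycle

/-!
A group with two such frames has a subgroup of index two.
-/

set_option autoImplicit false
set_option linter.unusedSectionVars false
set_option linter.style.haveILetI false

namespace Cfsg.Lib.TwoTimesSym

open Subgroup

variable {G : Type*} [Group G]

set_option maxRecDepth 20000 in
theorem quarter_table : ∀ f ∈ cands [7, 8, 14] [7] 7, ev f 8 = 14 →
    badW [f] = true ∨ genB xHalf [f, cPi, cRho] = true := by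
  decide +kernel

namespace Pair

variable {t : G} (P : Pair t) [Finite G]

theorem seven (hD : P.DL = [7]) (hR : P.RL = [7]) : ∃ H : Subgroup G, H.index = 2 := by
  have hpi : P.nC cPi = 2 := by rw [P.nC_pi, hD]; decide +kernel
  rcases P.range_seven hD hR with hl | hl
  · exact P.index_two_of_sum hl sHalf (by decide +kernel) (q := 4) (by decide +kernel)
      (fun f => [10475, 20109, 33345, 58407].contains f) (by decide +kernel)
      (rs := [cPi]) (cs := [2]) (by decide +kernel) ⟨1, by simp [hpi], odd_one⟩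
  · exact P.index_two_of_sum hl sTwist (by decide +kernel) (q := 4) (by decide +kernel)
      (fun f => [33345, 33351, 33355, 33357].contains f) (by decide +kernel)
      (rs := [cPi]) (cs := [2]) (by decide +kernel) ⟨1, by simp [hpi], odd_one⟩

theorem quarter_of_exch (hD : P.DL = [7, 8, 14]) (hR : P.RL = [7]) {g : G} (hg : g ∈ P.NT) (hgN : g ∉ P.F.N)
    (hg1 : g * t * g⁻¹ = P.F.el 8) : ∃ H : Subgroup G, H.index = 2 := by
  have h8R : ¬ P.Reach 8 := by
    rw [P.reach_iff (by simp [hD]), hR]; decide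
  obtain ⟨y, hy, hgy, hyR⟩ := P.exch_step hg hgN (y := 8) (by simp [hD])
  have hyR' : P.Reach y := hyR.2 h8R
  rw [P.reach_iff hy, hR] at hyR'
  have hg8 : g * P.F.el 8 * g⁻¹ = P.F.el 7 := by
    simp only [List.mem_cons, List.not_mem_nil, or_false] at hyR'
    rcases hyR' with rfl | rfl
    · exact absurd (hgy.trans P.F.el_one) (P.no_swap hg hgN hg1)
    · exact hgy
  have g6 : g * P.F.el 6 * g⁻¹ = P.F.el 6 := P.conj_z hg
  have hγ : g * g ∈ P.F.N := P.mul_exch hg hgN hg hgN
  have hγT : g * g ∈ P.NT := mul_mem hg hg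
  have hγ1 : g * g * t * (g * g)⁻¹ = P.F.el 7 := by
    rw [show g * g * t * (g * g)⁻¹ = g * (g * t * g⁻¹) * g⁻¹ by group, hg1, hg8]
  have hγ8 : ev (P.F.code (g * g)) 8 = 14 := by
    rw [P.F.ev_code hγ (by norm_num)]
    refine P.F.act_eq (by norm_num) ?_
    rw [show g * g * P.F.el 8 * (g * g)⁻¹ = g * (g * P.F.el 8 * g⁻¹) * g⁻¹ by group, hg8,
      show (14 : ℕ) = 8 ^^^ 6 from rfl, P.F.el_xor 8 (by norm_num) 6 (by norm_num), ← hg1, ← g6,
      show (7 : ℕ) = 1 ^^^ 6 from rfl, P.F.el_xor 1 (by norm_num) 6 (by norm_num), P.F.el_one]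
    rw [g6]
    calc g * (t * P.F.el 6) * g⁻¹ = g * t * g⁻¹ * (g * P.F.el 6 * g⁻¹) := by group
      _ = _ := by rw [g6]
  have hfR : P.F.Real (P.F.code (g * g)) := ⟨_, hγ, rfl⟩
  have hmem := P.code_mem_cands hγ hγT (show 7 < 16 by norm_num) hγ1
  rw [hD, hR] at hmem
  have hreal : ∀ a ∈ [P.F.code (g * g), cPi, cRho], P.F.Real a := by
    intro a ha
    simp only [List.mem_cons, List.not_mem_nil, or_false] at ha
    rcases ha with rfl | rfl | rfl
    exacts [hfR, P.F.real_pi, P.F.real_rho]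
  have hl : P.IsRange xHalf := by
    rcases quarter_table _ hmem hγ8 with h | h
    · exact absurd h (by rw [P.not_badW (fs := [P.F.code (g * g)]) (by simpa using hfR)]; decide)
    · exact P.isRange_of_cover (P.real_of_genB hreal h) (by decide +kernel) (by decide +kernel)
        (by rw [hR]; decide +kernel)
  by_cases hz : P.nC 11915 = 0
  · obtain ⟨R⟩ := P.exists_turn hD hl hz hg hgN hg1 hg8
    exact R.index_two hD hl hz hg hgN hg1 hg8
  refine P.quad hD hz (by rwa [hl.nC_eq (f := 57927) (r := 11915) (by decide +kernel)]) ?_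
  set QN := Codes.ofRange hl xHalf (by decide +kernel)
  obtain ⟨c, hc, hfix⟩ := QN.fix_eq
  have hsum : (QN.l.map P.nC).sum = 56 := by
    rw [show QN.l = xHalf from rfl, P.sum_eq hl (rs := [cId, cPi, 11915]) (cs := [1, 6, 3]) (by decide +kernel)]
    simp [P.nC_id_eight hD, P.nC_pi_eight hD, ((P.of_eightB hD (by decide +kernel)).resolve_left hz).1]
  rw [hsum, show QN.l.length = 24 from rfl] at hfix
  have hpar := fixCount_parity P.ht2 QN.pre
  have hidx := QN.pre.index_mul_card
  rw [QN.card_pre, show QN.l.length = 24 from rfl] at hidx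
  omega

theorem quarter (hD : P.DL = [7, 8, 14]) (hR : P.RL = [7]) : ∃ H : Subgroup G, H.index = 2 := by
  rcases P.RL_cases with h | ⟨⟨g, hg, hgN⟩, -⟩
  · rw [hD, hR] at h; exact absurd h (by decide)
  obtain ⟨y, hy, hgy, hyR⟩ := P.exch_step hg hgN (y := 1) List.mem_cons_self
  rw [P.F.el_one] at hgy
  have hyR' : ¬ P.Reach y := fun h => hyR.1 h P.reach_one
  rw [P.reach_iff hy, hR] at hyR'
  rw [hD] at hy
  simp only [List.mem_cons, List.not_mem_nil, or_false] at hy hyR'
  have hy' : y = 8 ∨ y = 14 := by omega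
  rcases hy' with rfl | rfl
  · exact P.quarter_of_exch hD hR hg hgN hgy
  · refine P.swap.quarter_of_exch (by rw [P.swap_DL_eq (Or.inr hD), hD])
      (by rw [P.swap_RL_eq, hR]; decide +kernel) (g := g) (P.NT_swap ▸ hg)
      (fun h => hgN ((P.mem_N_iff' hg).2 h)) ?_
    show g * t * g⁻¹ = P.F'.el 8
    rw [P.l8, hgy]

include P in
/-- the main result -/
theorem index_two : ∃ H : Subgroup G, H.index = 2 := by
  rcases P.alive_cases with h | ⟨Q, hQ⟩
  · exact h
  simp only [alive, List.mem_cons, Prod.mk.injEq, List.not_mem_nil, or_false] at hQ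
  rcases hQ with ⟨hD, hR⟩ | ⟨hD, hR⟩ | ⟨hD, hR⟩ | ⟨hD, hR⟩ | ⟨hD, hR⟩ | ⟨hD, hR⟩
  · exact (Q.no_seven_empty hD hR).elim
  · exact Q.seven hD hR
  · exact (Q.no_single hD hR).elim
  · exact (Q.swap.no_single (by rw [Q.swap_DL_eq (Or.inr hD), hD])
      (by rw [Q.swap_RL_eq, hR]; decide +kernel)).elim
  · exact Q.quarter hD hR
  · exact Q.eight hD hR

end Pair

end Cfsg.Lib.TwoTimesSym
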