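import Cfsg.Agent.TwoTimesSym.Pair

/-!
Two frames in a centralizer isomorphic to the product of a group of order two and a symmetric group.
-/

set_option autoImplicit false
set_option linter.unusedSectionVars false
set_option linter.style.haveILetI false

namespace Cfsg.Lib.TwoTimesSym

open Subgroup Equiv

/-- all lists of a given length -/
def tuples (n : ℕ) : ℕ → List (List (Fin n))
  | 0 => [[]]
  | k + 1 => (tuples n k).flatMap fun l => (List.finRange n).map fun i => i :: l

theorem mem_tuples {n : ℕ} : ∀ l : List (Fin n), l ∈ tuples n l.length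
  | [] => List.mem_singleton_self []
  | i :: l => List.mem_flatMap.2 ⟨l, mem_tuples l, List.mem_map.2 ⟨i, List.mem_finRange i, rfl⟩⟩

/-- the product of the chosen permutations among three -/
def pE {n : ℕ} (a b c : Perm (Fin n)) (x : ℕ) : Perm (Fin n) :=
  (if x.testBit 1 then a else 1) * (if x.testBit 2 then b else 1) * (if x.testBit 3 then c else 1)

/-- the number of moved points -/
def wt {n : ℕ} (σ : Perm (Fin n)) : ℕ := ((List.finRange n).filter fun i => σ i != i).length

theorem wt_conj {n : ℕ} (σ τ : Perm (Fin n)) : wt (σ * τ * σ⁻¹) = wt τ := by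
  have h : ∀ π : Perm (Fin n), wt π = π.support.card := by
    intro π
    rw [wt, ← List.toFinset_card_of_nodup ((List.nodup_finRange n).filter _)]
    congr 1
    ext i
    simp
  rw [h, h, Perm.support_conj, Finset.card_map]

/-- the checks on a triple of commuting involutions with a transversal of their orbits -/
def tripleB {n : ℕ} (a b c p r : Perm (Fin n)) (R : List (Fin n)) : Bool :=
  ((List.range 16).all fun x => (List.range 16).all fun y =>
    decide (pE a b c (x ^^^ y) = pE a b c x * pE a b c y) &&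
      (decide (pE a b c x = pE a b c y) == (x / 2 == y / 2))) &&
  ((List.finRange n).all fun q => R.any fun s => (List.range 16).any fun x => pE a b c x s == q) &&
  ((tuples n R.length).all fun v =>
    ((List.range R.length).all fun i => (List.range R.length).all fun j => (List.range 16).all fun x =>
      (decide ((R[i]?).map (pE a b c x) = R[j]?) == decide ((v[i]?).map (pE a b c x) = v[j]?))) →
    (List.range 16).any fun x => R.map (pE a b c x) == v) &&
  ((List.range 16).all fun x => !(x % 2 == 0 && wt (pE a b c x) == wt a) || [2, 4, 8].contains x) &&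
  decide (wt b = wt a ∧ wt c = wt a) &&
  decide (p * p = 1) &&
  ((List.range 16).all fun x => decide (p * pE a b c x * p⁻¹ = pE a b c (ev cPi x)) &&
    decide (r * pE a b c x * r⁻¹ = pE a b c (ev cRho x)) &&
      (ev cPi x % 2 == x % 2) && (ev cRho x % 2 == x % 2))

theorem perm_code_table : ∀ x ∈ [2, 4, 8], ∀ y ∈ [2, 4, 8], ∀ z ∈ [2, 4, 8], x ≠ y → x ≠ z → y ≠ z →
    ∃ s ∈ cS3, ev s 2 = x ∧ ev s 4 = y ∧ ev s 8 = z ∧ ev s 1 = 1 := by decide +kernel

variable {G : Type*} [Group G]

theorem exists_frame_of_model {n : ℕ} {t : G}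
    (φ : ↥(centralizer ({t} : Set G)) ≃* Multiplicative (ZMod 2) × Perm (Fin n))
    (hφ : φ ⟨t, mem_centralizer_singleton_iff.2 rfl⟩ = (Multiplicative.ofAdd 1, 1))
    {a b c p r : Perm (Fin n)} {R : List (Fin n)} (h : tripleB a b c p r R = true) :
    ∃ F : Frame t, (∀ x, F.el x = (φ.symm (Multiplicative.ofAdd (x : ZMod 2), pE a b c x) : G)) ∧
      F.p = (φ.symm (1, p) : G) := by
  simp only [tripleB, Bool.and_eq_true, List.all_eq_true, List.any_eq_true, List.mem_range, decide_eq_true_iff,
    beq_iff_eq] at h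
  obtain ⟨⟨⟨⟨⟨⟨hE, hR⟩, htab⟩, hwt⟩, hwb, hwc⟩, hp⟩, hpr⟩ := h
  set M : ℕ → Multiplicative (ZMod 2) × Perm (Fin n) := fun x => (Multiplicative.ofAdd (x : ZMod 2), pE a b c x)
  have hadd : ∀ x < 16, ∀ y < 16, M (x ^^^ y) = M x * M y := by
    intro x hx y hy
    refine Prod.ext ?_ (hE x hx y hy).1
    show Multiplicative.ofAdd _ = Multiplicative.ofAdd _ * Multiplicative.ofAdd _
    rw [← ofAdd_add, ← Nat.cast_add, (ZMod.natCast_eq_natCast_iff' _ _ _).2]
    exact (show ∀ x < 16, ∀ y < 16, (x ^^^ y) % 2 = (x + y) % 2 by decide +kernel) x hx y hy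
  have hinj : ∀ x < 16, ∀ y < 16, M x = M y → x = y := by
    intro x hx y hy e
    have h1 : x % 2 = y % 2 := (ZMod.natCast_eq_natCast_iff' _ _ _).1 (Multiplicative.ofAdd.injective (congrArg Prod.fst e))
    have e' : pE a b c x = pE a b c y := congrArg Prod.snd e
    have h2 := (hE x hx y hy).2
    rw [decide_eq_true e'] at h2
    have : x / 2 = y / 2 := beq_iff_eq.1 h2.symm
    omega
  have hC : ∀ {g : G}, Commute g t → g ∈ centralizer ({t} : Set G) := fun hg =>
    mem_centralizer_singleton_iff.2 hg.eq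
  have lift : ∀ (g : ↥(centralizer ({t} : Set G))) (x y : ℕ),
      ((g : G) * (φ.symm (M x) : G) * (g : G)⁻¹ = (φ.symm (M y) : G)) ↔ φ g * M x * (φ g)⁻¹ = M y := by
    intro g x y
    rw [← φ.symm.injective.eq_iff, map_mul, map_mul, map_inv, φ.symm_apply_apply, Subtype.ext_iff,
      Subgroup.coe_mul, Subgroup.coe_mul, Subgroup.coe_inv]
  have hM1 : M 1 = (Multiplicative.ofAdd 1, 1) := by simp [M, pE, Nat.testBit]
  refine ⟨{
    el := fun x => (φ.symm (M x) : G)
    p := (φ.symm (1, p) : G)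
    r := (φ.symm (1, r) : G)
    el_xor := fun x hx y hy => by rw [hadd x hx y hy, map_mul, Subgroup.coe_mul]
    el_inj := fun x hx y hy e => hinj x hx y hy (φ.symm.injective (Subtype.ext e))
    el_one := by rw [hM1, ← hφ, φ.symm_apply_apply]
    cent := ?_
    stab := ?_
    p_sq := by
      rw [← Subgroup.coe_mul, ← map_mul, Prod.mk_mul_mk, one_mul, hp, show ((1 : Multiplicative (ZMod 2)), (1 : Perm (Fin n))) = 1 from rfl,
        map_one, Subgroup.coe_one]
    p_el := fun x hx => by
      refine (lift _ x _).2 ?_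
      obtain ⟨⟨⟨h1, -⟩, h3⟩, -⟩ := hpr x hx
      rw [φ.apply_symm_apply]
      refine Prod.ext ?_ h1
      show 1 * Multiplicative.ofAdd (x : ZMod 2) * 1⁻¹ = Multiplicative.ofAdd _
      rw [one_mul, inv_one, mul_one, (ZMod.natCast_eq_natCast_iff' _ _ _).2 h3]
    r_el := fun x hx => by
      refine (lift _ x _).2 ?_
      obtain ⟨⟨⟨-, h2⟩, -⟩, h4⟩ := hpr x hx
      rw [φ.apply_symm_apply]
      refine Prod.ext ?_ h2
      show 1 * Multiplicative.ofAdd (x : ZMod 2) * 1⁻¹ = Multiplicative.ofAdd _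
      rw [one_mul, inv_one, mul_one, (ZMod.natCast_eq_natCast_iff' _ _ _).2 h4] },
    fun x => rfl, rfl⟩
  · -- self-centralising
    intro g hg
    have hgt : Commute g t := by
      have := hg 1 (by norm_num)
      rwa [hM1, ← hφ, φ.symm_apply_apply] at this
    set m := φ ⟨g, hC hgt⟩ with hm
    set σ := m.2
    have hσ : ∀ x < 16, ∀ q, σ (pE a b c x q) = pE a b c x (σ q) := by
      intro x hx q
      have e := (lift ⟨g, hC hgt⟩ x x).1 (mul_inv_eq_iff_eq_mul.2 (hg x hx).eq)
      have e2 : σ * pE a b c x * σ⁻¹ = pE a b c x := congrArg Prod.snd e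
      exact DFunLike.congr_fun (mul_inv_eq_iff_eq_mul.1 e2) q
    have hcond : ∀ i < R.length, ∀ j < R.length, ∀ x < 16,
        decide ((R[i]?).map (pE a b c x) = R[j]?) =
          decide (((R.map σ)[i]?).map (pE a b c x) = (R.map σ)[j]?) := by
      intro i hi j hj x hx
      rw [decide_eq_decide, List.getElem?_map, List.getElem?_map, List.getElem?_eq_getElem hi,
        List.getElem?_eq_getElem hj]
      simp only [Option.map_some, Option.some.injEq]
      rw [← hσ x hx, σ.injective.eq_iff]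
    obtain ⟨x, hx, hxe⟩ := htab (R.map σ) (by
      have := mem_tuples (R.map σ)
      rwa [List.length_map] at this) hcond
    have hsx : σ = pE a b c x := by
      refine Equiv.ext fun q => ?_
      obtain ⟨s, hs, y, hy, rfl⟩ := hR q (List.mem_finRange q)
      rw [hσ y hy, ← List.map_inj_left.1 hxe s hs]
      rw [← Perm.mul_apply, ← Perm.mul_apply, ← (hE y hy x hx).1, ← (hE x hx y hy).1, Nat.xor_comm]
    obtain ⟨z, hz, hz1, hz2⟩ : ∃ z : ℕ, z < 16 ∧ (z : ZMod 2) = Multiplicative.toAdd m.1 ∧ z / 2 = x / 2 :=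
      ⟨2 * (x / 2) + (Multiplicative.toAdd m.1).val, by
        have := ZMod.val_lt (Multiplicative.toAdd m.1)
        omega, by
        rw [Nat.cast_add, Nat.cast_mul, show ((2 : ℕ) : ZMod 2) = 0 from rfl, zero_mul, zero_add,
          ZMod.natCast_val, ZMod.cast_id], by
        have := ZMod.val_lt (Multiplicative.toAdd m.1)
        omega⟩
    refine ⟨z, hz, ?_⟩
    have e : M z = m := by
      refine Prod.ext ?_ ?_
      · show Multiplicative.ofAdd (z : ZMod 2) = m.1
        rw [hz1]; rfl
      · show pE a b c z = σ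
        rw [hsx]
        have h2 := (hE z hz x hx).2
        rw [show (z / 2 == x / 2) = true from beq_iff_eq.2 hz2] at h2
        exact of_decide_eq_true h2
    show (φ.symm (M z) : G) = g
    rw [e, hm, φ.symm_apply_apply]
  · -- the stabiliser permutes the three vectors
    intro g hgt hg
    set m := φ ⟨g, hC hgt⟩ with hm
    have key : ∀ x ∈ [2, 4, 8], ∃ y ∈ [2, 4, 8], g * (φ.symm (M x) : G) * g⁻¹ = φ.symm (M y) := by
      intro x hx
      have hx16 : x < 16 := (show ∀ x ∈ [2, 4, 8], x < 16 by decide) x hx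
      obtain ⟨y, hy, e⟩ := hg x hx16
      refine ⟨y, ?_, e⟩
      have e' := (lift ⟨g, hC hgt⟩ x y).1 e
      have e1 : Multiplicative.ofAdd (x : ZMod 2) = Multiplicative.ofAdd (y : ZMod 2) := by
        have := congrArg Prod.fst e'
        simpa [M, mul_comm] using this
      have hy2 : y % 2 = 0 := by
        rw [← (ZMod.natCast_eq_natCast_iff' _ _ _).1 (Multiplicative.ofAdd.injective e1)]
        exact (show ∀ x ∈ [2, 4, 8], x % 2 = 0 by decide) x hx
      have e2 : m.2 * pE a b c x * m.2⁻¹ = pE a b c y := congrArg Prod.snd e'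
      have hw : wt (pE a b c y) = wt a := by
        rw [← e2, wt_conj]
        simp only [List.mem_cons, List.not_mem_nil, or_false] at hx
        rcases hx with rfl | rfl | rfl <;> simp [pE, Nat.testBit, hwb, hwc]
      have hh := hwt y hy
      simpa [hy2, hw] using hh
    obtain ⟨x2, hx2, e2⟩ := key 2 (by decide)
    obtain ⟨x4, hx4, e4⟩ := key 4 (by decide)
    obtain ⟨x8, hx8, e8⟩ := key 8 (by decide)
    have ne : ∀ {x y u v : ℕ}, x < 16 → y < 16 → x ≠ y → g * (φ.symm (M x) : G) * g⁻¹ = φ.symm (M u) →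
        g * (φ.symm (M y) : G) * g⁻¹ = φ.symm (M v) → u ≠ v := by
      intro x y u v hx hy hne h1 h2 huv
      subst huv
      exact hne (hinj x hx y hy (φ.symm.injective (Subtype.ext (mul_left_cancel (mul_right_cancel (h1.trans h2.symm))))))
    obtain ⟨s, hs, s2, s4, s8, s1⟩ := perm_code_table x2 hx2 x4 hx4 x8 hx8
      (ne (by norm_num) (by norm_num) (by norm_num) e2 e4) (ne (by norm_num) (by norm_num) (by norm_num) e2 e8)
      (ne (by norm_num) (by norm_num) (by norm_num) e4 e8)
    refine ⟨s, hs, fun x hx => ?_⟩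
    have hmul : ∀ {u v : ℕ}, u < 16 → v < 16 →
        g * (φ.symm (M u) : G) * g⁻¹ = φ.symm (M (ev s u)) → g * (φ.symm (M v) : G) * g⁻¹ = φ.symm (M (ev s v)) →
        g * (φ.symm (M (u ^^^ v)) : G) * g⁻¹ = φ.symm (M (ev s (u ^^^ v))) := by
      intro u v hu hv h1 h2
      rw [hadd u hu v hv, (show ∀ s ∈ cS3, ∀ u < 16, ∀ v < 16, ev s (u ^^^ v) = ev s u ^^^ ev s v by decide +kernel)
        s hs u hu v hv, hadd _ (Frame.ev_lt _ _) _ (Frame.ev_lt _ _), map_mul, map_mul, Subgroup.coe_mul,
        Subgroup.coe_mul, ← h1, ← h2]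
      group
    have h1 : g * (φ.symm (M 1) : G) * g⁻¹ = φ.symm (M (ev s 1)) := by
      rw [s1, hM1, ← hφ, φ.symm_apply_apply]; exact mul_inv_eq_iff_eq_mul.2 hgt.eq
    rw [← s2] at e2; rw [← s4] at e4; rw [← s8] at e8
    have h0 : g * (φ.symm (M 0) : G) * g⁻¹ = φ.symm (M (ev s 0)) := by
      have : M 0 = 1 := by simp [M, pE, Nat.testBit]
      rw [show ev s 0 = 0 by simp [ev], this, map_one, Subgroup.coe_one]; group
    have base : ∀ u ∈ [0, 1, 2, 4, 8], g * (φ.symm (M u) : G) * g⁻¹ = φ.symm (M (ev s u)) := by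
      intro u hu
      simp only [List.mem_cons, List.not_mem_nil, or_false] at hu
      rcases hu with rfl | rfl | rfl | rfl | rfl
      exacts [h0, h1, e2, e4, e8]
    obtain ⟨u1, hu1, u2, hu2, u3, hu3, u4, hu4, hxe⟩ := (show ∀ x < 16, ∃ u1 ∈ [0, 1], ∃ u2 ∈ [0, 2],
      ∃ u3 ∈ [0, 4], ∃ u4 ∈ [0, 8], x = u1 ^^^ u2 ^^^ u3 ^^^ u4 by decide +kernel) x hx
    simp only [List.mem_cons, List.not_mem_nil, or_false] at hu1 hu2 hu3 hu4
    rw [hxe]
    refine hmul (Frame.xor_lt (Frame.xor_lt (by omega) (by omega)) (by omega)) (by omega)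
      (hmul (Frame.xor_lt (by omega) (by omega)) (by omega)
        (hmul (by omega) (by omega) (base u1 ?_) (base u2 ?_)) (base u3 ?_)) (base u4 ?_)
    all_goals simp only [List.mem_cons, List.not_mem_nil, or_false] <;> omega

theorem central_perm {n : ℕ} (hn : 2 < n) {σ : Perm (Fin n)} (h : ∀ π : Perm (Fin n), σ * π = π * σ) :
    σ = 1 := by
  refine Equiv.ext fun i => ?_
  rw [Perm.one_apply]
  by_contra hi
  obtain ⟨k, hk1, hk2⟩ : ∃ k, k ≠ i ∧ k ≠ σ i := by
    by_contra hc
    push Not at hc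
    have h' : (Finset.univ : Finset (Fin n)) ⊆ {i, σ i} := fun k _ => by
      rw [Finset.mem_insert, Finset.mem_singleton]
      exact or_iff_not_imp_left.2 (hc k)
    have := (Finset.card_le_card h').trans Finset.card_le_two
    rw [Finset.card_univ, Fintype.card_fin] at this
    omega
  have e := DFunLike.congr_fun (h (swap i k)) i
  rw [Perm.mul_apply, Perm.mul_apply, swap_apply_left, swap_apply_of_ne_of_ne hi (Ne.symm hk2)] at e
  exact hk1 (σ.injective e)

/-- two frames from the model -/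
theorem exists_pair {n : ℕ} (hn : 2 < n) {t : G} (ht : orderOf t = 2)
    (φ : ↥(centralizer ({t} : Set G)) ≃* Multiplicative (ZMod 2) × Perm (Fin n))
    {a b c p r a' b' c' p' r' : Perm (Fin n)} {R R' : List (Fin n)}
    (h : tripleB a b c p r R = true) (h' : tripleB a' b' c' p' r' R' = true)
    (hlink : (decide (a' = p ∧ a = p') && decide (pE a' b' c' 14 = pE a b c 8) &&
      decide (pE a' b' c' 8 = pE a b c 14) && decide (pE a' b' c' 6 = pE a b c 6)) = true)
    {k : ℕ} (hk : Odd k) (hcard : 2 * n.factorial = 32 * k) : Nonempty (Pair t) := by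
  set tC : ↥(centralizer ({t} : Set G)) := ⟨t, mem_centralizer_singleton_iff.2 rfl⟩ with htC
  have hcent : ∀ m, φ tC * m = m * φ tC := by
    intro m
    rw [← φ.apply_symm_apply m, ← map_mul, ← map_mul]
    congr 1
    exact Subtype.ext (mem_centralizer_singleton_iff.1 (φ.symm m).2).symm
  have h2 : (φ tC).2 = 1 := central_perm hn fun π => congrArg Prod.snd (hcent (1, π))
  have hne : φ tC ≠ 1 := by
    intro e
    rw [← map_one φ] at e
    have : t = 1 := congrArg Subtype.val (φ.injective e)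
    rw [this, orderOf_one] at ht
    exact absurd ht (by norm_num)
  have hφ : φ tC = (Multiplicative.ofAdd 1, 1) := by
    refine Prod.ext ?_ h2
    show (φ tC).1 = _
    exact (show ∀ z : Multiplicative (ZMod 2), z ≠ 1 → z = Multiplicative.ofAdd 1 by decide) _
      (fun e => hne (Prod.ext e h2))
  obtain ⟨F, hF, hFp⟩ := exists_frame_of_model φ hφ h
  obtain ⟨F', hF', hF'p⟩ := exists_frame_of_model φ hφ h'
  simp only [Bool.and_eq_true, decide_eq_true_iff] at hlink
  obtain ⟨⟨⟨⟨l2, l2'⟩, l14⟩, l8⟩, l6⟩ := hlink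
  have even : ∀ x, x % 2 = 0 → ((x : ℕ) : ZMod 2) = 0 := fun x hx => by
    rw [ZMod.natCast_eq_zero_iff]; exact Nat.dvd_of_mod_eq_zero hx
  exact ⟨{
    F := F
    F' := F'
    l2 := by rw [hF', hFp, even 2 rfl]; simp [pE, Nat.testBit, l2]
    l2' := by rw [hF, hF'p, even 2 rfl]; simp [pE, Nat.testBit, l2']
    l14 := by rw [hF', hF, l14, even 14 rfl, even 8 rfl]
    l8 := by rw [hF', hF, l8, even 14 rfl, even 8 rfl]
    l6 := by rw [hF', hF, l6]
    hcard := ⟨k, hk, by
      rw [Nat.card_congr φ.toEquiv, Nat.card_prod, Nat.card_eq_fintype_card, Nat.card_eq_fintype_card,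
        Fintype.card_perm, Fintype.card_fin, Fintype.card_multiplicative, ZMod.card]
      exact hcard⟩ }⟩

end Cfsg.Lib.TwoTimesSym
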