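import Cfsg.Agent.TwoTimesSym.Classes

/-!
The case in which the normaliser of a frame has a translation block outside it in a larger `2`-group.
-/

set_option autoImplicit false
set_option linter.unusedSectionVars false
set_option linter.style.haveILetI false

namespace Cfsg.Lib.TwoTimesSym

open Subgroup

variable {G : Type*} [Group G]

/-- the translations -/
def tr8 : List ℕ := [33825, 7608, 46866, 53620, 11915, 18669, 57927, 31710]

/-- the translations fixing a coordinate -/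
def mu3 : List ℕ := [7608, 46866, 53620]

theorem big_mask : (∀ x < 16, mask [7, 8, 14] x = true → ∃ s ∈ sFull, ev s 1 = x) ∧
    (∀ x < 16, mask [7, 8, 14] x = true ∨
      ∃ a < 16, ∃ b < 16, mask [7, 8, 14] a = true ∧ mask [7, 8, 14] b = true ∧ a ^^^ b = x) ∧
    (∀ x < 16, ev 7608 x = x ∨ ev 7608 (x ^^^ 1) = x ^^^ 1) ∧
    (∀ a < 16, ∀ b < 16, mask [7, 8, 14] a = true → mask [7, 8, 14] b = true → ev 7608 (a ^^^ b) = a ^^^ b) := by
  decide +kernel

theorem big_mu : ∀ a ∈ mu3, (fixL a).length = 8 ∧ a ≠ cId ∧ a ∈ xFull ∧ a ∈ tr8 ∧ a ∈ sFull ∧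
    (∀ x < 16, ev a x = x ↔ ev 7608 x = x) := by
  decide +kernel

theorem big_move : ∀ f ∈ [33345, 58407, 7128, 32190],
    comp (comp f 46866) f = 53620 := by
  decide +kernel

theorem big_split : ∀ f ∈ sFull, f = cId ∨ f ∈ [33345, 58407, 7128, 32190] ∨ f ∈ mu3 ∨
    comp f f ≠ cId ∨ conjB xFull 31710 f = true ∨ conjB xFull 11915 f = true := by
  decide +kernel

theorem big_pair : ∀ a ∈ mu3, a = 7608 ∨ (comp (comp cPi a) cPi ∈ mu3 ∧ comp (comp cPi a) cPi ≠ a) := by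
  decide +kernel

theorem big_central : ∀ s ∈ sFull, ∀ s' ∈ sFull, comp s s' = cId → comp (comp s 7608) s' = 7608 := by
  decide +kernel

theorem big_tr8 : (∀ f ∈ tr8, ∀ x < 16, ev 7608 x = x → ev f x = x) ∧
    (∀ f ∈ sFull, (∀ x < 16, ev 7608 x = x → ev f x = x) → f ∈ tr8) ∧
    (∀ f ∈ tr8, f = cId ∨ f ∈ mu3 ∨ conjB xFull 31710 f = true ∨ conjB xFull 11915 f = true) := by
  decide +kernel

theorem big_normal : (∀ a ∈ xFull, ∀ x < 16, ev 7608 x = x → ev 7608 (ev a x) = ev a x) ∧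
    (∀ a ∈ xFull, ∀ a' ∈ xFull, comp a a' = cId → ∀ f ∈ tr8, comp (comp a f) a' ∈ tr8) ∧
    (∀ c ∈ mu3, ∃ a ∈ xFull, ∀ a' ∈ xFull, comp a a' = cId → comp (comp a 7608) a' = c) := by
  decide +kernel

namespace Pair

variable {t : G} (P : Pair t) [Finite G]

theorem mem_normalizer_of_le {K : Subgroup G} {g : G} (h : ∀ x ∈ K, g * x * g⁻¹ ∈ K) :
    g ∈ normalizer (K : Set G) := by
  rw [mem_normalizer_iff]
  let φ : K → K := fun x => ⟨g * x.1 * g⁻¹, h _ x.2⟩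
  have hφ : Function.Surjective φ := Finite.surjective_of_injective fun a b e => by
    have e' : g * a.1 * g⁻¹ = g * b.1 * g⁻¹ := congrArg Subtype.val e
    exact Subtype.ext (mul_left_cancel (mul_right_cancel e'))
  refine fun n => ⟨h n, fun hn => ?_⟩
  obtain ⟨a, ha⟩ := hφ ⟨_, hn⟩
  have e' : g * a.1 * g⁻¹ = g * n * g⁻¹ := congrArg Subtype.val ha
  exact (mul_left_cancel (mul_right_cancel e')) ▸ a.2

theorem code_conj {g x : G} (hg : g ∈ P.F.N) (hx : x ∈ P.F.N) :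
    P.F.code (g * x * g⁻¹) = comp (comp (P.F.code g) (P.F.code x)) (P.F.code g⁻¹) ∧
      comp (P.F.code g) (P.F.code g⁻¹) = cId := by
  rw [← P.F.code_mul hg hx, ← P.F.code_mul (mul_mem hg hx) (inv_mem hg), ← P.F.code_mul hg (inv_mem hg),
    mul_inv_cancel, P.F.code_of_mem_A (one_mem _)]
  exact ⟨rfl, rfl⟩

theorem commute_fixed {g : G} (hg : g ∈ P.F.N) {x : ℕ} (hx : x < 16) (h : ev (P.F.code g) x = x) :
    Commute g (P.F.el x) := by
  have e := P.F.conj_el hg hx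
  rw [h] at e
  exact mul_inv_eq_iff_eq_mul.1 e

set_option maxHeartbeats 1000000 in
theorem big (hD : P.DL = [7, 8, 14]) (hl : P.IsRange xFull) (he : P.nC 7128 = 4)
    (hmu : P.nC 7608 = 8) (hm : P.nC 31710 = 0) (hz : P.nC 11915 = 0) :
    ∃ H : Subgroup G, H.index = 2 := by
  classical
  set QN := Codes.ofRange hl xFull (by decide +kernel) with hQN
  have hNpre : ∀ g, g ∈ QN.pre ↔ g ∈ P.F.N := fun g => ⟨fun h => h.1, fun h => ⟨h, hl.mem g h⟩⟩
  have hQNe : QN.pre = P.F.N := SetLike.ext hNpre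
  have hcardN : Nat.card P.F.N = 768 := by rw [← hQNe, QN.card_pre]; rfl
  obtain ⟨c, hc, hfix⟩ := QN.fix_eq
  have hsum : (QN.l.map P.nC).sum = 80 := by
    rw [show QN.l = xFull from rfl, P.sum_eq hl (rs := [cId, cPi, 7128, 7608, 11915, 31710])
      (cs := [1, 6, 6, 3, 3, 1]) (by decide +kernel)]
    simp [P.nC_id_eight hD, P.nC_pi_eight hD, he, hmu, hm, hz]
  rw [hsum, show QN.l.length = 48 from rfl, hQNe] at hfix
  have hpar := fixCount_parity P.ht2 P.F.N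
  have hidx := P.F.N.index_mul_card
  rw [hcardN] at hidx
  rw [Nat.odd_iff] at hc
  by_cases h4 : P.F.N.index % 4 = 0
  · exact exists_index_two_of_sign P.ht2 P.F.N rfl (by omega)
  exfalso
  set Q := Codes.ofRange hl sFull (by decide +kernel) with hQ
  set W := Q.pre with hW
  have hWc : Nat.card W = 256 := by rw [hW, Q.card_pre]; rfl
  have hWN : W ≤ P.F.N := fun g hg => hg.1
  haveI : Fact (Nat.Prime 2) := ⟨Nat.prime_two⟩
  obtain ⟨S, hSc, hWS⟩ := Sylow.exists_subgroup_card_pow_succ (G := G) (p := 2) (n := 8)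
    (by obtain ⟨m, hm'⟩ : 2 ∣ P.F.N.index := Nat.dvd_of_mod_eq_zero (by omega)
        exact ⟨3 * m, by rw [← hidx, hm']; ring⟩) (H := W) (by rw [hWc]; norm_num)
  have hWS2 : (W.subgroupOf S).index = 2 := by
    have e := (W.subgroupOf S).index_mul_card
    rw [Nat.card_congr (subgroupOfEquivOfLe hWS).toEquiv, hWc, hSc] at e
    omega
  obtain ⟨σ, hσS, hσW⟩ := SetLike.exists_of_lt (lt_of_le_of_ne hWS fun e => by
    rw [e, hSc] at hWc; norm_num at hWc)
  have hσN : σ ∉ P.F.N := by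
    intro h
    have h1 : Nat.card (S ⊓ P.F.N : Subgroup G) ∣ 512 := by
      have := card_dvd_of_le (inf_le_left : S ⊓ P.F.N ≤ S); rwa [hSc] at this
    have h2 : Nat.card (S ⊓ P.F.N : Subgroup G) ∣ 768 := hcardN ▸ card_dvd_of_le inf_le_right
    have h3 := Nat.dvd_gcd h1 h2
    rw [show Nat.gcd 512 768 = 256 by decide +kernel] at h3
    have e := eq_of_le_of_card_ge (le_inf hWS hWN) (by rw [hWc]; exact Nat.le_of_dvd (by norm_num) h3)
    exact hσW (e ▸ mem_inf.2 ⟨hσS, h⟩)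
  haveI hWnormal := normal_of_index_eq_two hWS2
  have hσconj : ∀ w ∈ W, σ * w * σ⁻¹ ∈ W ∧ σ⁻¹ * w * σ ∈ W := by
    intro w hw
    have h1 := hWnormal.conj_mem ⟨w, hWS hw⟩ hw ⟨σ, hσS⟩
    have h2 := hWnormal.conj_mem ⟨w, hWS hw⟩ hw (⟨σ, hσS⟩⁻¹)
    rw [inv_inv] at h2
    exact ⟨h1, h2⟩
  have hσσ : σ * σ ∈ W := mul_self_mem_of_index_two hWS2 ⟨σ, hσS⟩
  -- the second elementary subgroup
  let A' : Subgroup G := P.F.A.map (MulAut.conj σ).toMonoidHom
  have hA'm : ∀ g, g ∈ A' ↔ σ⁻¹ * g * σ ∈ P.F.A := by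
    intro g
    constructor
    · rintro ⟨a, ha, rfl⟩; simpa [mul_assoc] using ha
    · intro h; exact ⟨_, h, by simp [mul_assoc]⟩
  have hA'c : Nat.card A' = 16 := by
    rw [show A' = P.F.A.map (MulAut.conj σ).toMonoidHom from rfl,
      card_map_of_injective (MulAut.conj σ).injective, P.F.card_A]
  have hAW : P.F.A ≤ W := fun a ha =>
    ⟨P.F.A_le_N ha, by rw [P.F.code_of_mem_A ha]; exact Q.id_mem⟩
  have hA'W : A' ≤ W := by
    intro g hg
    have h := (hσconj _ (hAW ((hA'm g).1 hg))).1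
    rwa [show σ * (σ⁻¹ * g * σ) * σ⁻¹ = g by group] at h
  have hA'n : ∀ w ∈ W, ∀ g ∈ A', w * g * w⁻¹ ∈ A' := by
    intro w hw g hg
    rw [hA'm, show σ⁻¹ * (w * g * w⁻¹) * σ = σ⁻¹ * w * σ * (σ⁻¹ * g * σ) * (σ⁻¹ * w * σ)⁻¹ by group]
    exact (P.mem_N_iff.1 (hWN (hσconj w hw).2) _).2 ((hA'm g).1 hg)
  have hA'comm : ∀ a ∈ A', ∀ b ∈ A', Commute a b := by
    intro a ha b hb
    obtain ⟨x, hx, ex⟩ := (hA'm a).1 ha
    obtain ⟨y, hy, ey⟩ := (hA'm b).1 hb
    rw [show a = σ * P.F.el x * σ⁻¹ by rw [ex]; group, show b = σ * P.F.el y * σ⁻¹ by rw [ey]; group]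
    show _ = _
    calc σ * P.F.el x * σ⁻¹ * (σ * P.F.el y * σ⁻¹) = σ * (P.F.el x * P.F.el y) * σ⁻¹ := by group
      _ = _ := by rw [(P.F.el_comm hx hy).eq]; group
  set d := σ * t * σ⁻¹ with hd
  have hdA' : d ∈ A' := (hA'm d).2 (by rw [hd, show σ⁻¹ * (σ * t * σ⁻¹) * σ = t by group]; exact P.F.t_mem)
  have hdt : IsConj t d := isConj_iff.2 ⟨σ, rfl⟩
  have hdN : d ∈ P.F.N := hWN (hA'W hdA')
  have hdd := P.sq_of_conj hdt
  have horb : ∀ e ∈ A', IsConj t e → ∃ w ∈ W, e = w * d * w⁻¹ := by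
    intro e he' het
    obtain ⟨x, hx, ex⟩ := (hA'm e).1 he'
    have hm' := (P.conj_el_iff hx).1 (by rw [ex]; exact het.trans (isConj_iff.2 ⟨σ⁻¹, by simp⟩))
    rw [hD] at hm'
    obtain ⟨s, hs, hs1⟩ := big_mask.1 x hx hm'
    obtain ⟨k, hk, rfl⟩ := Q.real s hs
    have e1 := P.F.conj_el hk (show 1 < 16 by norm_num)
    rw [hs1, P.F.el_one] at e1
    refine ⟨σ * k * σ⁻¹, (hσconj k ⟨hk, hs⟩).1, ?_⟩
    calc e = σ * P.F.el x * σ⁻¹ := by rw [ex]; group
      _ = σ * (k * t * k⁻¹) * σ⁻¹ := by rw [e1]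
      _ = _ := by rw [hd]; group
  have hgen : ∀ K : Subgroup G, (∀ e ∈ A', IsConj t e → e ∈ K) → A' ≤ K := by
    intro K hK g hg
    obtain ⟨x, hx, ex⟩ := (hA'm g).1 hg
    have key : ∀ a < 16, mask [7, 8, 14] a = true → σ * P.F.el a * σ⁻¹ ∈ K := by
      intro a ha hma
      refine hK _ ((hA'm _).2 ?_) (((P.conj_el_iff ha).2 (by rw [hD]; exact hma)).trans (isConj_iff.2 ⟨σ, rfl⟩))
      rw [show σ⁻¹ * (σ * P.F.el a * σ⁻¹) * σ = P.F.el a by group]
      exact P.F.el_mem ha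
    rw [show g = σ * P.F.el x * σ⁻¹ by rw [ex]; group]
    rcases big_mask.2.1 x hx with h | ⟨a, ha, b, hb, hma, hmb, rfl⟩
    · exact key x hx h
    · rw [P.F.el_xor a ha b hb,
        show σ * (P.F.el a * P.F.el b) * σ⁻¹ = σ * P.F.el a * σ⁻¹ * (σ * P.F.el b * σ⁻¹) by group]
      exact mul_mem (key a ha hma) (key b hb hmb)
  have hA'ne : ¬ A' ≤ P.F.A := by
    intro hle
    have e := eq_of_le_of_card_ge hle (by rw [hA'c, P.F.card_A])
    refine hσN (P.mem_N_iff.2 fun y => ?_)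
    conv_lhs => rw [← e, hA'm, show σ⁻¹ * (σ * y * σ⁻¹) * σ = y by group]
  have nC_ne : ∀ {g : G}, g ∈ P.F.N → IsConj t g → P.nC (P.F.code g) ≠ 0 := by
    intro g hg hgt h0
    haveI : IsEmpty {e : G // e ∈ P.F.N ∧ P.F.code e = P.F.code g ∧ IsConj t e} :=
      (Finite.card_eq_zero_iff).1 h0
    exact IsEmpty.false (α := {e : G // e ∈ P.F.N ∧ P.F.code e = P.F.code g ∧ IsConj t e}) ⟨g, hg, rfl, hgt⟩
  have muC : ∀ a ∈ mu3, P.nC a = 8 := by
    intro a ha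
    rw [hl.nC_eq (r := 7608) ((show ∀ a ∈ mu3, (xFull.contains a && xFull.contains 7608 &&
      xFull.any fun b => comp b 7608 == comp a b) = true by decide +kernel) a ha), hmu]
  have block : ∀ {x y : G}, x ∈ P.F.N → IsConj t x → P.F.code x ∈ mu3 → y ∈ P.F.N → Commute x y →
      P.F.code y ∈ mu3 → P.F.code y = P.F.code x := by
    intro x y hx hxt hxa hy hcm hyb
    obtain ⟨h1, h2, -, -, -, h6⟩ := big_mu _ hxa
    have h7 := (big_mu _ hyb).2.2.2.2.2
    rcases P.cent_block h1 h2 hx rfl hxt hy hcm (fun v hv e => (h7 v hv).2 ((h6 v hv).1 e)) with e | e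
    · exact absurd e (big_mu _ hyb).2.1
    · exact e
  -- the code of the new conjugate
  have hd7 : P.F.code d = 7608 := by
    have hne := nC_ne hdN hdt
    have hdW := hA'W hdA'
    rcases big_split _ hdW.2 with h | h | h | h | h | h
    · exfalso
      refine hA'ne (hgen _ fun e he' het => ?_)
      obtain ⟨w, hw, rfl⟩ := horb e he' het
      exact (P.mem_N_iff.1 (hWN hw) d).2 ((P.F.code_eq_id_iff hdN).1 h)
    · exfalso
      rcases P.nC_cases 46866 with h0 | ⟨x, -, hx, hxc, hxt, -⟩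
      · exact absurd h0 (by rw [muC _ (by decide)]; norm_num)
      have hxW : x ∈ W := ⟨hx, hxc.symm ▸ (show 46866 ∈ sFull by decide)⟩
      have hcm := (hA'comm d hdA' _ (hA'n x hxW d hdA')).eq
      rw [inv_eq_of_mul_eq_one_right (P.sq_of_conj hxt)] at hcm
      set y := d * x * d with hy
      have hyc : P.F.code y = 53620 := by
        rw [hy, P.F.code_mul (mul_mem hdN hx) hdN, P.F.code_mul hdN hx, hxc]
        exact big_move _ h
      have hxy : Commute x y := by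
        show x * (d * x * d) = d * x * d * x
        calc x * (d * x * d) = x * d * x * d := by group
          _ = d * (x * d * x) := hcm.symm
          _ = _ := by group
      have := block hx hxt (by rw [hxc]; decide) (mul_mem (mul_mem hdN hx) hdN) hxy (by rw [hyc]; decide)
      rw [hxc, hyc] at this
      exact absurd this (by norm_num)
    · rcases big_pair _ h with h7 | ⟨h7, h8⟩
      · exact h7
      exfalso
      have hpW : P.F.p ∈ W := ⟨P.F.p_mem.1, P.F.p_mem.2.symm ▸ (show cPi ∈ sFull by decide)⟩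
      have hd'c : P.F.code (P.F.p * d * P.F.p⁻¹) = comp (comp cPi (P.F.code d)) cPi := by
        rw [inv_eq_of_mul_eq_one_right P.F.p_sq, P.F.code_mul (mul_mem P.F.p_mem.1 hdN) P.F.p_mem.1,
          P.F.code_mul P.F.p_mem.1 hdN, P.F.p_mem.2]
      exact h8 (hd'c ▸ block hdN hdt h (mul_mem (mul_mem P.F.p_mem.1 hdN) (inv_mem P.F.p_mem.1))
        (hA'comm d hdA' _ (hA'n _ hpW d hdA')) (by rw [hd'c]; exact h7))
    · exact absurd (P.nC_zero h) hne
    · exact absurd ((hl.nC_eq h).trans hm) hne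
    · exact absurd ((hl.nC_eq h).trans hz) hne
  obtain ⟨E, hEc, hEcomm, -, hEm⟩ := P.exists_block (f := 7608) (by decide +kernel) (by decide +kernel)
    hdN hd7 hdd
  have hA'E : A' ≤ E := hgen E fun e he' het => by
    obtain ⟨w, hw, rfl⟩ := horb e he' het
    have hwd := hA'W (hA'n w hw d hdA')
    have hcode : P.F.code (w * d * w⁻¹) = 7608 := by
      obtain ⟨e1, e2⟩ := P.code_conj (hWN hw) hdN
      rw [e1, hd7]
      exact big_central _ hw.2 _ (inv_mem hw : w⁻¹ ∈ W).2 e2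
    obtain ⟨x, hx, hfx, e⟩ := P.involution_in_coset hdN hd7 hdd hwd.1 hcode (P.sq_of_conj het)
    exact (hEm _).2 ⟨x, hx, hfx, Or.inr e⟩
  have hA'eq : A' = E := eq_of_le_of_card_ge hA'E (by rw [hEc, hA'c])
  let Hs : Subgroup G := P.F.A ⊓ A'
  have hHs : ∀ g, g ∈ Hs ↔ ∃ x < 16, ev 7608 x = x ∧ P.F.el x = g := by
    intro g
    constructor
    · rintro ⟨hgA, hgA'⟩
      rw [hA'eq] at hgA'
      obtain ⟨x, hx, hfx, rfl | rfl⟩ := (hEm g).1 hgA'
      · exact ⟨x, hx, hfx, rfl⟩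
      · exfalso
        have hdA : d ∈ P.F.A := (mul_mem_cancel_right (P.F.el_mem hx)).1 hgA
        exact absurd ((P.F.code_of_mem_A hdA).symm.trans hd7) (by decide +kernel)
    · rintro ⟨x, hx, hfx, rfl⟩
      refine ⟨P.F.el_mem hx, ?_⟩
      show P.F.el x ∈ A'
      rw [hA'eq]
      exact (hEm _).2 ⟨x, hx, hfx, Or.inl rfl⟩
  have hσH : σ ∈ normalizer (Hs : Set G) := by
    refine mem_normalizer_of_le fun g hg => ?_
    obtain ⟨hgA, hgA'⟩ := mem_inf.1 hg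
    refine mem_inf.2 ⟨?_, (hA'm _).2 (by rw [show σ⁻¹ * (σ * g * σ⁻¹) * σ = g by group]; exact hgA)⟩
    have h := (P.mem_N_iff.1 (hWN hσσ) (σ⁻¹ * g * σ)).2 ((hA'm g).1 hgA')
    rwa [show σ * σ * (σ⁻¹ * g * σ) * (σ * σ)⁻¹ = σ * g * σ⁻¹ by group] at h
  set QM := Codes.ofRange hl tr8 (by decide +kernel) with hQM
  set M := QM.pre with hM
  have hMW : ∀ g, g ∈ M ↔ g ∈ W ∧ ∀ h ∈ Hs, Commute g h := by
    intro g
    constructor
    · rintro ⟨hgN, hgc⟩
      refine ⟨⟨hgN, (show ∀ f ∈ tr8, f ∈ sFull by decide +kernel) _ hgc⟩, fun h hh => ?_⟩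
      obtain ⟨x, hx, hfx, rfl⟩ := (hHs h).1 hh
      exact P.commute_fixed hgN hx (big_tr8.1 _ hgc x hx hfx)
    · rintro ⟨⟨hgN, hgc⟩, hcomm⟩
      refine ⟨hgN, big_tr8.2.1 _ hgc fun x hx hfx => ?_⟩
      rw [P.F.ev_code hgN hx]
      refine P.F.act_eq hx ?_
      rw [(hcomm _ ((hHs _).2 ⟨x, hx, hfx, rfl⟩)).eq]; group
  have hσM : σ ∈ normalizer (M : Set G) := by
    refine mem_normalizer_of_le fun g hg => ?_
    obtain ⟨hgW, hgc⟩ := (hMW g).1 hg
    refine (hMW _).2 ⟨(hσconj g hgW).1, fun h hh => ?_⟩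
    have hh' : σ⁻¹ * h * σ ∈ Hs := by
      have := (mem_normalizer_iff.1 (inv_mem hσH) h).1 hh
      rwa [inv_inv] at this
    show _ = _
    calc σ * g * σ⁻¹ * h = σ * (g * (σ⁻¹ * h * σ)) * σ⁻¹ := by group
      _ = σ * (σ⁻¹ * h * σ * g) * σ⁻¹ := by rw [(hgc _ hh').eq]
      _ = _ := by group
  set X : Subgroup G := normalizer (M : Set G) ⊓ normalizer (Hs : Set G) with hX
  have hσX : σ ∈ X := mem_inf.2 ⟨hσM, hσH⟩
  have hNX : P.F.N ≤ X := by
    intro g hg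
    refine mem_inf.2 ⟨mem_normalizer_of_le fun x hx => ?_, mem_normalizer_of_le fun x hx => ?_⟩
    · obtain ⟨e1, e2⟩ := P.code_conj hg hx.1
      refine ⟨mul_mem (mul_mem hg hx.1) (inv_mem hg), ?_⟩
      rw [e1]
      exact big_normal.2.1 _ (hl.mem g hg) _ (hl.mem _ (inv_mem hg)) e2 _ hx.2
    · obtain ⟨v, hv, hfv, rfl⟩ := (hHs x).1 hx
      exact (hHs _).2 ⟨_, Frame.ev_lt _ _, big_normal.1 _ (hl.mem g hg) v hv hfv, (P.F.conj_el hg hv).symm⟩
  have htM : t ∈ M := ⟨P.F.A_le_N P.F.t_mem, by rw [P.F.code_of_mem_A P.F.t_mem]; exact QM.id_mem⟩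
  have him : ∀ g ∈ X, g * t * g⁻¹ ∈ P.F.N ∧ P.F.code (g * t * g⁻¹) ∈ cId :: mu3 := by
    intro g hg
    have h1 := (mem_normalizer_iff.1 (mem_inf.1 hg).1 t).1 htM
    refine ⟨h1.1, ?_⟩
    have hne := nC_ne h1.1 (isConj_iff.2 ⟨g, rfl⟩)
    rcases big_tr8.2.2 _ h1.2 with h | h | h | h
    · rw [h]; exact List.mem_cons_self
    · exact List.mem_cons_of_mem _ h
    · exact absurd ((hl.nC_eq h).trans hm) hne
    · exact absurd ((hl.nC_eq h).trans hz) hne
  have hHg : ∀ g ∈ X, ∀ x < 16, ev 7608 x = x → g * P.F.el x * g⁻¹ ∈ Hs := fun g hg x hx hfx =>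
    (mem_normalizer_iff.1 (mem_inf.1 hg).2 _).1 ((hHs _).2 ⟨x, hx, hfx, rfl⟩)
  -- two images in the same coset give the same subgroup
  have hsame : ∀ g ∈ X, ∀ h ∈ X, P.F.code (g * t * g⁻¹) = P.F.code (h * t * h⁻¹) → g⁻¹ * h ∈ P.F.N := by
    intro g hg h hh e
    obtain ⟨x, hx, hfx, hxe⟩ : ∃ x < 16, ev 7608 x = x ∧ h * t * h⁻¹ = g * t * g⁻¹ * P.F.el x := by
      obtain ⟨hgN, hgc⟩ := him g hg
      obtain ⟨hhN, -⟩ := him h hh
      have hgt : IsConj t (g * t * g⁻¹) := isConj_iff.2 ⟨g, rfl⟩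
      have hht : IsConj t (h * t * h⁻¹) := isConj_iff.2 ⟨h, rfl⟩
      rcases List.mem_cons.1 hgc with h0 | h0
      · obtain ⟨a, ha, hea⟩ := (P.F.code_eq_id_iff hgN).1 h0
        obtain ⟨b, hb, heb⟩ := (P.F.code_eq_id_iff hhN).1 (e ▸ h0)
        refine ⟨a ^^^ b, Frame.xor_lt ha hb, big_mask.2.2.2 a ha b hb ?_ ?_, ?_⟩
        · rw [← hD]; exact (P.conj_el_iff ha).1 (hea ▸ hgt)
        · rw [← hD]; exact (P.conj_el_iff hb).1 (heb ▸ hht)
        · rw [← hea, ← heb, P.F.el_xor a ha b hb, ← mul_assoc, P.F.el_sq ha, one_mul]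
      · obtain ⟨x, hx, hfx, hxe⟩ := P.involution_in_coset hgN rfl (P.sq_of_conj hgt) hhN e.symm (P.sq_of_conj hht)
        exact ⟨x, hx, ((big_mu _ h0).2.2.2.2.2 x hx).1 hfx, hxe⟩
    have hin : ∀ {y}, y ∈ P.F.A → g⁻¹ * (h * y * h⁻¹) * g ∈ P.F.A := by
      have hH : ∀ v < 16, ev 7608 v = v → g⁻¹ * (h * P.F.el v * h⁻¹) * g ∈ P.F.A := by
        intro v hv hfv
        have := (mem_normalizer_iff.1 (inv_mem (mem_inf.1 hg).2) _).1 (hHg h hh v hv hfv)
        rw [inv_inv] at this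
        exact (mem_inf.1 this).1
      intro y hy
      obtain ⟨v, hv, rfl⟩ := hy
      rcases big_mask.2.2.1 v hv with h1 | h1
      · exact hH v hv h1
      · have hv1 : v ^^^ 1 < 16 := Frame.xor_lt hv (by norm_num)
        have e1 : P.F.el v = t * P.F.el (v ^^^ 1) := by
          rw [show t * P.F.el (v ^^^ 1) = P.F.el 1 * P.F.el (v ^^^ 1) by rw [P.F.el_one],
            ← P.F.el_xor 1 (by norm_num) _ hv1, Nat.xor_comm 1, Nat.xor_assoc, Nat.xor_self, Nat.xor_zero]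
        have hx' := (mem_normalizer_iff.1 (inv_mem (mem_inf.1 hg).2) _).1 ((hHs _).2 ⟨x, hx, hfx, rfl⟩)
        rw [inv_inv] at hx'
        rw [e1, show g⁻¹ * (h * (t * P.F.el (v ^^^ 1)) * h⁻¹) * g =
          g⁻¹ * (h * t * h⁻¹) * g * (g⁻¹ * (h * P.F.el (v ^^^ 1) * h⁻¹) * g) by group]
        refine mul_mem ?_ (hH _ hv1 h1)
        rw [hxe, show g⁻¹ * (g * t * g⁻¹ * P.F.el x) * g = t * (g⁻¹ * P.F.el x * g) by group]
        exact mul_mem P.F.t_mem (mem_inf.1 hx').1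
    refine mem_normalizer_of_le fun y hy => ?_
    rw [show g⁻¹ * h * y * (g⁻¹ * h)⁻¹ = g⁻¹ * (h * y * h⁻¹) * g by group]
    exact hin hy
  have hwell : ∀ g ∈ X, ∀ n ∈ P.F.N, P.F.code (g * n * t * (g * n)⁻¹) = P.F.code (g * t * g⁻¹) := by
    intro g hg n hn
    obtain ⟨hlt, hsp⟩ := P.F.act_spec hn (show 1 < 16 by norm_num)
    set x := P.F.act n 1
    rw [P.F.el_one] at hsp
    have hm' := (P.conj_el_iff hlt).1 (isConj_iff.2 ⟨n, hsp⟩)
    rw [hD] at hm'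
    have hfx := big_mask.2.2.2 1 (by norm_num) x hlt (by decide +kernel) hm'
    have hH := (mem_inf.1 (hHg g hg _ (Frame.xor_lt (by norm_num) hlt) hfx)).1
    have e : g * n * t * (g * n)⁻¹ = g * t * g⁻¹ * (g * P.F.el (1 ^^^ x) * g⁻¹) := by
      rw [P.F.el_xor 1 (by norm_num) x hlt, P.F.el_one, ← hsp]
      calc g * n * t * (g * n)⁻¹ = g * (t * t * (n * t * n⁻¹)) * g⁻¹ := by rw [P.ht2]; group
        _ = _ := by group
    rw [e, P.F.code_eq_iff (mul_mem (him g hg).1 (P.F.A_le_N hH)) (him g hg).1]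
    simpa [mul_assoc] using inv_mem hH
  let NX := P.F.N.subgroupOf X
  let Φ : X ⧸ NX → {c // c ∈ cId :: mu3} := fun q => ⟨_, (him _ q.out.2).2⟩
  have hΦ : ∀ g : X, (Φ (g : X ⧸ NX)).1 = P.F.code ((g : G) * t * (g : G)⁻¹) := by
    intro g
    obtain ⟨n, hn⟩ := QuotientGroup.mk_out_eq_mul NX g
    show P.F.code ((((g : X ⧸ NX).out : X) : G) * t * (((g : X ⧸ NX).out : X) : G)⁻¹) = _
    rw [hn, Subgroup.coe_mul]
    exact hwell g g.2 _ n.2
  have hbij : Function.Bijective Φ := by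
    constructor
    · intro q q' e
      induction q using QuotientGroup.induction_on with | _ g =>
      induction q' using QuotientGroup.induction_on with | _ h =>
      have e' : P.F.code ((g : G) * t * (g : G)⁻¹) = P.F.code ((h : G) * t * (h : G)⁻¹) := by
        rw [← hΦ, ← hΦ, e]
      exact QuotientGroup.eq.2 (hsame g g.2 h h.2 e')
    · rintro ⟨c0, hc0⟩
      rcases List.mem_cons.1 hc0 with rfl | hc0'
      · refine ⟨((1 : X) : X ⧸ NX), Subtype.ext ?_⟩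
        rw [hΦ]; simp [P.F.code_of_mem_A P.F.t_mem]
      · obtain ⟨a, ha, hac⟩ := big_normal.2.2 c0 hc0'
        obtain ⟨w, hw, rfl⟩ := hl.real a ha
        refine ⟨((⟨w * σ, mul_mem (hNX hw) hσX⟩ : X) : X ⧸ NX), Subtype.ext ?_⟩
        rw [hΦ]
        show P.F.code (w * σ * t * (w * σ)⁻¹) = c0
        obtain ⟨e1, e2⟩ := P.code_conj hw hdN
        rw [show w * σ * t * (w * σ)⁻¹ = w * d * w⁻¹ by rw [hd]; group, e1, hd7]
        exact hac _ (hl.mem _ (inv_mem hw)) e2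
  have hidxX : NX.index = 4 := by
    rw [Subgroup.index, Nat.card_congr (Equiv.ofBijective Φ hbij), Nat.card_eq_fintype_card,
      Fintype.card_of_subtype (cId :: mu3).toFinset (fun x => List.mem_toFinset)]
    decide +kernel
  have hXc : Nat.card X = 4 * 768 := by
    rw [← NX.index_mul_card, hidxX, Nat.card_congr (subgroupOfEquivOfLe hNX).toEquiv, hcardN]
  obtain ⟨m, hm'⟩ := card_subgroup_dvd_card X
  rw [hXc] at hm'
  omega

end Pair

end Cfsg.Lib.TwoTimesSym
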