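import Cfsg.Agent.TwoTimesSym.Local

/-!
Summing the numbers of conjugates of `t` over classes of codes.
-/

set_option autoImplicit false
set_option linter.unusedSectionVars false
set_option linter.style.haveILetI false

namespace Cfsg.Lib.TwoTimesSym

open Subgroup

variable {G : Type*} [Group G]

/-- conjugate codes inside the list -/
def conjB (l : List ℕ) (r f : ℕ) : Bool :=
  l.contains f && l.contains r && l.any fun a => comp a r == comp f a

/-- every code is either no involution or lies in exactly one class, and the classes have the given sizes -/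
def classB (l rs l' cs : List ℕ) : Bool :=
  (l'.all fun f => (rs.filter fun r => conjB l r f).length == 1 ||
    ((rs.filter fun r => conjB l r f).isEmpty && comp f f != cId)) &&
  (rs.map fun r => l'.countP fun f => conjB l r f) == cs

namespace Pair

variable {t : G} (P : Pair t) [Finite G]

theorem sum_classes {l : List ℕ} (hl : P.IsRange l) (rs : List ℕ) : ∀ l' : List ℕ,
    (∀ f ∈ l', (rs.filter fun r => conjB l r f).length = 1 ∨
      ((rs.filter fun r => conjB l r f) = [] ∧ comp f f ≠ cId)) →
    (l'.map P.nC).sum = (rs.map fun r => (l'.countP fun f => conjB l r f) * P.nC r).sum := by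
  intro l' h
  induction l' with
  | nil => simp
  | cons f l' ih =>
    rw [List.map_cons, List.sum_cons, ih fun g hg => h g (List.mem_cons_of_mem _ hg)]
    have e : P.nC f = ((rs.filter fun r => conjB l r f).map P.nC).sum := by
      rcases h f List.mem_cons_self with h1 | ⟨h1, h2⟩
      · obtain ⟨r, hr⟩ := List.length_eq_one_iff.1 h1
        have hm : r ∈ rs.filter fun r => conjB l r f := by rw [hr]; exact List.mem_singleton_self r
        rw [hr, List.map_cons, List.map_nil, List.sum_cons, List.sum_nil, add_zero,
          hl.nC_eq (r := r) (List.mem_filter.1 hm).2]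
      · rw [h1, List.map_nil, List.sum_nil, P.nC_zero h2]
    rw [e]
    clear h ih e
    induction rs with
    | nil => simp
    | cons r rs ih =>
      simp only [List.countP_cons, add_mul] at ih
      simp only [List.map_cons, List.sum_cons, List.countP_cons, List.filter_cons, add_mul]
      rw [← ih]
      cases conjB l r f <;> simp <;> ring

/-- the sum over a list of codes through class sizes -/
theorem sum_eq {l : List ℕ} (hl : P.IsRange l) {rs l' cs : List ℕ} (h : classB l rs l' cs = true) :
    (l'.map P.nC).sum = (List.zipWith (fun r c => c * P.nC r) rs cs).sum := by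
  rw [classB, Bool.and_eq_true, List.all_eq_true, beq_iff_eq] at h
  rw [P.sum_classes hl rs l' fun f hf => by
    have h1 := h.1 f hf
    simpa only [Bool.or_eq_true, beq_iff_eq, Bool.and_eq_true, List.isEmpty_iff, bne_iff_ne] using h1,
    ← h.2, List.zipWith_map_right, List.zipWith_self]

/-- transfer out of the preimage of a set of codes -/
theorem index_two_of_sum {l : List ℕ} (hl : P.IsRange l) (S : List ℕ)
    (hS : (decide S.Nodup && closedB S && S.contains cId && S.all fun f => l.contains f) = true)
    {q : ℕ} (hq : S.length = 2 * q) (χ : ℕ → Bool)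
    (hχ : (S.all fun a => S.all fun b => χ (comp a b) == xor (χ a) (χ b)) = true)
    {rs cs : List ℕ} (h : classB l rs (S.filter χ) cs = true)
    (hk : ∃ r, (List.zipWith (fun r c => c * P.nC r) rs cs).sum = q * r ∧ Odd r) :
    ∃ H : Subgroup G, H.index = 2 :=
  (Codes.ofRange hl S hS).index_two_of_transfer hq χ hχ (by
    obtain ⟨r, h1, h2⟩ := hk
    exact ⟨r, (P.sum_eq hl h).trans h1, h2⟩)

/-- the sum is divisible by the order of the group of codes over `2` -/
theorem dvd_sum {l : List ℕ} (hl : P.IsRange l) (S : List ℕ)
    (hS : (decide S.Nodup && closedB S && S.contains cId && S.all fun f => l.contains f) = true)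
    (χ : ℕ → Bool) (hχ : (S.all fun a => S.all fun b => χ (comp a b) == xor (χ a) (χ b)) = true)
    {rs cs : List ℕ} (h : classB l rs (S.filter χ) cs = true) :
    ∃ c, Odd c ∧ S.length ∣ 2 * c * (List.zipWith (fun r c => c * P.nC r) rs cs).sum := by
  classical
  set Q := Codes.ofRange hl S hS
  obtain ⟨c, hc, hC⟩ := P.hcard
  let χ' : ↥Q.pre →* Multiplicative (ZMod 2) :=
    MonoidHom.mk' (fun g => bz (χ (P.F.code (g : G)))) (fun a b => by
      rw [Subgroup.coe_mul, P.F.code_mul a.2.1 b.2.1, ← bz_xor]
      congr 1
      exact beq_iff_eq.1 (List.all_eq_true.1 (List.all_eq_true.1 hχ _ a.2.2) _ b.2.2))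
  have h1 := fixVal_mul t Q.pre χ' (bz true)
  have e : conjVal t Q.pre χ' (bz true) = (List.zipWith (fun r c => c * P.nC r) rs cs).sum := by
    rw [← P.sum_eq hl h, conjVal]
    refine (Nat.card_congr (Equiv.subtypeEquivRight fun d => and_congr_right' ?_)).trans (Q.count χ)
    show bz (χ (P.F.code (d : G))) = bz true ↔ _
    exact bz_eq_true _
  rw [Q.card_pre, hC, e] at h1
  refine ⟨c, hc, fixVal t Q.pre χ' (bz true), ?_⟩
  show _ = Q.l.length * _
  linarith

end Pair

end Cfsg.Lib.TwoTimesSym
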