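import Mathlib.Data.List.Basic
import Mathlib.Data.Nat.Bitwise

/-!
Linear maps of a four-dimensional space over the field of two elements, encoded as natural numbers:
the images of the four basis vectors `1, 2, 4, 8` are the hexadecimal digits.
-/

set_option autoImplicit false

namespace Cfsg.Lib.TwoTimesSym

/-- evaluate a code at a vector -/
def ev (a x : ℕ) : ℕ :=
  ((a % 16) * (x % 2)) ^^^ ((a / 16 % 16) * (x / 2 % 2)) ^^^ ((a / 256 % 16) * (x / 4 % 2)) ^^^
    ((a / 4096 % 16) * (x / 8 % 2))

/-- the code with given images -/
def enc (f : ℕ → ℕ) : ℕ := f 1 + 16 * f 2 + 256 * f 4 + 4096 * f 8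

/-- composition -/
def comp (a b : ℕ) : ℕ := enc fun k => ev a (ev b k)

/-- the identity -/
def cId : ℕ := 33825
/-- exchange the first two coordinates -/
def cPi : ℕ := 33345
/-- cyclic permutation of the coordinates -/
def cRho : ℕ := 10305
/-- the coordinate permutations -/
def cS3 : List ℕ := [9345, 10305, 17025, 18465, 33345, 33825]

/-- closed under composition -/
def closedB (l : List ℕ) : Bool := l.all fun a => l.all fun b => l.contains (comp a b)

theorem cS3_closed : closedB cS3 = true := by decide +kernel

theorem mem_of_closed {l : List ℕ} (h : closedB l = true) {a b : ℕ} (ha : a ∈ l) (hb : b ∈ l) :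
    comp a b ∈ l := by
  rw [closedB, List.all_eq_true] at h
  have h1 := h a ha
  rw [List.all_eq_true] at h1
  simpa using h1 b hb

end Cfsg.Lib.TwoTimesSym
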