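import Cfsg.Agent.TwoTimesSym.Square
import Cfsg.Agent.TwoTimesSym.Big

/-!
The images of the corners of the square under an element exchanging the frames.
-/

set_option autoImplicit false
set_option linter.unusedSectionVars false
set_option linter.style.haveILetI false

namespace Cfsg.Lib.TwoTimesSym

open Subgroup

variable {G : Type*} [Group G]

theorem corner_tables : (∀ f ∈ xHalf, comp 11915 f = cId → f = 11915) ∧
    (∀ f ∈ xHalf, comp f cPi = comp cPi f → f ∈ sE) ∧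
    (∀ f ∈ sE, ∀ f' ∈ sE, comp f f' = cId → comp (comp f cPi) f' = cPi) ∧
    (∀ f ∈ sE, ev f 2 = 2 ∨ ev f 2 = 4) ∧
    (∀ x < 16, maskT [7, 8, 14] (16 + ev 11915 x) = true ↔ x ∈ sU) ∧
    (∀ k < 32, maskT [7, 8, 14] k = true → 16 ≤ k → k - 16 ∈ sU) ∧
    (∀ x < 16, mask [7, 8, 14] x = true → x ∈ [1, 7, 8, 14, 2, 4, 11, 13]) := by
  decide +kernel

namespace Pair

variable {t : G} (P : Pair t) [Finite G]

theorem eq_T_pi {k : ℕ} (h1 : 16 ≤ k) (h2 : k < 32) : P.emb k = P.F.p * P.F.el (k - 16) := by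
  rw [show k = 16 * 1 + (k - 16) by omega, P.emb_split (by norm_num) (by omega), pow_one,
    show 16 * 1 + (k - 16) - 16 = k - 16 by omega]

/-- the data attached to the exchanging element -/
structure Turn (g : G) extends P.Side where
  /-- carries `p` to `q` -/
  s : G
  /-- the place of the image of the second coordinate vector -/
  w : ℕ
  s_mem : s ∈ P.F.N
  s_code : P.F.code s = 11915
  s_p : s * P.F.p * s⁻¹ = q
  s_q : ∃ i ∈ [0, 6], s * q * s⁻¹ = P.F.p * P.F.el i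
  w_mem : w ∈ sU
  g_two : g * P.F.el 2 * g⁻¹ = P.F.p * P.F.el w
  g_norm : ∀ x, x ∈ P.F.N → P.F.code x ∈ sE → g * x * g⁻¹ ∈ P.F.N ∧ P.F.code (g * x * g⁻¹) ∈ sE
  g_u : ∀ x ∈ sU, g * P.F.el x * g⁻¹ = P.F.el (if x.testBit 3 then x ^^^ 6 else x)
  g_q : ∃ v ∈ sU, g * q * g⁻¹ = q * P.F.el v
  q_coset : ∀ x < 16, IsConj t (q * P.F.el x) ↔ x ∈ sU

theorem exists_turn (hD : P.DL = [7, 8, 14]) (hl : P.IsRange xHalf) (hz : P.nC 11915 = 0) {g : G}
    (hg : g ∈ P.NT) (hgN : g ∉ P.F.N) (hg1 : g * t * g⁻¹ = P.F.el 8)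
    (hg8 : g * P.F.el 8 * g⁻¹ = P.F.el 7) : Nonempty (P.Turn g) := by
  have g6 : g * P.F.el 6 * g⁻¹ = P.F.el 6 := P.conj_z hg
  have gmul : ∀ {a b a' b' : ℕ}, a < 16 → b < 16 → a' < 16 → b' < 16 → g * P.F.el a * g⁻¹ = P.F.el a' →
      g * P.F.el b * g⁻¹ = P.F.el b' → g * P.F.el (a ^^^ b) * g⁻¹ = P.F.el (a' ^^^ b') := by
    intro a b a' b' ha hb ha' hb' e1 e2
    rw [P.F.el_xor a ha b hb, P.F.el_xor a' ha' b' hb', ← e1, ← e2]; group
  have g1 : g * P.F.el 1 * g⁻¹ = P.F.el 8 := by rw [P.F.el_one]; exact hg1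
  have g9 : g * P.F.el 9 * g⁻¹ = P.F.el 15 := gmul (a := 1) (b := 8) (a' := 8) (b' := 7) (by norm_num)
    (by norm_num) (by norm_num) (by norm_num) g1 hg8
  have gU : ∀ x ∈ sU, g * P.F.el x * g⁻¹ = P.F.el (if x.testBit 3 then x ^^^ 6 else x) := by
    intro x hx
    simp only [sU, List.mem_cons, List.not_mem_nil, or_false] at hx
    rcases hx with rfl | rfl | rfl | rfl
    · simp [P.F.el_zero]
    · exact g6
    · exact g9
    · exact gmul (a := 9) (b := 6) (a' := 15) (b' := 6) (by norm_num) (by norm_num) (by norm_num) (by norm_num)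
        g9 g6
  obtain ⟨s, hs, hsc⟩ := hl.real 11915 (by decide +kernel)
  have hsi : P.F.code s⁻¹ = 11915 := by
    refine corner_tables.1 _ (hl.mem _ (inv_mem hs)) ?_
    rw [← hsc, ← P.F.code_mul hs (inv_mem hs), mul_inv_cancel, P.F.code_of_mem_A (one_mem _)]
  set q := s * P.F.p * s⁻¹ with hq
  have hqN : q ∈ P.F.N := mul_mem (mul_mem hs P.F.p_mem.1) (inv_mem hs)
  have hqc : P.F.code q = 58407 := by
    rw [hq, P.F.code_mul (mul_mem hs P.F.p_mem.1) (inv_mem hs), P.F.code_mul hs P.F.p_mem.1, hsc, hsi,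
      P.F.p_mem.2]
    decide +kernel
  have hqq : q * q = 1 := by
    rw [hq, show s * P.F.p * s⁻¹ * (s * P.F.p * s⁻¹) = s * (P.F.p * P.F.p) * s⁻¹ by group, P.F.p_sq]; group
  have hpc : P.F.code P.F.p = cPi := P.F.p_mem.2
  have hcoset : ∀ x < 16, IsConj t (q * P.F.el x) ↔ x ∈ sU := by
    intro x hx
    have e : s⁻¹ * (q * P.F.el x) * s = P.emb (16 + ev 11915 x) := by
      rw [P.eq_T_pi (by omega) (by have := Frame.ev_lt 11915 x; omega), Nat.add_sub_cancel_left]
      have h := P.F.conj_el (inv_mem hs) hx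
      rw [hsi, inv_inv] at h
      rw [← h, hq]
      group
    have hc : IsConj (q * P.F.el x) (P.emb (16 + ev 11915 x)) := isConj_iff.2 ⟨s⁻¹, by rw [inv_inv, e]⟩
    rw [← corner_tables.2.2.2.2.1 x hx, ← hD, ← P.conj_emb_iff (by have := Frame.ev_lt 11915 x; omega)]
    exact ⟨fun h => h.trans hc, fun h => h.trans hc.symm⟩
  have hNT : ∀ x ∈ P.F.N, P.F.code x ∈ sE → x ∈ P.NT := by
    intro x hx hxc
    have hiN := inv_mem hx
    have e : comp (P.F.code x) (P.F.code x⁻¹) = cId := by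
      rw [← P.F.code_mul hx hiN, mul_inv_cancel, P.F.code_of_mem_A (one_mem _)]
    refine mem_NT_of_code hx rfl rfl (corner_tables.2.2.1 _ hxc _ ?_ e)
    exact (show ∀ f ∈ sE, ∀ f' ∈ xHalf, comp f f' = cId → f' ∈ sE by decide +kernel) _ hxc _ (hl.mem _ hiN) e
  have hnorm : ∀ x, x ∈ P.F.N → P.F.code x ∈ sE → g * x * g⁻¹ ∈ P.F.N ∧ P.F.code (g * x * g⁻¹) ∈ sE := by
    intro x hx hxc
    have hxT := hNT x hx hxc
    have h1 := P.swap_N_conj hg hgN hx
    have h2 : g * x * g⁻¹ ∈ P.NT := mul_mem (mul_mem hg hxT) (inv_mem hg)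
    have h3 := (P.mem_N_iff' h2).2 h1
    exact ⟨h3, corner_tables.2.1 _ (hl.mem _ h3) (P.code_p_conj h3 h2)⟩
  -- the image of the second coordinate vector
  have hA2 : g * P.F.el 2 * g⁻¹ ∈ P.F'.A := (P.conj_exch hg hgN _).2 (P.F.el_mem (by norm_num))
  obtain ⟨k, hk, hke⟩ := P.A'_le_T hA2
  have hkD : maskT [7, 8, 14] k = true := by
    rw [← hD, ← P.conj_emb_iff hk, hke]
    exact ((P.conj_el_iff (show 2 < 16 by norm_num)).2 (by rw [hD]; decide +kernel)).trans (isConj_iff.2 ⟨g, rfl⟩)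
  have hk16 : 16 ≤ k := by
    by_contra hk'
    rw [P.emb_lt (show k < 16 by omega)] at hke
    have hm : mask [7, 8, 14] k = true := by rwa [maskT, if_pos (by omega)] at hkD
    have g14 : g * P.F.el 14 * g⁻¹ = P.F.el 1 := gmul (a := 8) (b := 6) (a' := 7) (b' := 6) (by norm_num)
      (by norm_num) (by norm_num) (by norm_num) hg8 g6
    have g7 : g * P.F.el 7 * g⁻¹ = P.F.el 14 := gmul (a := 1) (b := 6) (a' := 8) (b' := 6) (by norm_num)
      (by norm_num) (by norm_num) (by norm_num) g1 g6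
    have out : ∀ a < 16, a ≠ 2 → g * P.F.el a * g⁻¹ = P.F.el k → False := by
      intro a ha hne e
      rw [hke] at e
      exact hne (P.F.el_inj _ ha _ (by norm_num) (mul_left_cancel (mul_right_cancel e)))
    have hAk : k ∈ [2, 4, 11, 13] → False := by
      intro hk4
      have h := hA2
      rw [← hke] at h
      obtain ⟨y, hy, hye⟩ := h
      rw [P.el'_eq hy, ← P.emb_lt (show k < 16 by omega)] at hye
      have e : tr y = k := P.emb_inj tmul_lt hk hye
      exact (show ∀ y < 16, tr y ∉ [2, 4, 11, 13] by decide +kernel) y hy (e.symm ▸ hk4)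
    have := corner_tables.2.2.2.2.2.2 k (by omega) hm
    simp only [List.mem_cons, List.not_mem_nil, or_false] at this
    rcases this with rfl | rfl | rfl | rfl | h | h | h | h
    · exact out 14 (by norm_num) (by norm_num) g14
    · exact out 8 (by norm_num) (by norm_num) hg8
    · exact out 1 (by norm_num) (by norm_num) g1
    · exact out 7 (by norm_num) (by norm_num) g7
    all_goals exact hAk (by subst h; decide)
  set w := k - 16 with hw
  have hwU : w ∈ sU := corner_tables.2.2.2.2.2.1 k hk hkD hk16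
  have hwlt : w < 16 := (show ∀ x ∈ sU, x < 16 by decide) w hwU
  rw [P.eq_T_pi hk16 hk, ← hw] at hke
  -- the image of the other corner
  obtain ⟨hq'N, hq'c⟩ := hnorm q hqN (by rw [hqc]; decide)
  have hq't : IsConj t (g * q * g⁻¹) := by
    have h := (hcoset 0 (by norm_num)).2 (by decide)
    rw [P.F.el_zero, mul_one] at h
    exact h.trans (isConj_iff.2 ⟨g, rfl⟩)
  have hq'58 : P.F.code (g * q * g⁻¹) = 58407 := by
    simp only [sE, List.mem_cons, List.not_mem_nil, or_false] at hq'c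
    rcases hq'c with h | h | h | h
    · exfalso
      have hA := (P.F.code_eq_id_iff hq'N).1 h
      have hi : g⁻¹ ∉ P.F.N := fun h => hgN (inv_mem_iff.1 h)
      have h2 := (P.conj_exch (inv_mem hg) hi _).2 hA
      rw [show g⁻¹ * (g * q * g⁻¹) * g⁻¹⁻¹ = q by group] at h2
      have h3 := P.A'_le_T h2
      rcases code_of_mem_T h3 with e | e <;> rw [hqc] at e <;> exact absurd e (by decide +kernel)
    · exfalso
      have hT := mem_T_of_code hq'N (Or.inr h)
      obtain ⟨j, hj, hje⟩ := hT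
      have hj16 : 16 ≤ j := by
        by_contra hj'
        rw [← hje, P.F.code_of_mem_A ⟨j, by omega, (P.emb_lt (by omega)).symm⟩] at h
        exact absurd h (by decide +kernel)
      obtain ⟨y, hy, e⟩ := (show ∀ j < 32, 16 ≤ j → maskT [7, 8, 14] j = true → ∃ y < 16, tr y = j by
        decide +kernel) j hj hj16 (by rw [← hD, ← P.conj_emb_iff hj, hje]; exact hq't)
      have hA' : g * q * g⁻¹ ∈ P.F'.A := ⟨y, hy, by rw [P.el'_eq hy, e, hje]⟩
      exact absurd ((P.F.code_of_mem_A ((P.conj_exch hg hgN _).1 hA')).symm.trans hqc) (by decide +kernel)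
    · exact h
    · exfalso
      rcases P.nC_cases 57927 with h0 | ⟨-, -, -, -, -, -, -⟩
      · haveI : IsEmpty {d : G // d ∈ P.F.N ∧ P.F.code d = 57927 ∧ IsConj t d} :=
          (Finite.card_eq_zero_iff).1 h0
        exact IsEmpty.false (α := {d : G // d ∈ P.F.N ∧ P.F.code d = 57927 ∧ IsConj t d}) ⟨_, hq'N, h, hq't⟩
      · haveI : IsEmpty {d : G // d ∈ P.F.N ∧ P.F.code d = 57927 ∧ IsConj t d} :=
          (Finite.card_eq_zero_iff).1 ((hl.nC_eq (f := 57927) (r := 11915) (by decide +kernel)).trans hz)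
        exact IsEmpty.false (α := {d : G // d ∈ P.F.N ∧ P.F.code d = 57927 ∧ IsConj t d}) ⟨_, hq'N, h, hq't⟩
  obtain ⟨v, hv, hve⟩ := (P.F.code_eq_iff hqN hq'N).1 (hqc.trans hq'58.symm)
  have hve' : g * q * g⁻¹ = q * P.F.el v := by rw [hve]; group
  have hvU : v ∈ sU := (hcoset v hv).1 (hve' ▸ hq't)
  have fixU : ∀ x ∈ sU, Commute P.F.p (P.F.el x) ∧ Commute q (P.F.el x) := by
    intro x hx
    have hx16 : x < 16 := (show ∀ x ∈ sU, x < 16 by decide) x hx
    exact ⟨mul_inv_eq_iff_eq_mul.1 ((P.F.p_el x hx16).trans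
        (by rw [(show ∀ x ∈ sU, ev cPi x = x by decide +kernel) x hx])),
      mul_inv_eq_iff_eq_mul.1 ((P.F.conj_el hqN hx16).trans
        (by rw [hqc, (show ∀ x ∈ sU, ev 58407 x = x by decide +kernel) x hx]))⟩
  have hcomm : Commute P.F.p q := by
    have h0 : Commute q (P.F.el 2) :=
      mul_inv_eq_iff_eq_mul.1 ((P.F.conj_el hqN (show 2 < 16 by norm_num)).trans (by rw [hqc]; rfl))
    have h1 : Commute (g * q * g⁻¹) (g * P.F.el 2 * g⁻¹) := by
      show _ = _
      calc g * q * g⁻¹ * (g * P.F.el 2 * g⁻¹) = g * (q * P.F.el 2) * g⁻¹ := by group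
        _ = _ := by rw [h0.eq]; group
    rw [hve', ← hke] at h1
    have hqe : q = q * P.F.el v * P.F.el v := by rw [mul_assoc, P.F.el_sq hv, mul_one]
    have hpe : P.F.p = P.F.p * P.F.el w * P.F.el w := by rw [mul_assoc, P.F.el_sq hwlt, mul_one]
    refine Commute.symm ?_
    rw [hqe, hpe]
    refine (h1.mul_right ?_).mul_left ((Commute.mul_right ?_ (P.F.el_comm hv hwlt)))
    · exact ((fixU w hwU).2.mul_left (P.F.el_comm hv hwlt))
    · exact ((fixU v hvU).1.symm.mul_right (P.F.el_comm hv hwlt))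
  have hsq : ∃ i ∈ [0, 6], s * q * s⁻¹ = P.F.p * P.F.el i := by
    have hss : s * s ∈ P.F.A := by
      rw [← P.F.code_eq_id_iff (mul_mem hs hs), P.F.code_mul hs hs, hsc]; decide +kernel
    obtain ⟨y, hy, hye⟩ := hss
    refine ⟨ev cPi y ^^^ y, (show ∀ y < 16, ev cPi y ^^^ y ∈ [0, 6] by decide +kernel) y hy, ?_⟩
    calc s * q * s⁻¹ = s * s * P.F.p * (s * s)⁻¹ := by rw [hq]; group
      _ = P.F.el y * P.F.p * P.F.el y := by rw [← hye, P.F.el_inv hy]
      _ = P.F.p * P.F.el (ev cPi y) * P.F.el y := by rw [P.el_mul_p hy]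
      _ = _ := by rw [P.F.el_xor _ (Frame.ev_lt _ _) _ hy, mul_assoc]
  exact ⟨{ q := q, mem := hqN, code := hqc, sq := hqq, comm := hcomm, s := s, w := w, s_mem := hs, s_code := hsc,
           s_p := hq.symm, s_q := hsq, w_mem := hwU, g_two := hke.symm, g_norm := hnorm, g_u := gU,
           g_q := ⟨v, hvU, hve'⟩, q_coset := hcoset }⟩

/-- the exchanging element moves the fixed corner -/
theorem Turn.g_q_odd {g : G} (R : P.Turn g) :
    ∃ v ∈ [9, 15], g * R.q * g⁻¹ = R.q * P.F.el v := by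
  obtain ⟨v, hv, hve⟩ := R.g_q
  refine ⟨v, ?_, hve⟩
  by_contra hodd
  set S := R.toSide
  have hv' : v = 0 ∨ v = 6 := (show ∀ v ∈ sU, v ∉ [9, 15] → v = 0 ∨ v = 6 by decide) v hv hodd
  -- a version commuting with the corner
  obtain ⟨g', hg'L, hg'q, hg'2⟩ : ∃ g', (∀ x ∈ S.L, g' * x * g'⁻¹ ∈ S.L) ∧ Commute g' R.q ∧
      g' * P.F.el 2 * g'⁻¹ = P.F.p * P.F.el R.w := by
    have hgL : ∀ x ∈ S.L, g * x * g⁻¹ ∈ S.L := fun x hx =>
      S.mem_L.2 (R.g_norm x (S.mem_L.1 hx).1 (S.mem_L.1 hx).2)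
    rcases hv' with rfl | rfl
    · exact ⟨g, hgL, mul_inv_eq_iff_eq_mul.1 (hve.trans (by rw [P.F.el_zero, mul_one])), R.g_two⟩
    · refine ⟨g * t, fun x hx => ?_, mul_inv_eq_iff_eq_mul.1 ?_, ?_⟩
      · have htL : t ∈ S.L := by
          have h := S.phi_mem_L (show 1 < 64 by norm_num)
          rwa [S.phi_el (show 1 < 16 by norm_num), P.F.el_one] at h
        rw [show g * t * x * (g * t)⁻¹ = g * (t * x * t⁻¹) * g⁻¹ by group]
        exact hgL _ (mul_mem (mul_mem htL hx) (inv_mem htL))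
      · have e : t * R.q * t⁻¹ = R.q * P.F.el 6 := by
          rw [inv_eq_of_mul_eq_one_right P.ht2]
          have h := S.q_el (show 7 < 16 by norm_num)
          rw [show ev 58407 7 = 1 by decide +kernel, P.F.el_one] at h
          calc t * R.q * t = R.q * P.F.el 7 * t := by rw [h]
            _ = R.q * (P.F.el 7 * P.F.el 1) := by rw [P.F.el_one]; group
            _ = _ := by rw [← P.F.el_xor 7 (by norm_num) 1 (by norm_num)]; rfl
        calc g * t * R.q * (g * t)⁻¹ = g * (t * R.q * t⁻¹) * g⁻¹ := by group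
          _ = g * R.q * g⁻¹ * (g * P.F.el 6 * g⁻¹) := by rw [e]; group
          _ = R.q := by
            rw [hve, R.g_u 6 (by decide), if_neg (by decide), mul_assoc, P.F.el_sq (by norm_num), mul_one]
      · have e : t * P.F.el 2 * t⁻¹ = P.F.el 2 := by
          have h := P.F.el_comm (show 1 < 16 by norm_num) (show 2 < 16 by norm_num)
          rw [P.F.el_one] at h
          rw [h.eq]; group
        calc g * t * P.F.el 2 * (g * t)⁻¹ = g * (t * P.F.el 2 * t⁻¹) * g⁻¹ := by group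
          _ = _ := by rw [e, R.g_two]
  -- centraliser of the corner
  set K : Subgroup G := S.L ⊓ centralizer ({R.q} : Set G) with hK
  have hKc : 32 ≤ Nat.card K := by
    rw [← cent_q_count, ← List.toFinset_card_of_nodup (List.nodup_range.filter _), ← Nat.card_eq_finsetCard]
    have hm : ∀ x : {x // x ∈ ((List.range 64).filter fun k => lmul k 32 == lmul 32 k).toFinset},
        x.1 < 64 ∧ lmul x.1 32 = lmul 32 x.1 := fun x => by
      have h := List.mem_toFinset.1 x.2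
      exact ⟨List.mem_range.1 (List.mem_filter.1 h).1, beq_iff_eq.1 (List.mem_filter.1 h).2⟩
    refine Nat.card_le_card_of_injective (fun x => (⟨S.phi x.1, mem_inf.2 ⟨S.phi_mem_L (hm x).1, ?_⟩⟩ : K))
      (fun a b e => Subtype.ext (S.phi_inj (hm a).1 (hm b).1 (congrArg Subtype.val e)))
    rw [mem_centralizer_singleton_iff, show R.q = S.phi 32 from S.phi_32.symm, ← S.phi_mul, ← S.phi_mul, (hm x).2]
  have hqD : IsConj t R.q := by
    have h := (R.q_coset 0 (by norm_num)).2 (by decide)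
    rwa [P.F.el_zero, mul_one] at h
  obtain ⟨h, hh⟩ := isConj_iff.1 hqD.symm
  let K' : Subgroup G := K.map (MulAut.conj h).toMonoidHom
  have hK'2 : IsPGroup 2 K' := by
    have : IsPGroup 2 S.L := IsPGroup.of_card (n := 6) (by rw [S.card_L]; norm_num)
    exact (this.to_le inf_le_left).map _
  have hK'C : K' ≤ centralizer ({t} : Set G) ⊓ ⊤ := by
    rintro _ ⟨x, hx, rfl⟩
    refine mem_inf.2 ⟨?_, mem_top _⟩
    have hx2 := mem_centralizer_singleton_iff.1 (mem_inf.1 hx).2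
    rw [mem_centralizer_singleton_iff, ← hh]
    simp only [MulEquiv.coe_toMonoidHom, MulAut.conj_apply]
    calc h * x * h⁻¹ * (h * R.q * h⁻¹) = h * (x * R.q) * h⁻¹ := by group
      _ = _ := by rw [hx2]; group
  obtain ⟨c, ⟨hcC, -⟩, hc⟩ := P.exists_conj_le le_top hK'2 hK'C
  set c' := c⁻¹ * h with hc'
  have hcq : c' * R.q * c'⁻¹ = t := by
    rw [hc']
    calc c⁻¹ * h * R.q * (c⁻¹ * h)⁻¹ = c⁻¹ * (h * R.q * h⁻¹) * c := by group
      _ = c⁻¹ * (t * c) := by rw [hh]; group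
      _ = t := by rw [← mem_centralizer_singleton_iff.1 hcC]; group
  have hin : ∀ x ∈ K, c' * x * c'⁻¹ ∈ P.T := by
    intro x hx
    have := hc _ ⟨x, hx, rfl⟩
    simp only [MulEquiv.coe_toMonoidHom, MulAut.conj_apply] at this
    rwa [show c' * x * c'⁻¹ = c⁻¹ * (h * x * h⁻¹) * c by rw [hc']; group]
  let ψ : K → P.T := fun x => ⟨c' * x.1 * c'⁻¹, hin _ x.2⟩
  have hψi : Function.Injective ψ := fun a b e => by
    have e' : c' * a.1 * c'⁻¹ = c' * b.1 * c'⁻¹ := congrArg Subtype.val e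
    exact Subtype.ext (mul_left_cancel (mul_right_cancel e'))
  have hψ : Function.Surjective ψ := ((Nat.bijective_iff_injective_and_card ψ).2
    ⟨hψi, le_antisymm (Nat.card_le_card_of_injective ψ hψi) (by rw [P.card_T]; exact hKc)⟩).2
  set m := c' * g' * c'⁻¹ with hm
  have hmt : Commute m t := by
    show m * t = t * m
    rw [hm, ← hcq]
    calc c' * g' * c'⁻¹ * (c' * R.q * c'⁻¹) = c' * (g' * R.q) * c'⁻¹ := by group
      _ = _ := by rw [hg'q.eq]; group
  have hmNT : m ∈ P.NT := by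
    refine mem_normalizer_of_le fun y hy => ?_
    obtain ⟨x, hx⟩ := hψ ⟨y, hy⟩
    have e : c' * x.1 * c'⁻¹ = y := congrArg Subtype.val hx
    rw [← e, show m * (c' * x.1 * c'⁻¹) * m⁻¹ = c' * (g' * x.1 * g'⁻¹) * c'⁻¹ by rw [hm]; group]
    refine hin _ (mem_inf.2 ⟨hg'L _ (mem_inf.1 x.2).1, ?_⟩)
    have hx2 := mem_centralizer_singleton_iff.1 (mem_inf.1 x.2).2
    rw [mem_centralizer_singleton_iff]
    calc g' * x.1 * g'⁻¹ * R.q = g' * (x.1 * R.q) * g'⁻¹ := by
          rw [mul_assoc (g' * x.1) g'⁻¹, ← hg'q.inv_left.symm.eq]; group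
      _ = g' * (R.q * x.1) * g'⁻¹ := by rw [hx2]
      _ = _ := by rw [← mul_assoc g' R.q x.1, hg'q.eq]; group
  have hmN := P.cent_NT hmNT hmt
  have hmN' := P.mem_N'_of hmNT hmN
  obtain ⟨E, hEc, -, hEsq, hEm⟩ := P.exists_block (f := 58407) (by decide +kernel) (by decide +kernel)
    R.mem R.code R.sq
  have hEK : E ≤ K := by
    intro x hx
    obtain ⟨y, hy, hfy, hxy⟩ := (hEm x).1 hx
    have hcy : Commute R.q (P.F.el y) := P.commute_fixed R.mem hy (by rw [R.code]; exact hfy)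
    have hyL : P.F.el y ∈ S.L := S.phi_el hy ▸ S.phi_mem_L (by omega)
    have hqL : R.q ∈ S.L := S.phi_32 ▸ S.phi_mem_L (by norm_num)
    rcases hxy with rfl | rfl
    · exact mem_inf.2 ⟨hyL, mem_centralizer_singleton_iff.2 hcy.symm.eq⟩
    · exact mem_inf.2 ⟨mul_mem hqL hyL,
        mem_centralizer_singleton_iff.2 ((Commute.refl R.q).mul_left hcy.symm).eq⟩
  let E' : Subgroup G := E.map (MulAut.conj c').toMonoidHom
  have hE'T : E' ≤ P.T := by
    rintro _ ⟨x, hx, rfl⟩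
    exact hin x (hEK hx)
  have hE'sq : ∀ x ∈ E', x * x = 1 := by
    rintro _ ⟨x, hx, rfl⟩
    rw [← map_mul, hEsq x hx, map_one]
  have hE'c : Nat.card E' = 16 := by
    rw [show E' = E.map (MulAut.conj c').toMonoidHom from rfl,
      card_map_of_injective (MulAut.conj c').injective, hEc]
  have hfix : ∀ x ∈ E', m * x * m⁻¹ ∈ E' := by
    intro x hx
    rcases P.le_or_le hE'T hE'sq with h | h
    · have e := eq_of_le_of_card_ge h (by rw [hE'c, P.F.card_A])
      rw [e] at hx ⊢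
      exact (P.mem_N_iff.1 hmN x).2 hx
    · have e := eq_of_le_of_card_ge h (by rw [hE'c, P.F'.card_A])
      rw [e] at hx ⊢
      exact (mem_normalizer_iff.1 hmN' x).1 hx
  have h2E : P.F.el 2 ∈ E := (hEm _).2 ⟨2, by norm_num, by decide +kernel, Or.inl rfl⟩
  obtain ⟨y, hy, hye⟩ := hfix _ ⟨_, h2E, rfl⟩
  simp only [MulEquiv.coe_toMonoidHom, MulAut.conj_apply] at hye
  have hye' : y = g' * P.F.el 2 * g'⁻¹ := by
    rw [show m * (c' * P.F.el 2 * c'⁻¹) * m⁻¹ = c' * (g' * P.F.el 2 * g'⁻¹) * c'⁻¹ by rw [hm]; group] at hye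
    exact mul_left_cancel (mul_right_cancel hye)
  have hw : R.w < 16 := (show ∀ x ∈ sU, x < 16 by decide) _ R.w_mem
  obtain ⟨x, hx, -, hxy⟩ := (hEm y).1 hy
  have hc : P.F.code y = cPi := by
    rw [hye', hg'2, P.F.code_mul P.F.p_mem.1 (P.F.A_le_N (P.F.el_mem hw)), P.F.code_of_mem_A (P.F.el_mem hw),
      P.F.p_mem.2]
    decide +kernel
  rcases hxy with rfl | rfl
  · rw [P.F.code_of_mem_A (P.F.el_mem hx)] at hc; exact absurd hc (by decide +kernel)
  · rw [P.F.code_mul R.mem (P.F.A_le_N (P.F.el_mem hx)), P.F.code_of_mem_A (P.F.el_mem hx), R.code] at hc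
    exact absurd hc (by decide +kernel)

end Pair

end Cfsg.Lib.TwoTimesSym
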