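import Mathlib

/-!
Counting tools for an involution `t`: the transfer of `t` into a subgroup, and the sign of `t` on the
cosets of a subgroup, both evaluated through the number of conjugates of `t` in that subgroup.
-/

set_option autoImplicit false
set_option linter.unusedSectionVars false
set_option linter.style.haveILetI false

namespace Cfsg.Lib.TwoTimesSym

open Subgroup

variable {G : Type*} [Group G] [Finite G]

/-- the cosets fixed by `t`, with a given value of `χ` -/
noncomputable def fixVal (t : G) (P : Subgroup G) {A : Type*} [CommGroup A] (χ : ↥P →* A) (η : A) :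
    ℕ :=
  Nat.card {c : G ⧸ P // ∃ g : G, ∃ h : g⁻¹ * t * g ∈ P, (g : G ⧸ P) = c ∧ χ ⟨_, h⟩ = η}

/-- the conjugates of `t` in `P`, with a given value of `χ` -/
noncomputable def conjVal (t : G) (P : Subgroup G) {A : Type*} [CommGroup A] (χ : ↥P →* A) (η : A) :
    ℕ :=
  Nat.card {d : ↥P // IsConj t (d : G) ∧ χ d = η}

theorem val_coset {t : G} {P : Subgroup G} {A : Type*} [CommGroup A] (χ : ↥P →* A) {g g' : G}
    (h : g⁻¹ * t * g ∈ P) (e : (g : G ⧸ P) = g') :
    ∃ h' : g'⁻¹ * t * g' ∈ P, χ ⟨_, h'⟩ = χ ⟨_, h⟩ := by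
  have hx : g⁻¹ * g' ∈ P := QuotientGroup.eq.1 e
  have e' : g'⁻¹ * t * g' = (g⁻¹ * g')⁻¹ * (g⁻¹ * t * g) * (g⁻¹ * g') := by group
  have hm : g'⁻¹ * t * g' ∈ P := by rw [e']; exact mul_mem (mul_mem (inv_mem hx) h) hx
  refine ⟨hm, ?_⟩
  have : (⟨_, hm⟩ : ↥P) = (⟨_, hx⟩ : ↥P)⁻¹ * ⟨_, h⟩ * ⟨_, hx⟩ := Subtype.ext e'
  rw [this, map_mul, map_mul, map_inv, inv_mul_cancel_comm]

/-- the fixed cosets are counted by the conjugates of `t` in `P` -/
theorem fixVal_mul (t : G) (P : Subgroup G) {A : Type*} [CommGroup A] (χ : ↥P →* A) (η : A) :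
    fixVal t P χ η * Nat.card P = Nat.card (centralizer ({t} : Set G)) * conjVal t P χ η := by
  classical
  set W : Set G := {g | ∃ h : g⁻¹ * t * g ∈ P, χ ⟨_, h⟩ = η} with hW
  set T : Set (G ⧸ P) := {c | ∃ g : G, ∃ h : g⁻¹ * t * g ∈ P, (g : G ⧸ P) = c ∧ χ ⟨_, h⟩ = η}
    with hT
  have hWT : W = QuotientGroup.mk ⁻¹' T := by
    ext g
    simp only [hW, hT, Set.mem_preimage, Set.mem_ofPred_eq]
    constructor
    · rintro ⟨h, e⟩; exact ⟨g, h, rfl, e⟩
    · rintro ⟨g0, h, e0, e⟩
      obtain ⟨h', e'⟩ := val_coset χ h e0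
      exact ⟨h', e'.trans e⟩
  have h1 : Nat.card W = Nat.card P * fixVal t P χ η := by
    rw [hWT, Nat.card_congr (QuotientGroup.preimageMkEquivSubgroupProdSet P T), Nat.card_prod]
    rfl
  let F : W → {d : ↥P // IsConj t (d : G) ∧ χ d = η} := fun g =>
    ⟨⟨_, g.2.1⟩, isConj_iff.2 ⟨(g : G)⁻¹, by simp⟩, g.2.2⟩
  have h2 : Nat.card W = Nat.card (centralizer ({t} : Set G)) * conjVal t P χ η := by
    rw [← Nat.card_congr (Equiv.sigmaFiberEquiv F), conjVal,
      Nat.card_congr (β := {d : ↥P // IsConj t (d : G) ∧ χ d = η} × ↥(centralizer ({t} : Set G)))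
        ((Equiv.sigmaCongrRight fun d => ?_).trans (Equiv.sigmaEquivProd _ _)), Nat.card_prod, mul_comm]
    have hg0 : ∃ g0 : G, g0⁻¹ * t * g0 = (d.1 : G) := by
      obtain ⟨c, hc⟩ := isConj_iff.1 d.2.1
      exact ⟨c⁻¹, by simpa using hc⟩
    let g0 := hg0.choose
    have hg0e : g0⁻¹ * t * g0 = (d.1 : G) := hg0.choose_spec
    refine
      { toFun := fun g => ⟨(g.1 : G) * g0⁻¹, ?_⟩
        invFun := fun c => ⟨⟨(c : G) * g0, ?_⟩, ?_⟩
        left_inv := fun g => by apply Subtype.ext; apply Subtype.ext; simp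
        right_inv := fun c => by apply Subtype.ext; simp }
    · rw [mem_centralizer_singleton_iff]
      have hg : (g.1 : G)⁻¹ * t * g.1 = (d.1 : G) := congrArg (fun x => (x.1 : G)) g.2
      rw [← hg0e] at hg
      calc (g.1 : G) * g0⁻¹ * t = g.1 * (g0⁻¹ * t * g0) * g0⁻¹ := by group
        _ = g.1 * ((g.1 : G)⁻¹ * t * g.1) * g0⁻¹ := by rw [hg]
        _ = t * (g.1 * g0⁻¹) := by group
    · have hc := mem_centralizer_singleton_iff.1 c.2
      have e : ((c : G) * g0)⁻¹ * t * ((c : G) * g0) = (d.1 : G) := by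
        rw [← hg0e, mul_inv_rev]
        calc g0⁻¹ * (c : G)⁻¹ * t * ((c : G) * g0) = g0⁻¹ * ((c : G)⁻¹ * (t * c)) * g0 := by group
          _ = g0⁻¹ * t * g0 := by rw [← hc, inv_mul_cancel_left]
      refine ⟨by rw [e]; exact d.1.2, ?_⟩
      have : (⟨_, (by rw [e]; exact d.1.2 : ((c : G) * g0)⁻¹ * t * ((c : G) * g0) ∈ P)⟩ : ↥P) = d.1 :=
        Subtype.ext e
      rw [this]; exact d.2.2
    · apply Subtype.ext; apply Subtype.ext
      show ((c : G) * g0)⁻¹ * t * ((c : G) * g0) = (d.1 : G)
      have hc := mem_centralizer_singleton_iff.1 c.2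
      rw [← hg0e, mul_inv_rev]
      calc g0⁻¹ * (c : G)⁻¹ * t * ((c : G) * g0) = g0⁻¹ * ((c : G)⁻¹ * (t * c)) * g0 := by group
        _ = g0⁻¹ * t * g0 := by rw [← hc, inv_mul_cancel_left]
  rw [mul_comm, ← h1, h2]

theorem exists_index_two_of_hom {A : Type*} [CommGroup A] (f : G →* A) {x : G} (hx : f x ≠ 1)
    (hx2 : x * x = 1) : ∃ H : Subgroup G, H.index = 2 := by
  classical
  -- squares do not exhaust the image
  set R := f.range
  haveI : Finite R := Finite.of_surjective f.rangeRestrict f.rangeRestrict_surjective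
  set sq : R →* R := powMonoidHom 2
  have hne : sq.range ≠ ⊤ := fun h => by
    have hi := Finite.injective_iff_surjective.mpr (MonoidHom.range_eq_top.mp h)
    apply hx
    have h2 : sq (f.rangeRestrict x) = sq 1 := by
      simp [sq, pow_two, ← map_mul, hx2]
    simpa using congrArg Subtype.val (hi h2)
  have hp : IsPGroup 2 (R ⧸ sq.range) := fun q => ⟨1, by
    obtain ⟨x, rfl⟩ := QuotientGroup.mk_surjective q
    rw [pow_one, ← QuotientGroup.mk_pow, QuotientGroup.eq_one_iff]
    exact ⟨x, rfl⟩⟩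
  haveI : Fact (Nat.Prime 2) := ⟨Nat.prime_two⟩
  obtain ⟨j, hj⟩ := IsPGroup.iff_card.1 hp
  have hj0 : j ≠ 0 := by
    rintro rfl
    exact hne (index_eq_one.1 (by rw [index, hj, pow_zero]))
  obtain ⟨K, hK⟩ := Sylow.exists_subgroup_card_pow_prime (G := R ⧸ sq.range) 2 (n := j - 1)
    (by rw [hj]; exact pow_dvd_pow 2 (Nat.sub_le j 1))
  refine ⟨K.comap ((QuotientGroup.mk' sq.range).comp f.rangeRestrict), ?_⟩
  rw [index_comap_of_surjective K
    (f := (QuotientGroup.mk' sq.range).comp f.rangeRestrict)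
    (fun y => by
      obtain ⟨r, rfl⟩ := QuotientGroup.mk'_surjective sq.range y
      obtain ⟨g, rfl⟩ := f.rangeRestrict_surjective r
      exact ⟨g, rfl⟩)]
  have hi := K.index_mul_card
  rw [hK, hj] at hi
  obtain ⟨i, rfl⟩ := Nat.exists_eq_succ_of_ne_zero hj0
  rw [Nat.succ_sub_one, pow_succ, mul_comm] at hi
  exact Nat.eq_of_mul_eq_mul_left (by positivity) hi

/-- The transfer criterion. -/
theorem exists_index_two_of_values {t : G} (ht : t * t = 1) (P : Subgroup G) {A : Type*} [CommGroup A]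
    (χ : ↥P →* A) {a : A} (ha : a ≠ 1)
    {c q : ℕ} (hC : Nat.card (centralizer ({t} : Set G)) = 32 * c) (hc : Odd c)
    (hP : Nat.card P = 32 * q)
    (hk : ∀ η : A, η ≠ 1 → ∃ r, conjVal t P χ η = q * r ∧ (Odd r ↔ η = a)) :
    ∃ H : Subgroup G, H.index = 2 := by
  classical
  haveI := Fintype.ofFinite (G ⧸ P)
  haveI := Fintype.ofFinite (Quotient (MulAction.orbitRel (zpowers t) (G ⧸ P)))
  let φ : G ⧸ P → A := fun c => if h : c.out⁻¹ * t * c.out ∈ P then χ ⟨_, h⟩ else 1
  have hfix : ∀ c : G ⧸ P, t • c = c ↔ c.out⁻¹ * t * c.out ∈ P := by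
    intro c
    conv_lhs => rw [← QuotientGroup.out_eq' c]
    rw [MulAction.Quotient.smul_mk, QuotientGroup.eq, smul_eq_mul]
    have e : (t * c.out)⁻¹ * c.out = (c.out⁻¹ * t * c.out)⁻¹ := by group
    rw [e, inv_mem_iff]
  have hT : MonoidHom.transfer χ t = ∏ c ∈ Finset.univ.filter (fun c : G ⧸ P => t • c = c), φ c := by
    rw [MonoidHom.transfer_eq_prod_quotient_orbitRel_zpowers_quot χ t]
    have hper : ∀ c : G ⧸ P, Function.minimalPeriod (t • ·) c = 1 ∨
        (Function.minimalPeriod (t • ·) c = 2 ∧ ¬ t • c = c) := by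
      intro c
      have h2 : Function.IsPeriodicPt (t • ·) 2 c := by
        show t • (t • c) = c
        rw [← mul_smul, ht, one_smul]
      rcases (Nat.dvd_prime Nat.prime_two).mp h2.minimalPeriod_dvd with h | h
      · exact Or.inl h
      · refine Or.inr ⟨h, fun hf => ?_⟩
        have h1 := (Function.minimalPeriod_eq_one_iff_isFixedPt (f := (t • ·)) (x := c)).mpr hf
        omega
    refine Eq.trans ?_ (Finset.prod_bij
      (s := (Finset.univ.filter (fun q : Quotient (MulAction.orbitRel (zpowers t) (G ⧸ P)) => t • q.out = q.out)))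
      (t := Finset.univ.filter (fun c : G ⧸ P => t • c = c))
      (f := fun q => φ q.out) (g := φ) (fun q _ => q.out) (fun q hq => by simpa using hq)
      (fun q _ q' _ h => Quotient.out_injective h) (fun c hc => ?_) (fun q _ => rfl))
    · rw [Finset.prod_filter]
      refine Finset.prod_congr rfl fun q _ => ?_
      rcases hper q.out with h | ⟨h, hne⟩
      · have hf : t • q.out = q.out :=
          (Function.minimalPeriod_eq_one_iff_isFixedPt (f := (t • ·)) (x := q.out)).mp h
        rw [if_pos hf]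
        have hmem := (hfix _).mp hf
        show _ = if h' : _ then χ ⟨_, h'⟩ else 1
        rw [dif_pos hmem]
        congr 1
        exact Subtype.ext (by simp only [h, pow_one])
      · rw [if_neg hne, ← map_one χ]
        congr 1
        refine Subtype.ext ?_
        simp only [h, pow_two, ht, mul_one, inv_mul_cancel]
        rfl
    · simp only [Finset.mem_filter, Finset.mem_univ, true_and] at hc
      have hq : (Quotient.mk'' c : Quotient (MulAction.orbitRel (zpowers t) (G ⧸ P))).out = c := by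
        have h1 := Quotient.mk_out' (s₁ := MulAction.orbitRel (zpowers t) (G ⧸ P)) c
        obtain ⟨⟨w, hw⟩, hw'⟩ := MulAction.orbitRel_apply.mp h1
        rw [← hw']
        obtain ⟨i, rfl⟩ := mem_zpowers_iff.mp hw
        exact MulAction.mem_stabilizer_iff.mp (zpow_mem (MulAction.mem_stabilizer_iff.mpr hc) i)
      exact ⟨Quotient.mk'' c, Finset.mem_filter.mpr ⟨Finset.mem_univ _, by rw [hq]; exact hc⟩, hq⟩
  set F := Finset.univ.filter (fun c : G ⧸ P => t • c = c) with hF
  have hcardη : ∀ η : A, (F.filter (fun c => φ c = η)).card = fixVal t P χ η := by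
    intro η
    rw [fixVal, Nat.card_eq_fintype_card, Fintype.card_subtype]
    congr 1
    ext c
    simp only [Finset.mem_filter, Finset.mem_univ, true_and, hF]
    constructor
    · rintro ⟨h1, h2⟩
      have hm := (hfix c).1 h1
      refine ⟨c.out, hm, QuotientGroup.out_eq' c, ?_⟩
      simpa only [φ, dif_pos hm] using h2
    · rintro ⟨g, h, e, e2⟩
      obtain ⟨h', e'⟩ := val_coset χ h (e.trans (QuotientGroup.out_eq' c).symm)
      refine ⟨(hfix c).2 h', ?_⟩
      show (if h'' : _ then χ ⟨_, h''⟩ else 1) = η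
      rw [dif_pos h']; exact e'.trans e2
  have hinv : ∀ c ∈ F, φ c * φ c = 1 := by
    intro c hc
    have hm := (hfix c).1 (Finset.mem_filter.1 hc).2
    simp only [φ, dif_pos hm, ← map_mul]
    rw [← map_one χ]
    congr 1
    apply Subtype.ext
    show c.out⁻¹ * t * c.out * (c.out⁻¹ * t * c.out) = 1
    calc _ = c.out⁻¹ * (t * t) * c.out := by group
      _ = 1 := by rw [ht]; group
  have hval : MonoidHom.transfer χ t = a := by
    rw [hT, ← Finset.prod_fiberwise_of_maps_to (g := φ) (t := insert a (F.image φ))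
      (fun c hc => Finset.mem_insert_of_mem (Finset.mem_image_of_mem φ hc))]
    have key : ∀ η ∈ insert a (F.image φ), (∏ c ∈ F.filter (fun c => φ c = η), φ c) =
        if η = a then a else 1 := by
      intro η hη
      rw [Finset.prod_eq_pow_card (b := η) fun c hc => (Finset.mem_filter.1 hc).2, hcardη]
      by_cases h1 : η = 1
      · rw [h1, one_pow, if_neg (Ne.symm ha)]
      obtain ⟨r, hr, hr'⟩ := hk η h1
      have hq0 : q ≠ 0 := by
        rintro rfl
        exact absurd hP (by rw [mul_zero]; exact Nat.card_pos.ne')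
      have hn : fixVal t P χ η = c * r := by
        have := fixVal_mul t P χ η
        rw [hP, hC, hr] at this
        refine Nat.eq_of_mul_eq_mul_right (Nat.mul_pos (by norm_num) (Nat.pos_of_ne_zero hq0) : 0 < 32 * q) ?_
        rw [this]; ring
      rw [hn]
      by_cases he : η = a
      · rw [if_pos he]
        have hodd : Odd (c * r) := hc.mul (hr'.2 he)
        obtain ⟨c0, hc0⟩ : (F.filter (fun c => φ c = η)).Nonempty := by
          rw [← Finset.card_pos, hcardη, hn]; exact hodd.pos
        rw [Finset.mem_filter] at hc0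
        have hsq : η * η = 1 := hc0.2 ▸ hinv c0 hc0.1
        obtain ⟨s, hs⟩ := hodd
        rw [hs, pow_add, pow_mul, pow_two, hsq, one_pow, one_mul, pow_one, he]
      · rw [if_neg he]
        have heven : Even (c * r) := (Nat.not_odd_iff_even.1 (fun h => he (hr'.1 h))).mul_left c
        rcases Finset.mem_insert.1 hη with h | h
        · exact absurd h he
        · obtain ⟨c0, hc0, rfl⟩ := Finset.mem_image.1 h
          obtain ⟨s, hs⟩ := heven
          rw [hs, pow_add, ← mul_pow, hinv c0 hc0, one_pow]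
    rw [Finset.prod_congr rfl key, Finset.prod_ite_eq', if_pos (Finset.mem_insert_self _ _)]
  exact exists_index_two_of_hom (MonoidHom.transfer χ) (x := t) (by rw [hval]; exact ha) ht

/-- The conjugates of `t` in a subgroup. -/
noncomputable def conjCount (t : G) (L : Subgroup G) : ℕ :=
  Nat.card {d : ↥L // IsConj t (d : G)}

/-- The fixed cosets of `t`. -/
noncomputable def fixCount (t : G) (L : Subgroup G) : ℕ :=
  Nat.card {c : G ⧸ L // t • c = c}

theorem fixCount_mul (t : G) (L : Subgroup G) :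
    fixCount t L * Nat.card L = Nat.card (centralizer ({t} : Set G)) * conjCount t L := by
  have h := fixVal_mul t L (1 : ↥L →* Multiplicative (ZMod 2)) 1
  have e1 : fixVal t L (1 : ↥L →* Multiplicative (ZMod 2)) 1 = fixCount t L := by
    refine Nat.card_congr (Equiv.subtypeEquivRight fun c => ?_)
    constructor
    · rintro ⟨g, h, rfl, -⟩
      rw [MulAction.Quotient.smul_mk, QuotientGroup.eq, smul_eq_mul]
      have e : (t * g)⁻¹ * g = (g⁻¹ * t * g)⁻¹ := by group
      rw [e]; exact inv_mem h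
    · intro hc
      refine ⟨c.out, ?_, QuotientGroup.out_eq' c, rfl⟩
      rw [← QuotientGroup.out_eq' c, MulAction.Quotient.smul_mk, QuotientGroup.eq, smul_eq_mul] at hc
      have e : (t * c.out)⁻¹ * c.out = (c.out⁻¹ * t * c.out)⁻¹ := by group
      rwa [e, inv_mem_iff] at hc
  have e2 : conjVal t L (1 : ↥L →* Multiplicative (ZMod 2)) 1 = conjCount t L :=
    Nat.card_congr (Equiv.subtypeEquivRight fun d => by simp)
  rwa [e1, e2] at h

/-- The number of fixed cosets has the parity of the index. -/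
theorem fixCount_parity {t : G} (ht : t * t = 1) (L : Subgroup G) :
    fixCount t L % 2 = L.index % 2 := by
  haveI : Fact (Nat.Prime 2) := ⟨Nat.prime_two⟩
  have hp : IsPGroup 2 ↥(zpowers t) := by
    rintro ⟨x, hx⟩
    obtain ⟨i, rfl⟩ := mem_zpowers_iff.1 hx
    refine ⟨1, Subtype.ext ?_⟩
    show (t ^ i) ^ (2 ^ 1) = 1
    rw [pow_one, ← zpow_natCast, ← zpow_mul, mul_comm, zpow_mul]
    simp [pow_two, ht]
  have h := hp.card_modEq_card_fixedPoints (G ⧸ L)
  have e : Nat.card (MulAction.fixedPoints ↥(zpowers t) (G ⧸ L)) = fixCount t L := by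
    refine Nat.card_congr (Equiv.subtypeEquivRight fun c => ?_)
    constructor
    · exact fun h => h ⟨t, mem_zpowers t⟩
    · rintro hc ⟨x, hx⟩
      obtain ⟨i, rfl⟩ := mem_zpowers_iff.1 hx
      exact MulAction.mem_stabilizer_iff.mp (zpow_mem (MulAction.mem_stabilizer_iff.mpr hc) i)
  rw [e, ← index] at h
  exact h.symm

/-- The sign criterion. -/
theorem exists_index_two_of_sign {t : G} (ht : t * t = 1) (L : Subgroup G) {f : ℕ}
    (hf : fixCount t L = f) (h : (L.index + 3 * f) % 4 = 2) :
    ∃ H : Subgroup G, H.index = 2 := by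
  classical
  haveI := Fintype.ofFinite (G ⧸ L)
  set σ : Equiv.Perm (G ⧸ L) := MulAction.toPermHom G (G ⧸ L) t with hσ
  have hσ2 : σ * σ = 1 := by rw [hσ, ← map_mul, ht, map_one]
  have hsupp : σ.support.card + fixCount t L = L.index := by
    rw [fixCount, Nat.card_eq_fintype_card, Fintype.card_subtype, L.index_eq_card, Nat.card_eq_fintype_card,
      ← Finset.card_univ, ← Finset.card_filter_add_card_filter_not (s := Finset.univ) (fun x => σ x ≠ x)]
    simp [Equiv.Perm.support, hσ]
  have hn : ∀ n ∈ σ.cycleType, n = 2 := fun n hn => by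
    have h1 := (Equiv.Perm.dvd_of_mem_cycleType hn).trans
      (orderOf_dvd_of_pow_eq_one (n := 2) (by rw [pow_two, hσ2]))
    have := Equiv.Perm.two_le_of_mem_cycleType hn
    have := Nat.le_of_dvd (by norm_num) h1
    omega
  have hrep := Multiset.eq_replicate_card.2 hn
  have hsum : σ.support.card = Multiset.card σ.cycleType * 2 := by
    rw [← Equiv.Perm.sum_cycleType]
    conv_lhs => rw [hrep]
    rw [Multiset.sum_replicate, smul_eq_mul]
  have hodd : Odd (Multiset.card σ.cycleType) := by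
    rw [Nat.odd_iff]; rw [hf] at hsupp; omega
  let ε : G →* ℤˣ := Equiv.Perm.sign.comp (MulAction.toPermHom G (G ⧸ L))
  have hsign : ε t = -1 := by
    show Equiv.Perm.sign σ = -1
    rw [Equiv.Perm.sign_of_cycleType, ← hsum.symm.trans σ.sum_cycleType.symm, pow_add, pow_mul',
      neg_one_sq, one_pow, one_mul]
    exact hodd.neg_one_pow
  exact exists_index_two_of_hom ε (x := t) (by rw [hsign]; decide) ht

end Cfsg.Lib.TwoTimesSym
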