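import Cfsg.Agent.TwoTimesSym.Quad
import Cfsg.Agent.TwoTimesSym.Big

/-!
The pattern in which eight vectors of a frame are conjugate to `t` inside its normaliser.
-/

set_option autoImplicit false
set_option linter.unusedSectionVars false
set_option linter.style.haveILetI false

namespace Cfsg.Lib.TwoTimesSym

open Subgroup

variable {G : Type*} [Group G]

/-- blocks of eight without conjugates in the frame -/
def eightB (f : ℕ) : Bool :=
  (fixL f).length == 8 && f != cId && (List.range 16).all fun x => !(ev f x == x && mask [7, 8, 14] x)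

/-- fixed vectors are commutators -/
def fullB (f : ℕ) : Bool :=
  (List.range 16).all fun x => !(ev f x == x) || (List.range 16).any fun y => (ev f y ^^^ y) == x

theorem swap_code_table : ∀ f ∈ xFull ++ xFour, ev f 1 = 8 → ev f 6 = 6 → comp f cPi = comp cPi f →
    f ∈ [7128, 7608, 4680, 5160] := by
  decide +kernel

namespace Pair

variable {t : G} (P : Pair t) [Finite G]

theorem of_eightB {f : ℕ} (hD : P.DL = [7, 8, 14]) (h : eightB f = true) :
    P.nC f = 0 ∨ (P.nC f = 8 ∧ ∀ e ∈ P.F.N, P.F.code e = f → e * e = 1 → IsConj t e) := by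
  simp only [eightB, Bool.and_eq_true, beq_iff_eq, bne_iff_ne, List.all_eq_true, List.mem_range,
    Bool.not_eq_true'] at h
  refine P.half hD h.1.1 (fun x hx e => ?_) h.1.2
  simpa [e] using h.2 x hx

theorem of_fullB {f : ℕ} (h : fullB f = true) :
    P.nC f = 0 ∨ (P.nC f = (fixL f).length ∧ ∀ e ∈ P.F.N, P.F.code e = f → e * e = 1 → IsConj t e) := by
  simp only [fullB, List.all_eq_true, Bool.or_eq_true, List.any_eq_true, List.mem_range, beq_iff_eq,
    Bool.not_eq_true'] at h
  refine P.nC_full fun x hx e => ?_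
  rcases h x hx with h' | h'
  · simp [e] at h'
  · exact h'

theorem exists_of_nC {f : ℕ} (h : P.nC f ≠ 0) : ∃ d ∈ P.F.N, P.F.code d = f ∧ IsConj t d := by
  rcases P.nC_cases f with h' | ⟨d, -, hd, hdf, hdt, -⟩
  · exact absurd h' h
  · exact ⟨d, hd, hdf, hdt⟩

theorem nC_ne_zero {g : G} {f : ℕ} (hg : g ∈ P.F.N) (hgf : P.F.code g = f) (hgt : IsConj t g) : P.nC f ≠ 0 := by
  intro h0
  haveI : IsEmpty {e : G // e ∈ P.F.N ∧ P.F.code e = f ∧ IsConj t e} := (Finite.card_eq_zero_iff).1 h0
  exact IsEmpty.false (α := {e : G // e ∈ P.F.N ∧ P.F.code e = f ∧ IsConj t e}) ⟨g, hg, hgf, hgt⟩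

theorem swap_eight (hD : P.DL = [7, 8, 14]) (hR : P.RL = [7, 8, 14]) :
    P.swap.DL = [7, 8, 14] ∧ P.swap.RL = [7, 8, 14] :=
  ⟨by rw [P.swap_DL_eq (Or.inr hD), hD], by rw [P.swap_RL_eq, hR]; decide +kernel⟩

/-- translations by the third coordinate yield the first kind of range in the other frame -/
theorem other_frame (hD : P.DL = [7, 8, 14]) (hR : P.RL = [7, 8, 14]) (hm : P.nC 31710 ≠ 0)
    (he : P.nC 32190 ≠ 0) : P.swap.IsRange xFull ∧ P.swap.nC 7608 ≠ 0 := by
  obtain ⟨hD', hR'⟩ := P.swap_eight hD hR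
  have hall := ((P.of_eightB hD (f := 31710) (by decide +kernel)).resolve_left hm).2
  have hfull := ((P.of_fullB (f := 32190) (by decide +kernel)).resolve_left he).2
  obtain ⟨l, hl, hl'⟩ : ∃ l, P.swap.IsRange l ∧ (l = xFull ∨ l = xFour) := by
    rcases P.swap.range_full hD' hR' with h | h
    · exact ⟨_, h, Or.inl rfl⟩
    · exact ⟨_, h, Or.inr rfl⟩
  -- an element of the coset in both frames
  have key : ∀ d ∈ P.F.N, P.F.code d = 31710 → IsConj t d →
      d ∈ P.F'.N ∧ P.F'.code d ∈ [7128, 7608, 4680, 5160] ∧ P.F'.code d ≠ 5160 := by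
    intro d hd hdc hdt
    have hdd := P.sq_of_conj hdt
    have hinv := inv_eq_of_mul_eq_one_right hdd
    have hNT : d ∈ P.NT := mem_NT_of_code hd hdc (f' := 31710) (by rw [hinv, hdc]) (by decide +kernel)
    have hd' : d ∈ P.F'.N := P.mem_N'_of hNT hd
    have h1 : P.F'.act d 1 = 8 := P.F'.act_eq (by norm_num) (by
      rw [P.l8, P.F'.el_one]
      have e := P.F.conj_el hd (show 1 < 16 by norm_num)
      rw [hdc, show ev 31710 1 = 14 by decide +kernel, P.F.el_one] at e
      exact e)
    have h6 : P.F'.act d 6 = 6 := P.F'.act_eq (by norm_num) (P.swap.conj_z (P.NT_swap ▸ hNT : d ∈ P.swap.NT))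
    refine ⟨hd', swap_code_table _ ?_ (by rw [P.F'.ev_code hd' (by norm_num), h1])
      (by rw [P.F'.ev_code hd' (by norm_num), h6]) (P.swap.code_p_conj hd' (P.NT_swap ▸ hNT)), fun h5 => ?_⟩
    · rcases hl' with rfl | rfl
      · exact List.mem_append_left _ (hl.mem d hd')
      · exact List.mem_append_right _ (hl.mem d hd')
    have hc : Commute d P.F.p := by
      rw [← P.l2]
      exact P.swap.commute_fixed hd' (show 2 < 16 by norm_num) (by
        show ev (P.F'.code d) 2 = 2
        rw [h5]; decide +kernel)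
    have hp : IsConj t P.F.p := by
      rw [← P.l2]
      exact (P.swap.conj_el_iff (show 2 < 16 by norm_num)).2 (by rw [hD']; decide +kernel)
    refine P.product_rule hD hdt hp hc (hfull _ (mul_mem hd P.F.p_mem.1) ?_ ?_)
    · rw [P.F.code_mul hd P.F.p_mem.1, hdc, P.F.p_mem.2]; decide +kernel
    · calc d * P.F.p * (d * P.F.p) = d * (P.F.p * d) * P.F.p := by group
        _ = d * d * (P.F.p * P.F.p) := by rw [← hc.eq]; group
        _ = 1 := by rw [hdd, P.F.p_sq, one_mul]
  obtain ⟨d, hd, hdc, hdt⟩ := P.exists_of_nC hm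
  set e := d * P.F.el 3 with hedef
  have h3 : P.F.el 3 = t * P.F'.p := by
    rw [← P.l2', show t * P.F.el 2 = P.F.el 1 * P.F.el 2 by rw [P.F.el_one],
      ← P.F.el_xor 1 (by norm_num) 2 (by norm_num)]
    rfl
  have heN : e ∈ P.F.N := mul_mem hd (P.F.A_le_N (P.F.el_mem (by norm_num)))
  have hec : P.F.code e = 31710 := by
    rw [hedef, P.F.code_mul hd (P.F.A_le_N (P.F.el_mem (by norm_num))),
      P.F.code_of_mem_A (P.F.el_mem (show 3 < 16 by norm_num)), hdc]
    decide +kernel
  have hee : e * e = 1 := by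
    have hc : Commute d (P.F.el 3) := P.commute_fixed hd (by norm_num) (by rw [hdc]; decide +kernel)
    rw [hedef]
    calc d * P.F.el 3 * (d * P.F.el 3) = d * (P.F.el 3 * d) * P.F.el 3 := by group
      _ = d * d * (P.F.el 3 * P.F.el 3) := by rw [← hc.eq]; group
      _ = 1 := by rw [P.sq_of_conj hdt, P.F.el_sq (by norm_num), one_mul]
  have het : IsConj t e := hall e heN hec hee
  obtain ⟨hd', hdm, hd5⟩ := key d hd hdc hdt
  obtain ⟨he', hem, he5⟩ := key e heN hec het
  have hcomp : P.F'.code e = comp (P.F'.code d) cPi := by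
    have hp' := P.F'.p_mem
    rw [hedef, h3, P.F'.code_mul hd' (mul_mem (P.F'.A_le_N P.F'.t_mem) hp'.1),
      P.F'.code_mul (P.F'.A_le_N P.F'.t_mem) hp'.1, P.F'.code_of_mem_A P.F'.t_mem, hp'.2]
    congr 1
  have hfull' : ∀ {f}, P.F'.code f ∈ [7128, 7608] → f ∈ P.F'.N → l = xFull := by
    intro f hf hf'
    rcases hl' with h | h
    · exact h
    · exfalso
      have := h ▸ hl.mem f hf'
      exact (show ∀ g ∈ [7128, 7608], g ∉ xFour by decide +kernel) _ hf this
  simp only [List.mem_cons, List.not_mem_nil, or_false] at hdm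
  rcases hdm with h | h | h | h
  · have h' : P.F'.code e = 7608 := by rw [hcomp, h]; decide +kernel
    exact ⟨hfull' (f := e) (by rw [h']; decide) he' ▸ hl, P.swap.nC_ne_zero he' h' het⟩
  · exact ⟨hfull' (f := d) (by rw [h]; decide) hd' ▸ hl, P.swap.nC_ne_zero hd' h hdt⟩
  · exact absurd (by rw [hcomp, h]; decide +kernel) he5
  · exact absurd h hd5

/-- the first range with a translation fixing a coordinate -/
theorem full_translation (hD : P.DL = [7, 8, 14]) (hl : P.IsRange xFull) (hmu : P.nC 7608 ≠ 0) :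
    ∃ H : Subgroup G, H.index = 2 := by
  have hid := P.nC_id_eight hD
  have hpi := P.nC_pi_eight hD
  have h8 : P.nC 7608 = 8 := ((P.of_eightB hD (by decide +kernel)).resolve_left hmu).1
  by_cases hz : P.nC 11915 = 0
  swap
  · refine P.quad hD hz (by rwa [hl.nC_eq (f := 57927) (r := 11915) (by decide +kernel)]) ?_
    have h := card_subgroup_dvd_card (Codes.ofRange hl sFull (by decide +kernel)).pre
    rw [Codes.card_pre] at h
    exact h
  by_cases he : P.nC 7128 = 0
  · exact P.index_two_of_sum hl sFull (by decide +kernel) (q := 8) (by decide +kernel)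
      (fun f => [7128, 10475, 20109, 32190, 33345, 45426, 55060, 58407].contains f) (by decide +kernel)
      (rs := [cId, cPi, 7128, 7608, 11915, 31710]) (cs := [0, 2, 2, 0, 0, 0]) (by decide +kernel)
      ⟨1, by simp [hid, hpi, he], odd_one⟩
  have he4 : P.nC 7128 = 4 := ((P.of_fullB (by decide +kernel)).resolve_left he).1
  rcases P.of_eightB hD (f := 31710) (by decide +kernel) with hm | ⟨hm, -⟩
  · exact P.big hD hl he4 h8 hm hz
  · exact P.index_two_of_sum hl sFull (by decide +kernel) (q := 8) (by decide +kernel)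
      (fun f => [7608, 10475, 20109, 31710, 33345, 46866, 53620, 58407].contains f) (by decide +kernel)
      (rs := [cId, cPi, 7128, 7608, 11915, 31710]) (cs := [0, 2, 0, 3, 0, 1]) (by decide +kernel)
      ⟨5, by simp [hid, hpi, h8, hm], by decide⟩

/-- the pattern with eight conjugates in the normaliser -/
theorem eight (hD : P.DL = [7, 8, 14]) (hR : P.RL = [7, 8, 14]) : ∃ H : Subgroup G, H.index = 2 := by
  obtain ⟨hD', hR'⟩ := P.swap_eight hD hR
  have viaOther : P.nC 31710 ≠ 0 → P.nC 32190 ≠ 0 → ∃ H : Subgroup G, H.index = 2 := fun hm he =>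
    let h := P.other_frame hD hR hm he
    P.swap.full_translation hD' h.1 h.2
  have hid := P.nC_id_eight hD
  have hpi := P.nC_pi_eight hD
  rcases P.range_full hD hR with hl | hl
  · by_cases hmu : P.nC 7608 = 0
    swap
    · exact P.full_translation hD hl hmu
    by_cases hm : P.nC 31710 = 0
    · exact P.index_two_of_sum hl sFull (by decide +kernel) (q := 8) (by decide +kernel)
        (fun f => [7608, 10475, 20109, 31710, 33345, 46866, 53620, 58407].contains f) (by decide +kernel)
        (rs := [cId, cPi, 7128, 7608, 11915, 31710]) (cs := [0, 2, 0, 3, 0, 1]) (by decide +kernel)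
        ⟨1, by simp [hid, hpi, hmu, hm], odd_one⟩
    by_cases he : P.nC 32190 = 0
    · exact P.index_two_of_sum hl sFull (by decide +kernel) (q := 8) (by decide +kernel)
        (fun f => [7128, 10475, 20109, 32190, 33345, 45426, 55060, 58407].contains f) (by decide +kernel)
        (rs := [cId, cPi, 32190, 7608, 11915, 31710]) (cs := [0, 2, 2, 0, 0, 0]) (by decide +kernel)
        ⟨1, by simp [hid, hpi, he], odd_one⟩
    exact viaOther hm he
  · by_cases he : P.nC 32190 = 0
    · exact P.index_two_of_sum hl sFour (by decide +kernel) (q := 8) (by decide +kernel)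
        (fun f => [5160, 10260, 16770, 32190, 33345, 48765, 55275, 60375].contains f) (by decide +kernel)
        (rs := [cId, cPi, 4680, 47085, 32190, 31710]) (cs := [0, 2, 0, 0, 2, 0]) (by decide +kernel)
        ⟨1, by simp [hid, hpi, he], odd_one⟩
    have hmv := P.of_eightB hD (f := 31710) (by decide +kernel)
    have hv : P.nC 47085 = 0 := by
      rcases P.of_fullB (f := 47085) (by decide +kernel) with h | ⟨h, -⟩
      · exact h
      exfalso
      rw [show (fixL 47085).length = 4 by decide +kernel] at h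
      obtain ⟨c, hc, hdvd⟩ := P.dvd_sum hl sFour (by decide +kernel)
        (fun f => [5160, 10260, 16770, 31710, 33345, 47085, 56955, 60855].contains f) (by decide +kernel)
        (rs := [cId, cPi, 4680, 47085, 32190, 31710]) (cs := [0, 2, 0, 3, 0, 1]) (by decide +kernel)
      rw [Nat.odd_iff] at hc
      obtain ⟨k, hk⟩ := hdvd
      rcases hmv with hm | ⟨hm, -⟩
      · simp [hid, hpi, h, hm, show sFour.length = 16 from rfl] at hk
        omega
      · simp [hid, hpi, h, hm, show sFour.length = 16 from rfl] at hk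
        omega
    by_cases hm : P.nC 31710 = 0
    · exact P.index_two_of_sum hl sFour (by decide +kernel) (q := 8) (by decide +kernel)
        (fun f => [5160, 10260, 16770, 31710, 33345, 47085, 56955, 60855].contains f) (by decide +kernel)
        (rs := [cId, cPi, 4680, 47085, 32190, 31710]) (cs := [0, 2, 0, 3, 0, 1]) (by decide +kernel)
        ⟨1, by simp [hid, hpi, hv, hm], odd_one⟩
    exact viaOther hm he

end Pair

end Cfsg.Lib.TwoTimesSym
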