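import Cfsg.Agent.TwoTimesSym.Pair
import Cfsg.Agent.TwoTimesSym.Count

/-!
The conjugates of `t` inside the Sylow subgroup of its centralizer, and the reduction to few patterns.
-/

set_option autoImplicit false
set_option linter.unusedSectionVars false

namespace Cfsg.Lib.TwoTimesSym

open Subgroup

variable {G : Type*} [Group G]

/-- class representatives of a coordinate vector -/
def rep (x : ℕ) : ℕ :=
  [0, 1, 8, 9, 8, 9, 6, 7, 8, 9, 6, 7, 6, 7, 14, 15].getD x 0

/-- the vectors conjugate to `t`, given the conjugate representatives -/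
def mask (l : List ℕ) (x : ℕ) : Bool := rep x == 1 || l.contains (rep x)

/-- representatives in the other frame -/
def sw (x : ℕ) : ℕ := if x = 8 then 14 else if x = 14 then 8 else if x = 9 then 15 else if x = 15 then 9 else x

/-- the conjugates of `t` in the coded Sylow group -/
def maskT (l : List ℕ) (k : ℕ) : Bool :=
  if k < 16 then mask l k else (List.range 16).any fun y => tr y == k && mask (l.map sw) y

/-- the possible representatives -/
def reps : List ℕ := [7, 8, 9, 14, 15]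

namespace Pair

variable {t : G} (P : Pair t) [Finite G]

open scoped Classical in
/-- the representatives conjugate to `t` -/
noncomputable def DL : List ℕ := reps.filter fun y => decide (IsConj t (P.F.el y))

theorem DL_mem_sublists : P.DL ∈ reps.sublists := by
  classical
  exact List.mem_sublists.2 (List.filter_sublist ..)

theorem mem_DL {y : ℕ} : y ∈ P.DL ↔ y ∈ reps ∧ IsConj t (P.F.el y) := by
  simp [DL]

theorem el6_comm : P.F.el 6 = P.F.p * P.F.el 2 * P.F.p * P.F.el 2 := by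
  have h := congrArg P.emb (show tmul (tmul (tmul 16 2) 16) 2 = 6 by decide +kernel)
  rw [P.emb_mul, P.emb_mul, P.emb_mul, P.emb_16, P.emb_lt (show 2 < 16 by norm_num),
    P.emb_lt (show 6 < 16 by norm_num)] at h
  exact h.symm

/-- `z` is fixed by the normaliser of `T` -/
theorem conj_z {g : G} (hg : g ∈ normalizer (P.T : Set G)) : g * P.F.el 6 * g⁻¹ = P.F.el 6 := by
  have h1 := (mem_normalizer_iff.1 hg _).1 P.p_mem_T
  have h2 := (mem_normalizer_iff.1 hg _).1 (P.A_le_T (P.F.el_mem (show 2 < 16 by norm_num)))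
  obtain ⟨k, hk, ek⟩ := h1
  obtain ⟨l, hl, el⟩ := h2
  have e : g * P.F.el 6 * g⁻¹ = P.emb (tmul (tmul (tmul k l) k) l) := by
    rw [P.el6_comm, P.emb_mul, P.emb_mul, P.emb_mul, ek, el]; group
  have hkk : tmul k k = 0 := P.emb_inj tmul_lt (by norm_num) (by
    rw [P.emb_mul, ek, P.emb_zero]
    calc g * P.F.p * g⁻¹ * (g * P.F.p * g⁻¹) = g * (P.F.p * P.F.p) * g⁻¹ := by group
      _ = 1 := by rw [P.F.p_sq]; group)
  have hll : tmul l l = 0 := P.emb_inj tmul_lt (by norm_num) (by
    rw [P.emb_mul, el, P.emb_zero]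
    calc g * P.F.el 2 * g⁻¹ * (g * P.F.el 2 * g⁻¹) = g * (P.F.el 2 * P.F.el 2) * g⁻¹ := by group
      _ = 1 := by rw [P.F.el_sq (by norm_num)]; group)
  rcases (show ∀ k < 32, ∀ l < 32, tmul k k = 0 → tmul l l = 0 →
      tmul (tmul (tmul k l) k) l = 0 ∨ tmul (tmul (tmul k l) k) l = 6 by decide +kernel) k hk l hl hkk hll
    with h | h
  · rw [h, P.emb_zero] at e
    have : P.F.el 6 = P.F.el 0 := by
      rw [P.F.el_zero]
      calc P.F.el 6 = g⁻¹ * (g * P.F.el 6 * g⁻¹) * g := by group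
        _ = 1 := by rw [e]; group
    exact absurd (P.F.el_inj _ (by norm_num) _ (by norm_num) this) (by norm_num)
  · rw [h] at e
    rw [e, P.emb_lt (by norm_num)]

theorem z_not_conj : ¬ IsConj t (P.F.el 6) := by
  intro h
  obtain ⟨c, hc⟩ := isConj_iff.1 h
  obtain ⟨g, -, hg, hgt⟩ := P.burnside (M := ⊤) le_top (y := P.F.el 6) (fun x hx => by
    obtain ⟨k, hk, rfl⟩ := hx
    have e := congrArg P.emb ((show ∀ k < 32, tmul k 6 = tmul 6 k by decide +kernel) k hk)
    rw [P.emb_mul, P.emb_mul, P.emb_lt (show 6 < 16 by norm_num)] at e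
    exact e) (mem_top c) hc
  have h6 := P.conj_z hg
  have : t = P.F.el 6 := by
    have e := hgt.trans h6.symm
    exact mul_left_cancel (mul_right_cancel e)
  exact absurd (P.F.el_inj _ (by norm_num) _ (by norm_num) (P.F.el_one.trans this)) (by norm_num)

theorem isConj_rep {x : ℕ} (hx : x < 16) : IsConj (P.F.el (rep x)) (P.F.el x) := by
  have step : ∀ y < 16, IsConj (P.F.el y) (P.F.el (ev cRho y)) := fun y hy =>
    isConj_iff.2 ⟨_, P.F.r_el y hy⟩
  rcases (show ∀ x < 16, rep x = x ∨ ev cRho (rep x) = x ∨ ev cRho (ev cRho (rep x)) = x by decide +kernel)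
    x hx with h | h | h <;> have hr : rep x < 16 := (show ∀ x < 16, rep x < 16 by decide +kernel) x hx
  · rw [h]
  · conv_rhs => rw [← h]
    exact step _ hr
  · conv_rhs => rw [← h]
    exact (step _ hr).trans (step _ (Frame.ev_lt _ _))

/-- conjugates of `t` in the first frame -/
theorem conj_el_iff {x : ℕ} (hx : x < 16) : IsConj t (P.F.el x) ↔ mask P.DL x = true := by
  have h := P.isConj_rep hx
  have key : IsConj t (P.F.el x) ↔ IsConj t (P.F.el (rep x)) := ⟨fun e => e.trans h.symm, fun e => e.trans h⟩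
  rw [key, mask, Bool.or_eq_true, beq_iff_eq, List.contains_iff_mem, P.mem_DL]
  rcases (show ∀ x < 16, rep x = 0 ∨ rep x = 6 ∨ rep x = 1 ∨ rep x ∈ reps by decide +kernel) x hx
    with e | e | e | e
  · rw [e, P.F.el_zero]
    refine ⟨fun hc => ?_, fun hc => ?_⟩
    · exfalso
      obtain ⟨c, hc⟩ := isConj_iff.1 hc.symm
      have ht : t = P.F.el 0 := by rw [P.F.el_zero, ← hc]; group
      exact absurd (P.F.el_inj _ (by norm_num) _ (by norm_num) (P.F.el_one.trans ht)) (by norm_num)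
    · rcases hc with hc | ⟨hc, -⟩
      · exact absurd hc (by norm_num)
      · exact absurd hc (by decide)
  · rw [e]
    refine ⟨fun hc => absurd hc P.z_not_conj, fun hc => ?_⟩
    rcases hc with hc | ⟨hc, -⟩
    · exact absurd hc (by norm_num)
    · exact absurd hc (by decide)
  · rw [e, P.F.el_one]
    exact ⟨fun _ => Or.inl rfl, fun _ => IsConj.refl _⟩
  · refine ⟨fun hc => Or.inr ⟨e, hc⟩, fun hc => ?_⟩
    rcases hc with hc | ⟨-, hc⟩
    · rw [hc, P.F.el_one]
    · exact hc

theorem mask_swap (y : ℕ) : mask P.swap.DL y = mask (P.DL.map sw) y := by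
  have h : ∀ r, r ∈ P.swap.DL ↔ r ∈ P.DL.map sw := by
    intro r
    simp only [List.mem_map, P.mem_DL, P.swap.mem_DL]
    have e : ∀ r ∈ reps, IsConj t (P.swap.F.el r) ↔ IsConj t (P.F.el (sw r)) := by
      intro r hr
      show IsConj t (P.F'.el r) ↔ _
      have l6 := P.l6
      simp only [reps, List.mem_cons, List.not_mem_nil, or_false] at hr
      rcases hr with rfl | rfl | rfl | rfl | rfl <;> simp only [sw, reduceIte, Nat.reduceEqDiff]
      · rw [show (7 : ℕ) = 1 ^^^ 6 from rfl, P.F'.el_xor _ (by norm_num) _ (by norm_num),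
          P.F.el_xor _ (by norm_num) _ (by norm_num), P.F'.el_one, P.F.el_one, P.l6]
      · rw [P.l8]
      · rw [show (9 : ℕ) = 1 ^^^ 8 from rfl, show (15 : ℕ) = 1 ^^^ 14 from rfl,
          P.F'.el_xor _ (by norm_num) _ (by norm_num),
          P.F.el_xor _ (by norm_num) _ (by norm_num), P.F'.el_one, P.F.el_one, P.l8]
      · rw [P.l14]
      · rw [show (9 : ℕ) = 1 ^^^ 8 from rfl, show (15 : ℕ) = 1 ^^^ 14 from rfl,
          P.F'.el_xor _ (by norm_num) _ (by norm_num),
          P.F.el_xor _ (by norm_num) _ (by norm_num), P.F'.el_one, P.F.el_one, P.l14]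
    have hsw : ∀ r ∈ reps, sw r ∈ reps ∧ sw (sw r) = r := by decide
    constructor
    · rintro ⟨hr, hc⟩
      exact ⟨sw r, ⟨(hsw r hr).1, (e r hr).1 hc⟩, (hsw r hr).2⟩
    · rintro ⟨s, ⟨hs, hc⟩, rfl⟩
      refine ⟨(hsw s hs).1, (e _ (hsw s hs).1).2 ?_⟩
      rwa [(hsw s hs).2]
  have hc : P.swap.DL.contains (rep y) = (P.DL.map sw).contains (rep y) := by
    rw [Bool.eq_iff_iff, List.contains_iff_mem, List.contains_iff_mem, h]
  rw [mask, mask, hc]

/-- conjugates of `t` in `T` -/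
theorem conj_emb_iff {k : ℕ} (hk : k < 32) : IsConj t (P.emb k) ↔ maskT P.DL k = true := by
  unfold maskT
  split
  case isTrue h => rw [P.emb_lt h]; exact P.conj_el_iff h
  case isFalse h =>
    rw [List.any_eq_true]
    constructor
    · intro hc
      have hsq : tmul k k = 0 := by
        refine P.emb_inj tmul_lt (by norm_num) ?_
        obtain ⟨c, hc⟩ := isConj_iff.1 hc
        rw [P.emb_mul, P.emb_zero, ← hc]
        have ht : t * t = 1 := P.F.el_one ▸ P.F.el_sq (by norm_num)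
        calc c * t * c⁻¹ * (c * t * c⁻¹) = c * (t * t) * c⁻¹ := by group
          _ = 1 := by rw [ht]; group
      obtain ⟨y, hy, e⟩ := (show ∀ k < 32, 16 ≤ k → tmul k k = 0 → ∃ y < 16, tr y = k by decide +kernel)
        k hk (by omega) hsq
      refine ⟨y, List.mem_range.2 hy, ?_⟩
      rw [Bool.and_eq_true, beq_iff_eq, ← P.mask_swap]
      refine ⟨e, (P.swap.conj_el_iff hy).1 ?_⟩
      show IsConj t (P.F'.el y)
      rwa [P.el'_eq hy, e]
    · rintro ⟨y, hy, hy'⟩
      rw [Bool.and_eq_true, beq_iff_eq, ← P.mask_swap] at hy'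
      have h1 := (P.swap.conj_el_iff (List.mem_range.1 hy)).2 hy'.2
      have h2 : IsConj t (P.F'.el y) := h1
      rwa [P.el'_eq (List.mem_range.1 hy), hy'.1] at h2

end Pair

/-- functionals on the coded Sylow group -/
def phiT (q k : ℕ) : Bool :=
  xor (xor (q.testBit 0 && k.testBit 0) (q.testBit 1 && xor (k.testBit 1) (k.testBit 2)))
    (xor (q.testBit 2 && k.testBit 3) (q.testBit 3 && k.testBit 4))

theorem phiT_mul : ∀ q < 16, ∀ k < 32, ∀ l < 32, phiT q (tmul k l) = xor (phiT q k) (phiT q l) := by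
  decide +kernel

/-- the patterns not settled inside `T` -/
def hard : List (List ℕ) := [[9, 14], [8, 15], [8, 9], [14, 15], [7], [7, 8, 14], [7, 9, 15], [7, 8, 9, 14, 15]]

theorem pattern_table : ∀ l ∈ reps.sublists, l ∈ hard ∨ ∃ q < 16,
    ((List.finRange 32).filter fun k : Fin 32 => maskT l k && phiT q k).length % 2 = 1 := by
  decide +kernel

/-- `ZMod 2`-valued -/
def bz (b : Bool) : Multiplicative (ZMod 2) := Multiplicative.ofAdd (if b then 1 else 0)

theorem bz_xor : ∀ a b, bz (xor a b) = bz a * bz b := by decide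

theorem bz_eq_true : ∀ b, bz b = bz true ↔ b = true := by decide

theorem eq_bz_true : ∀ η : Multiplicative (ZMod 2), η ≠ 1 → η = bz true := by decide

namespace Pair

variable {t : G} (P : Pair t) [Finite G]

include P in
theorem ht2 : t * t = 1 := by
  simpa only [P.F.el_one] using P.F.el_sq (show 1 < 16 by norm_num)

/-- either a subgroup of index two, or one of eight patterns -/
theorem sylow_pattern : (∃ H : Subgroup G, H.index = 2) ∨ P.DL ∈ hard := by
  classical
  rcases pattern_table _ P.DL_mem_sublists with h | ⟨q, hq, h⟩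
  · exact Or.inr h
  left
  let χ : ↥P.T →* Multiplicative (ZMod 2) := MonoidHom.mk' (fun g => bz (phiT q (P.idx.symm g))) (fun g g' => by
    rw [← bz_xor, ← phiT_mul q hq _ (P.idx.symm g).2 _ (P.idx.symm g').2]
    congr 2
    refine P.emb_inj (P.idx.symm (g * g')).2 tmul_lt ?_
    rw [P.emb_mul]
    have e : ∀ x : P.T, P.emb (P.idx.symm x) = x := fun x => congrArg Subtype.val (P.idx.apply_symm_apply x)
    rw [e, e, e]; rfl)
  obtain ⟨c, hc, hC⟩ := P.hcard
  refine exists_index_two_of_values P.ht2 P.T χ (a := bz true) (by decide) hC hc (q := 1)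
    (by rw [P.card_T]) fun η hη => ?_
  obtain rfl := eq_bz_true η hη
  refine ⟨_, (one_mul _).symm, iff_of_true ?_ rfl⟩
  rw [Nat.odd_iff, ← h, conjVal]
  congr 1
  have eq : {k : Fin 32 // (maskT P.DL k && phiT q k) = true} ≃
      {d : P.T // IsConj t (d : G) ∧ χ d = bz true} := Equiv.subtypeEquiv P.idx fun k => by
    show _ ↔ IsConj t (P.emb k) ∧ bz (phiT q (P.idx.symm (P.idx k))) = bz true
    rw [P.conj_emb_iff k.2, bz_eq_true, P.idx.symm_apply_apply, Bool.and_eq_true]
  rw [← Nat.card_congr eq, Nat.card_eq_fintype_card, Fintype.card_subtype,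
    ← List.toFinset_card_of_nodup (List.Nodup.filter _ (List.nodup_finRange 32))]
  congr 1
  ext x
  simp

/-- an elementary subgroup of order `16` through a conjugate of `t` is conjugate to a frame -/
theorem exists_frame {E : Subgroup G} (hE : Nat.card E = 16) (hcomm : ∀ x ∈ E, ∀ y ∈ E, Commute x y)
    (hsq : ∀ x ∈ E, x * x = 1) {d : G} (hd : d ∈ E) (hdt : IsConj t d) :
    ∃ g : G, g * d * g⁻¹ = t ∧
      ((∀ y, g * y * g⁻¹ ∈ P.F.A ↔ y ∈ E) ∨ (∀ y, g * y * g⁻¹ ∈ P.F'.A ↔ y ∈ E)) := by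
  obtain ⟨h, hh⟩ := isConj_iff.1 hdt.symm
  let K : Subgroup G := E.map (MulAut.conj h).toMonoidHom
  have hK : IsPGroup 2 K := (IsPGroup.of_card (n := 4) (by rw [hE]; norm_num) : IsPGroup 2 E).map _
  have hKC : K ≤ centralizer ({t} : Set G) ⊓ ⊤ := by
    rintro _ ⟨x, hx, rfl⟩
    refine mem_inf.2 ⟨?_, mem_top _⟩
    rw [mem_centralizer_singleton_iff, ← hh]
    simp only [MulEquiv.coe_toMonoidHom, MulAut.conj_apply]
    calc h * x * h⁻¹ * (h * d * h⁻¹) = h * (x * d) * h⁻¹ := by group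
      _ = h * d * h⁻¹ * (h * x * h⁻¹) := by rw [(hcomm x hx d hd).eq]; group
  obtain ⟨c, ⟨hcC, -⟩, hc⟩ := P.exists_conj_le le_top hK hKC
  set g := c⁻¹ * h with hgdef
  have hgd : g * d * g⁻¹ = t := by
    rw [hgdef]
    calc c⁻¹ * h * d * (c⁻¹ * h)⁻¹ = c⁻¹ * (h * d * h⁻¹) * c := by group
      _ = c⁻¹ * (t * c) := by rw [hh]; group
      _ = t := by rw [← mem_centralizer_singleton_iff.1 hcC]; group
  have hin : ∀ y ∈ E, g * y * g⁻¹ ∈ P.F.A ∨ g * y * g⁻¹ ∈ P.F'.A := by
    intro y hy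
    have hyT := hc (h * y * h⁻¹) ⟨y, hy, by simp [MulAut.conj_apply]⟩
    rw [show c⁻¹ * (h * y * h⁻¹) * c = g * y * g⁻¹ by rw [hgdef]; group] at hyT
    obtain ⟨k, hk, e⟩ := hyT
    have hkk : tmul k k = 0 := P.emb_inj tmul_lt (by norm_num) (by
      rw [P.emb_mul, e, P.emb_zero]
      calc g * y * g⁻¹ * (g * y * g⁻¹) = g * (y * y) * g⁻¹ := by group
        _ = 1 := by rw [hsq y hy]; group)
    rcases Nat.lt_or_ge k 16 with hk' | hk'
    · exact Or.inl ⟨k, hk', (P.emb_lt hk').symm.trans e⟩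
    · obtain ⟨w, hw, e'⟩ := (show ∀ k < 32, 16 ≤ k → tmul k k = 0 → ∃ y < 16, tr y = k by decide +kernel)
        k hk hk' hkk
      exact Or.inr ⟨w, hw, by rw [P.el'_eq hw, e', e]⟩
  have full : ∀ F : Frame t, (∀ y ∈ E, g * y * g⁻¹ ∈ F.A) → ∀ y, g * y * g⁻¹ ∈ F.A ↔ y ∈ E := by
    intro F hF y
    let f : E → F.A := fun x => ⟨g * x.1 * g⁻¹, hF _ x.2⟩
    have hf : Function.Bijective f := by
      rw [Nat.bijective_iff_injective_and_card]
      refine ⟨fun a b e => ?_, by rw [hE, F.card_A]⟩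
      have e' : g * a.1 * g⁻¹ = g * b.1 * g⁻¹ := congrArg Subtype.val e
      exact Subtype.ext (mul_left_cancel (mul_right_cancel e'))
    refine ⟨fun hy => ?_, hF y⟩
    obtain ⟨a, ha⟩ := hf.2 ⟨_, hy⟩
    have e' : g * a.1 * g⁻¹ = g * y * g⁻¹ := congrArg Subtype.val ha
    exact (mul_left_cancel (mul_right_cancel e')) ▸ a.2
  refine ⟨g, hgd, ?_⟩
  by_cases hA : ∀ y ∈ E, g * y * g⁻¹ ∈ P.F.A
  · exact Or.inl (full _ hA)
  right
  refine full _ fun y hy => ?_
  by_contra hy'
  push Not at hA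
  obtain ⟨x, hx, hx'⟩ := hA
  have hyA := (hin y hy).resolve_right hy'
  have hxA := (hin x hx).resolve_left hx'
  have e : g * (x * y) * g⁻¹ = g * x * g⁻¹ * (g * y * g⁻¹) := by group
  rcases hin _ (mul_mem hx hy) with h1 | h1 <;> rw [e] at h1
  · exact hx' ((mul_mem_cancel_right hyA).1 h1)
  · exact hy' ((mul_mem_cancel_left hxA).1 h1)

end Pair

end Cfsg.Lib.TwoTimesSym
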