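import Cfsg.Agent.TwoTimesSym.Reach

/-!
Counting conjugates of `t` in the normaliser of a frame through the cosets of the frame.
-/

set_option autoImplicit false
set_option linter.unusedSectionVars false
set_option linter.style.haveILetI false

namespace Cfsg.Lib.TwoTimesSym

open Subgroup

variable {G : Type*} [Group G]

/-- the fixed vectors of a code -/
def fixL (f : ℕ) : List ℕ := (List.range 16).filter fun x => ev f x == x

namespace Pair

variable {t : G} (P : Pair t) [Finite G]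

/-- conjugates of `t` in a coset of the frame -/
noncomputable def nC (f : ℕ) : ℕ := Nat.card {d : G // d ∈ P.F.N ∧ P.F.code d = f ∧ IsConj t d}

/-- a closed set of realised codes -/
structure Codes where
  /-- the codes -/
  l : List ℕ
  nodup : l.Nodup
  closed : closedB l = true
  id_mem : cId ∈ l
  real : ∀ f ∈ l, P.F.Real f

variable {P}

/-- the preimage of a set of codes -/
def Codes.pre (Q : P.Codes) : Subgroup G where
  carrier := {g | g ∈ P.F.N ∧ P.F.code g ∈ Q.l}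
  one_mem' := ⟨one_mem _, by rw [P.F.code_of_mem_A (one_mem _)]; exact Q.id_mem⟩
  mul_mem' := by
    rintro a b ⟨ha, ha'⟩ ⟨hb, hb'⟩
    refine ⟨mul_mem ha hb, ?_⟩
    rw [P.F.code_mul ha hb]
    exact mem_of_closed Q.closed ha' hb'
  inv_mem' := by
    rintro a ⟨ha, ha'⟩
    refine ⟨inv_mem ha, ?_⟩
    have key : ∀ n : ℕ, P.F.code (a ^ n) ∈ Q.l := by
      intro n
      induction n with
      | zero => rw [pow_zero, P.F.code_of_mem_A (one_mem _)]; exact Q.id_mem
      | succ n ih =>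
        rw [pow_succ, P.F.code_mul (pow_mem ha n) ha]
        exact mem_of_closed Q.closed ih ha'
    have e : a ^ (orderOf a - 1) = a⁻¹ := by
      rw [eq_inv_iff_mul_eq_one, ← pow_succ, Nat.sub_add_cancel (orderOf_pos a), pow_orderOf_eq_one]
    rw [← e]; exact key _

theorem Codes.card_pre (Q : P.Codes) : Nat.card Q.pre = 16 * Q.l.length := by
  classical
  let φ : Q.pre → {f // f ∈ Q.l} := fun g => ⟨_, g.2.2⟩
  have hfib : ∀ f : {f // f ∈ Q.l}, Nonempty ({g : Q.pre // φ g = f} ≃ P.F.A) := by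
    intro f
    obtain ⟨h, hh, e⟩ := Q.real _ f.2
    refine ⟨{
      toFun := fun g => ⟨h⁻¹ * (g.1 : G), (P.F.code_eq_iff hh g.1.2.1).1
        (e.trans (congrArg Subtype.val g.2).symm)⟩
      invFun := fun a => ⟨⟨h * (a : G), mul_mem hh (P.F.A_le_N a.2), ?_⟩, ?_⟩
      left_inv := fun g => by apply Subtype.ext; apply Subtype.ext; simp
      right_inv := fun a => by apply Subtype.ext; simp }⟩
    · rw [P.F.code_mul hh (P.F.A_le_N a.2), P.F.code_of_mem_A a.2, ← P.F.code_of_mem_A (one_mem _),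
        ← P.F.code_mul hh (one_mem _), mul_one, e]
      exact f.2
    · refine Subtype.ext ?_
      show P.F.code (h * (a : G)) = f.1
      rw [P.F.code_mul hh (P.F.A_le_N a.2), P.F.code_of_mem_A a.2, ← P.F.code_of_mem_A (one_mem _),
        ← P.F.code_mul hh (one_mem _), mul_one, e]
  rw [← Nat.card_congr (Equiv.sigmaFiberEquiv φ),
    Nat.card_congr ((Equiv.sigmaCongrRight fun f => (hfib f).some).trans (Equiv.sigmaEquivProd _ _)),
    Nat.card_prod, P.F.card_A, Nat.card_eq_fintype_card, mul_comm]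
  congr 1
  rw [Fintype.card_of_subtype Q.l.toFinset (fun x => List.mem_toFinset), List.toFinset_card_of_nodup Q.nodup]

theorem Codes.count (Q : P.Codes) (p : ℕ → Bool) :
    Nat.card {d : Q.pre // IsConj t (d : G) ∧ p (P.F.code (d : G)) = true} =
      ((Q.l.filter p).map P.nC).sum := by
  classical
  let φ : {d : Q.pre // IsConj t (d : G) ∧ p (P.F.code (d : G)) = true} → {f // f ∈ Q.l.filter p} :=
    fun d => ⟨P.F.code (d.1 : G), List.mem_filter.2 ⟨d.1.2.2, d.2.2⟩⟩
  rw [← Nat.card_congr (Equiv.sigmaFiberEquiv φ), Nat.card_sigma,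
    ← List.sum_toFinset P.nC (Q.nodup.filter _)]
  rw [Finset.sum_subtype (p := fun f => f ∈ Q.l.filter p) (Q.l.filter p).toFinset
    (fun x => List.mem_toFinset) P.nC]
  refine Finset.sum_congr rfl fun f _ => Nat.card_congr
    { toFun := fun d => ⟨((d.1.1 : Q.pre) : G), d.1.1.2.1, congrArg Subtype.val d.2, d.1.2.1⟩
      invFun := fun d => ⟨⟨⟨d.1, d.2.1, ?_⟩, d.2.2.2, ?_⟩, Subtype.ext d.2.2.1⟩
      left_inv := fun d => by rfl
      right_inv := fun d => by rfl }
  · rw [d.2.2.1]; exact (List.mem_filter.1 f.2).1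
  · show p (P.F.code d.1) = true
    rw [d.2.2.1]; exact (List.mem_filter.1 f.2).2

/-- transfer into a group of codes -/
theorem Codes.index_two_of_transfer (Q : P.Codes) {q : ℕ} (hq : Q.l.length = 2 * q) (χ : ℕ → Bool)
    (hχ : (Q.l.all fun a => Q.l.all fun b => χ (comp a b) == xor (χ a) (χ b)) = true)
    (hk : ∃ r, ((Q.l.filter χ).map P.nC).sum = q * r ∧ Odd r) :
    ∃ H : Subgroup G, H.index = 2 := by
  obtain ⟨c, hc, hC⟩ := P.hcard
  have hmul : ∀ a b : Q.pre, χ (P.F.code (a * b : G)) = xor (χ (P.F.code a)) (χ (P.F.code b)) := by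
    intro a b
    rw [P.F.code_mul a.2.1 b.2.1]
    have h := List.all_eq_true.1 (List.all_eq_true.1 hχ _ a.2.2) _ b.2.2
    exact beq_iff_eq.1 h
  let χ' : ↥Q.pre →* Multiplicative (ZMod 2) :=
    MonoidHom.mk' (fun g => Multiplicative.ofAdd (if χ (P.F.code (g : G)) then 1 else 0)) (fun a b => by
      rw [Subgroup.coe_mul, hmul]
      cases χ (P.F.code (a : G)) <;> cases χ (P.F.code (b : G)) <;> decide)
  refine exists_index_two_of_values P.ht2 Q.pre χ' (a := Multiplicative.ofAdd 1) (by decide) hC hc (q := q)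
    (by rw [Q.card_pre, hq]; ring) fun η hη => ?_
  obtain rfl := (show ∀ η : Multiplicative (ZMod 2), η ≠ 1 → η = Multiplicative.ofAdd 1 by decide) η hη
  obtain ⟨r, hr, hr'⟩ := hk
  refine ⟨r, ?_, iff_of_true hr' rfl⟩
  rw [← hr, ← Q.count χ, conjVal]
  refine Nat.card_congr (Equiv.subtypeEquivRight fun d => and_congr_right' ?_)
  show Multiplicative.ofAdd (if χ (P.F.code (d : G)) then (1 : ZMod 2) else 0) = Multiplicative.ofAdd 1 ↔ _
  cases χ (P.F.code (d : G)) <;> decide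

/-- the fixed cosets of the preimage -/
theorem Codes.fix_eq (Q : P.Codes) :
    ∃ c, Odd c ∧ fixCount t Q.pre * Q.l.length = 2 * c * (Q.l.map P.nC).sum := by
  obtain ⟨c, hc, hC⟩ := P.hcard
  refine ⟨c, hc, ?_⟩
  have h := fixCount_mul t Q.pre
  rw [Q.card_pre, hC] at h
  have e : conjCount t Q.pre = (Q.l.map P.nC).sum := by
    have h1 := Q.count (fun _ => true)
    simp only [List.filter_true, and_true] at h1
    exact h1
  rw [e] at h
  linarith

variable (P)

theorem nC_conj {a f f' : ℕ} (ha : P.F.Real a) (hf : P.F.Real f) (hf' : P.F.Real f')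
    (h : comp a f = comp f' a) : P.nC f' = P.nC f := by
  obtain ⟨g, hg, rfl⟩ := ha
  obtain ⟨h0, hh0, rfl⟩ := hf
  obtain ⟨h1, hh1, rfl⟩ := hf'
  rw [← P.F.code_mul hg hh0, ← P.F.code_mul hh1 hg, P.F.code_eq_iff (mul_mem hg hh0) (mul_mem hh1 hg)] at h
  have hA : ∀ {d : G}, d ∈ P.F.N → (P.F.code d = P.F.code h0 ↔ P.F.code (g * d * g⁻¹) = P.F.code h1) := by
    intro d hd
    rw [P.F.code_eq_iff hd hh0, P.F.code_eq_iff (mul_mem (mul_mem hg hd) (inv_mem hg)) hh1]
    have e : (g * d * g⁻¹)⁻¹ * h1 = g * (d⁻¹ * h0) * ((g * h0)⁻¹ * (h1 * g)) * g⁻¹ := by group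
    rw [e]
    constructor
    · intro hd'
      rw [show g * (d⁻¹ * h0) * ((g * h0)⁻¹ * (h1 * g)) * g⁻¹ =
        g * (d⁻¹ * h0 * ((g * h0)⁻¹ * (h1 * g))) * g⁻¹ by group]
      exact (P.mem_N_iff.1 hg _).2 (mul_mem hd' h)
    · intro hd'
      rw [show g * (d⁻¹ * h0) * ((g * h0)⁻¹ * (h1 * g)) * g⁻¹ =
        g * (d⁻¹ * h0 * ((g * h0)⁻¹ * (h1 * g))) * g⁻¹ by group] at hd'
      exact (mul_mem_cancel_right h).1 ((P.mem_N_iff.1 hg _).1 hd')
  refine Nat.card_congr
    { toFun := fun d => ⟨g⁻¹ * d.1 * g, mul_mem (mul_mem (inv_mem hg) d.2.1) hg, ?_, ?_⟩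
      invFun := fun d => ⟨g * d.1 * g⁻¹, mul_mem (mul_mem hg d.2.1) (inv_mem hg), ?_, ?_⟩
      left_inv := fun d => by apply Subtype.ext; simp [mul_assoc]
      right_inv := fun d => by apply Subtype.ext; simp [mul_assoc] }
  · rw [hA (mul_mem (mul_mem (inv_mem hg) d.2.1) hg),
      show g * (g⁻¹ * d.1 * g) * g⁻¹ = d.1 by group]
    exact d.2.2.1
  · exact d.2.2.2.trans (isConj_iff.2 ⟨g⁻¹, by simp⟩)
  · exact (hA d.2.1).1 d.2.2.1
  · exact d.2.2.2.trans (isConj_iff.2 ⟨g, rfl⟩)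

/-- a coset whose code is not an involution has no conjugate of `t` -/
theorem nC_zero {f : ℕ} (h : comp f f ≠ cId) : P.nC f = 0 := by
  haveI : IsEmpty {d : G // d ∈ P.F.N ∧ P.F.code d = f ∧ IsConj t d} := ⟨fun ⟨d, hd, e, hc⟩ => h (by
    obtain ⟨c, hc⟩ := isConj_iff.1 hc
    have hdd : d * d = 1 := by
      rw [← hc]
      calc c * t * c⁻¹ * (c * t * c⁻¹) = c * (t * t) * c⁻¹ := by group
        _ = 1 := by rw [P.ht2]; group
    rw [← e, ← P.F.code_mul hd hd, hdd, P.F.code_of_mem_A (one_mem _)])⟩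
  exact Nat.card_of_isEmpty

/-- the conjugates of `t` in the frame -/
theorem nC_id : P.nC cId = ((List.range 16).filter (mask P.DL)).length := by
  classical
  rw [← List.toFinset_card_of_nodup (List.nodup_range.filter _), ← Nat.card_eq_finsetCard, nC]
  let S : Finset ℕ := ((List.range 16).filter (mask P.DL)).toFinset
  have hS : ∀ x : {x // x ∈ S}, x.1 < 16 ∧ mask P.DL x.1 = true := fun x =>
    ⟨List.mem_range.1 (List.mem_filter.1 (List.mem_toFinset.1 x.2)).1,
      (List.mem_filter.1 (List.mem_toFinset.1 x.2)).2⟩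
  let φ : {x // x ∈ S} → {d : G // d ∈ P.F.N ∧ P.F.code d = cId ∧ IsConj t d} := fun x =>
    ⟨P.F.el x.1, P.F.A_le_N (P.F.el_mem (hS x).1), P.F.code_of_mem_A (P.F.el_mem (hS x).1),
      (P.conj_el_iff (hS x).1).2 (hS x).2⟩
  refine (Nat.card_congr (Equiv.ofBijective φ ⟨fun a b e =>
    Subtype.ext (P.F.el_inj _ (hS a).1 _ (hS b).1 (congrArg Subtype.val e)), fun d => ?_⟩)).symm
  · obtain ⟨d, hd, e, hc⟩ := d
    obtain ⟨x, hx, rfl⟩ := (P.F.code_eq_id_iff hd).1 e
    exact ⟨⟨x, List.mem_toFinset.2 (List.mem_filter.2 ⟨List.mem_range.2 hx, (P.conj_el_iff hx).1 hc⟩)⟩, rfl⟩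

/-- the conjugates of `t` in the coset of `p` -/
theorem nC_pi : P.nC cPi = ((List.range 16).filter fun x => maskT P.DL (16 + x)).length := by
  classical
  rw [← List.toFinset_card_of_nodup (List.nodup_range.filter _), ← Nat.card_eq_finsetCard, nC]
  have hcode : ∀ x < 16, P.emb (16 + x) ∈ P.F.N ∧ P.F.code (P.emb (16 + x)) = cPi := by
    intro x hx
    have e : P.emb (16 + x) = P.F.p * P.F.el x := by
      rw [← pow_one P.F.p, ← P.emb_split (i := 1) (by norm_num) hx]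
    have hA := P.F.el_mem hx
    rw [e]
    refine ⟨mul_mem P.F.p_mem.1 (P.F.A_le_N hA), ?_⟩
    rw [P.F.code_mul P.F.p_mem.1 (P.F.A_le_N hA), P.F.code_of_mem_A hA, P.F.p_mem.2]
    decide +kernel
  let S : Finset ℕ := ((List.range 16).filter fun x => maskT P.DL (16 + x)).toFinset
  have hS : ∀ x : {x // x ∈ S}, x.1 < 16 ∧ maskT P.DL (16 + x.1) = true := fun x =>
    ⟨List.mem_range.1 (List.mem_filter.1 (List.mem_toFinset.1 x.2)).1,
      (List.mem_filter.1 (List.mem_toFinset.1 x.2)).2⟩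
  let φ : {x // x ∈ S} → {d : G // d ∈ P.F.N ∧ P.F.code d = cPi ∧ IsConj t d} := fun x =>
    ⟨P.emb (16 + x.1), (hcode _ (hS x).1).1, (hcode _ (hS x).1).2,
      (P.conj_emb_iff (by have := (hS x).1; omega)).2 (hS x).2⟩
  refine (Nat.card_congr (Equiv.ofBijective φ ⟨fun a b e => Subtype.ext (by
    have h1 := (hS a).1
    have h2 := (hS b).1
    have := P.emb_inj (show 16 + a.1 < 32 by omega) (show 16 + b.1 < 32 by omega) (congrArg Subtype.val e)
    omega), fun d => ?_⟩)).symm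
  · obtain ⟨d, hd, e, hc⟩ := d
    obtain ⟨x, hx, hxe⟩ := (P.F.code_eq_iff P.F.p_mem.1 hd).1 (P.F.p_mem.2.trans e.symm)
    have e' : P.emb (16 + x) = d := by
      rw [show (16 + x) = 16 * 1 + x by omega, P.emb_split (by norm_num) hx, pow_one, hxe]; group
    refine ⟨⟨x, List.mem_toFinset.2 (List.mem_filter.2 ⟨List.mem_range.2 hx,
      (P.conj_emb_iff (by omega)).1 (by rw [e']; exact hc)⟩)⟩, Subtype.ext e'⟩

/-- the conjugates of `t` in a coset are translates of fixed vectors -/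
theorem nC_cases (f : ℕ) : P.nC f = 0 ∨ ∃ d : G, ∃ W : Finset ℕ, d ∈ P.F.N ∧ P.F.code d = f ∧ IsConj t d ∧
    0 ∈ W ∧ P.nC f = W.card ∧
    (∀ x ∈ W, x < 16 ∧ ev f x = x ∧ IsConj t (d * P.F.el x)) ∧
    (∀ x < 16, ev f x = x → IsConj t (d * P.F.el x) → x ∈ W) ∧
    (∀ x ∈ W, ∀ y < 16, x ^^^ (ev f y ^^^ y) ∈ W) := by
  classical
  by_cases hne : Nonempty {d : G // d ∈ P.F.N ∧ P.F.code d = f ∧ IsConj t d}
  swap
  · rw [not_nonempty_iff] at hne
    exact Or.inl Nat.card_of_isEmpty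
  obtain ⟨⟨d, hd, hdf, hdt⟩⟩ := hne
  right
  set W := (Finset.range 16).filter fun x => ev f x = x ∧ IsConj t (d * P.F.el x) with hW
  have hfix : ∀ x < 16, IsConj t (d * P.F.el x) → ev f x = x := by
    intro x hx hc
    have hsq : ∀ e : G, IsConj t e → e * e = 1 := by
      intro e he
      obtain ⟨c, hc⟩ := isConj_iff.1 he
      rw [← hc]
      calc c * t * c⁻¹ * (c * t * c⁻¹) = c * (t * t) * c⁻¹ := by group
        _ = 1 := by rw [P.ht2]; group
    have h1 := hsq d hdt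
    have h2 := hsq _ hc
    have e := P.F.conj_el hd hx
    rw [hdf, inv_eq_of_mul_eq_one_right h1] at e
    have e2 : P.F.el (ev f x) * P.F.el x = 1 := by rw [← e, ← h2]; group
    exact P.F.el_inj _ (Frame.ev_lt _ _) _ hx ((eq_inv_of_mul_eq_one_left e2).trans (P.F.el_inv hx))
  have hWm : ∀ x, x ∈ W ↔ x < 16 ∧ ev f x = x ∧ IsConj t (d * P.F.el x) := by simp [hW]
  refine ⟨d, W, hd, hdf, hdt, (hWm 0).2 ⟨by norm_num, by simp [ev], by rw [P.F.el_zero, mul_one]; exact hdt⟩,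
    ?_, fun x hx => (hWm x).1 hx, fun x h1 h2 h3 => (hWm x).2 ⟨h1, h2, h3⟩, fun x hx y hy => ?_⟩
  · rw [← Nat.card_eq_finsetCard, nC]
    have hA : ∀ {x}, x < 16 → d * P.F.el x ∈ P.F.N ∧ P.F.code (d * P.F.el x) = f := by
      intro x hx
      refine ⟨mul_mem hd (P.F.A_le_N (P.F.el_mem hx)), ?_⟩
      rw [← hdf]
      refine ((P.F.code_eq_iff hd (mul_mem hd (P.F.A_le_N (P.F.el_mem hx)))).2 ?_).symm
      rw [inv_mul_cancel_left]; exact P.F.el_mem hx
    let φ : {x // x ∈ W} → {e : G // e ∈ P.F.N ∧ P.F.code e = f ∧ IsConj t e} := fun x =>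
      ⟨d * P.F.el x.1, (hA ((hWm _).1 x.2).1).1, (hA ((hWm _).1 x.2).1).2, ((hWm _).1 x.2).2.2⟩
    refine (Nat.card_congr (Equiv.ofBijective φ ⟨fun a b e => Subtype.ext
      (P.F.el_inj _ ((hWm _).1 a.2).1 _ ((hWm _).1 b.2).1 (mul_left_cancel (congrArg Subtype.val e))),
      fun e => ?_⟩)).symm
    · obtain ⟨e, he, hef, het⟩ := e
      obtain ⟨x, hx, hxe⟩ := (P.F.code_eq_iff hd he).1 (hdf.trans hef.symm)
      have e' : d * P.F.el x = e := by rw [hxe]; group
      exact ⟨⟨x, (hWm x).2 ⟨hx, hfix x hx (e' ▸ het), e' ▸ het⟩⟩, Subtype.ext e'⟩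
  · obtain ⟨hx', -, hc⟩ := (hWm x).1 hx
    have hlt : x ^^^ (ev f y ^^^ y) < 16 := Frame.xor_lt hx' (Frame.xor_lt (Frame.ev_lt _ _) hy)
    have e : d * P.F.el (x ^^^ (ev f y ^^^ y)) = P.F.el y * (d * P.F.el x) * (P.F.el y)⁻¹ := by
      have h1 := P.F.conj_el (inv_mem hd) hy
      have hsq : d * d = 1 := by
        obtain ⟨c, hc⟩ := isConj_iff.1 hdt
        rw [← hc]
        calc c * t * c⁻¹ * (c * t * c⁻¹) = c * (t * t) * c⁻¹ := by group
          _ = 1 := by rw [P.ht2]; group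
      rw [inv_eq_of_mul_eq_one_right hsq, hdf] at h1
      have h2 : P.F.el y * d = d * P.F.el (ev f y) := by
        rw [← h1]
        calc P.F.el y * d = d * d * (P.F.el y * d) := by rw [hsq, one_mul]
          _ = d * (d * P.F.el y * d) := by group
          _ = d * (d * P.F.el y * d⁻¹) := by rw [inv_eq_of_mul_eq_one_right hsq]
      rw [P.F.el_inv hy, P.F.el_xor _ hx' _ (Frame.xor_lt (Frame.ev_lt _ _) hy),
        P.F.el_xor _ (Frame.ev_lt _ _) _ hy]
      calc d * (P.F.el x * (P.F.el (ev f y) * P.F.el y))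
          = d * (P.F.el x * P.F.el (ev f y)) * P.F.el y := by group
        _ = d * P.F.el (ev f y) * P.F.el x * P.F.el y := by rw [(P.F.el_comm hx' (Frame.ev_lt _ _)).eq]; group
        _ = P.F.el y * (d * P.F.el x) * P.F.el y := by rw [← h2]; group
    have hc' : IsConj t (d * P.F.el (x ^^^ (ev f y ^^^ y))) := by
      rw [e]; exact hc.trans (isConj_iff.2 ⟨_, rfl⟩)
    exact (hWm _).2 ⟨hlt, hfix _ hlt hc', hc'⟩

/-- fixed vectors -/
theorem nC_le (f : ℕ) : P.nC f ≤ (fixL f).length := by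
  rcases P.nC_cases f with h | ⟨d, W, -, -, -, -, h, hW, -, -⟩
  · omega
  · rw [h, fixL, ← List.toFinset_card_of_nodup (List.nodup_range.filter _)]
    refine Finset.card_le_card fun x hx => ?_
    obtain ⟨h1, h2, -⟩ := hW x hx
    exact List.mem_toFinset.2 (List.mem_filter.2 ⟨List.mem_range.2 h1, beq_iff_eq.2 h2⟩)

/-- a coset moved by the frame has evenly many conjugates -/
theorem nC_even {f : ℕ} (hf : ∃ y < 16, ev f y ≠ y) : Even (P.nC f) := by
  classical
  rcases P.nC_cases f with h | ⟨d, W, -, -, -, -, h, hW, -, hinv⟩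
  · rw [h]; exact ⟨0, rfl⟩
  rw [h]
  obtain ⟨y, hy, hne⟩ := hf
  set v := ev f y ^^^ y
  have hv : v ≠ 0 := fun e => hne (Nat.xor_eq_zero_iff.1 e)
  refine ⟨(W.filter fun x => x < x ^^^ v).card, ?_⟩
  conv_lhs => rw [← Finset.card_filter_add_card_filter_not (s := W) (fun x => x < x ^^^ v)]
  congr 1
  refine Finset.card_bij (fun x _ => x ^^^ v) (fun x hx => ?_) (fun a _ b _ e => Nat.xor_left_injective e)
    (fun x hx => ?_)
  · rw [Finset.mem_filter] at hx ⊢
    refine ⟨hinv x hx.1 y hy, ?_⟩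
    rw [Nat.xor_assoc, Nat.xor_self, Nat.xor_zero]
    have : x ^^^ v ≠ x := fun e => hv (by
      have e' := congrArg (x ^^^ ·) e; simpa [← Nat.xor_assoc] using e')
    omega
  · rw [Finset.mem_filter] at hx
    refine ⟨x ^^^ v, Finset.mem_filter.2 ⟨hinv x hx.1 y hy, ?_⟩, by
      rw [Nat.xor_assoc, Nat.xor_self, Nat.xor_zero]⟩
    rw [Nat.xor_assoc, Nat.xor_self, Nat.xor_zero]
    omega

/-- a coset in which all fixed vectors are commutators holds all or none -/
theorem nC_full {f : ℕ} (hf : ∀ x < 16, ev f x = x → ∃ y < 16, ev f y ^^^ y = x) :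
    P.nC f = 0 ∨ (P.nC f = (fixL f).length ∧
      ∀ e ∈ P.F.N, P.F.code e = f → e * e = 1 → IsConj t e) := by
  rcases P.nC_cases f with h | ⟨d, W, hd, hdf, hdt, h0, h, hW, hW', hinv⟩
  · exact Or.inl h
  right
  have all : ∀ x < 16, ev f x = x → x ∈ W := by
    intro x hx hfx
    obtain ⟨y, hy, e⟩ := hf x hx hfx
    have := hinv 0 h0 y hy
    rwa [Nat.zero_xor, e] at this
  constructor
  · rw [h, fixL, ← List.toFinset_card_of_nodup (List.nodup_range.filter _)]
    congr 1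
    ext x
    simp only [List.mem_toFinset, List.mem_filter, List.mem_range, beq_iff_eq]
    exact ⟨fun hx => ⟨(hW x hx).1, (hW x hx).2.1⟩, fun hx => all x hx.1 hx.2⟩
  · intro e he hef hee
    obtain ⟨x, hx, hxe⟩ := (P.F.code_eq_iff hd he).1 (hdf.trans hef.symm)
    have e' : d * P.F.el x = e := by rw [hxe]; group
    have hdd : d * d = 1 := by
      obtain ⟨c, hc⟩ := isConj_iff.1 hdt
      rw [← hc]
      calc c * t * c⁻¹ * (c * t * c⁻¹) = c * (t * t) * c⁻¹ := by group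
        _ = 1 := by rw [P.ht2]; group
    have hfx : ev f x = x := by
      have h1 := P.F.conj_el hd hx
      rw [hdf, inv_eq_of_mul_eq_one_right hdd] at h1
      rw [← e'] at hee
      have e2 : P.F.el (ev f x) * P.F.el x = 1 := by rw [← h1, ← hee]; group
      exact P.F.el_inj _ (Frame.ev_lt _ _) _ hx ((eq_inv_of_mul_eq_one_left e2).trans (P.F.el_inv hx))
    rw [← e']
    exact (hW x (all x hx hfx)).2.2

end Pair

end Cfsg.Lib.TwoTimesSym
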