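import Mathlib
import Cfsg.Agent.TwoTimesSym.Code

/-!
A frame: an elementary abelian, self-centralising subgroup of order `16` through the involution `t`,
coordinatised so that its stabiliser in the centralizer of `t` permutes three coordinates.
-/

set_option autoImplicit false
set_option linter.unusedSectionVars false

namespace Cfsg.Lib.TwoTimesSym

open Subgroup

variable {G : Type*} [Group G]

/-- the data of a frame -/
structure Frame (t : G) where
  /-- the parametrisation -/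
  el : ℕ → G
  /-- exchanges two coordinates -/
  p : G
  /-- permutes the coordinates cyclically -/
  r : G
  el_xor : ∀ x < 16, ∀ y < 16, el (x ^^^ y) = el x * el y
  el_inj : ∀ x < 16, ∀ y < 16, el x = el y → x = y
  el_one : el 1 = t
  cent : ∀ g, (∀ x < 16, Commute g (el x)) → ∃ x < 16, el x = g
  stab : ∀ g, Commute g t → (∀ x < 16, ∃ y < 16, g * el x * g⁻¹ = el y) →
    ∃ s ∈ cS3, ∀ x < 16, g * el x * g⁻¹ = el (ev s x)
  p_sq : p * p = 1
  p_el : ∀ x < 16, p * el x * p⁻¹ = el (ev cPi x)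
  r_el : ∀ x < 16, r * el x * r⁻¹ = el (ev cRho x)

namespace Frame

variable {t : G} (F : Frame t)

theorem xor_lt {x y : ℕ} (hx : x < 16) (hy : y < 16) : x ^^^ y < 16 := Nat.xor_lt_two_pow (n := 4) hx hy

theorem ev_lt (a x : ℕ) : ev a x < 16 := by
  have h : ∀ m k : ℕ, m < 16 → m * (k % 2) < 16 := by
    intro m k hm
    rcases Nat.mod_two_eq_zero_or_one k with e | e <;> rw [e] <;> omega
  unfold ev
  exact xor_lt (xor_lt (xor_lt (h _ _ (Nat.mod_lt _ (by norm_num))) (h _ _ (Nat.mod_lt _ (by norm_num))))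
    (h _ _ (Nat.mod_lt _ (by norm_num)))) (h _ _ (Nat.mod_lt _ (by norm_num)))

theorem el_zero : F.el 0 = 1 := by
  have h := F.el_xor 0 (by norm_num) 0 (by norm_num)
  simpa using h

theorem el_sq {x : ℕ} (hx : x < 16) : F.el x * F.el x = 1 := by
  rw [← F.el_xor x hx x hx, Nat.xor_self, F.el_zero]

theorem el_inv {x : ℕ} (hx : x < 16) : (F.el x)⁻¹ = F.el x := inv_eq_of_mul_eq_one_right (F.el_sq hx)

theorem el_comm {x y : ℕ} (hx : x < 16) (hy : y < 16) : Commute (F.el x) (F.el y) := by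
  show _ = _
  rw [← F.el_xor x hx y hy, ← F.el_xor y hy x hx, Nat.xor_comm]

/-- the subgroup -/
def A : Subgroup G where
  carrier := {g | ∃ x < 16, F.el x = g}
  one_mem' := ⟨0, by norm_num, F.el_zero⟩
  mul_mem' := by
    rintro _ _ ⟨x, hx, rfl⟩ ⟨y, hy, rfl⟩
    exact ⟨x ^^^ y, xor_lt hx hy, F.el_xor x hx y hy⟩
  inv_mem' := by
    rintro _ ⟨x, hx, rfl⟩
    exact ⟨x, hx, (F.el_inv hx).symm⟩

theorem mem_A {g : G} : g ∈ F.A ↔ ∃ x < 16, F.el x = g := Iff.rfl

theorem el_mem {x : ℕ} (hx : x < 16) : F.el x ∈ F.A := ⟨x, hx, rfl⟩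

theorem t_mem : t ∈ F.A := ⟨1, by norm_num, F.el_one⟩

theorem card_A : Nat.card F.A = 16 := by
  let e : Fin 16 → F.A := fun i => ⟨F.el i, F.el_mem i.2⟩
  rw [← Nat.card_eq_of_bijective e ⟨fun i j h => Fin.ext (F.el_inj _ i.2 _ j.2 (congrArg Subtype.val h)),
    fun g => by obtain ⟨x, hx, hg⟩ := g.2; exact ⟨⟨x, hx⟩, Subtype.ext hg⟩⟩, Nat.card_fin]

/-- the normaliser -/
def N : Subgroup G := normalizer (F.A : Set G)

theorem mem_N [Finite G] {g : G} : g ∈ F.N ↔ ∀ x < 16, ∃ y < 16, g * F.el x * g⁻¹ = F.el y := by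
  constructor
  · intro hg x hx
    obtain ⟨y, hy, h⟩ := (mem_normalizer_iff.1 hg _).1 (F.el_mem hx)
    exact ⟨y, hy, h.symm⟩
  · intro h
    rw [N, mem_normalizer_iff]
    let f : F.A → F.A := fun a => ⟨g * a.1 * g⁻¹, by
      obtain ⟨x, hx, hxa⟩ := a.2
      obtain ⟨y, hy, hxy⟩ := h x hx
      exact ⟨y, hy, by rw [← hxy, hxa]⟩⟩
    have hf : Function.Surjective f := Finite.surjective_of_injective fun a b e => by
      have e' : g * a.1 * g⁻¹ = g * b.1 * g⁻¹ := congrArg Subtype.val e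
      exact Subtype.ext (mul_left_cancel (mul_right_cancel e'))
    refine fun n => ⟨fun hn => (f ⟨n, hn⟩).2, fun hn => ?_⟩
    obtain ⟨a, ha⟩ := hf ⟨_, hn⟩
    have e : g * a.1 * g⁻¹ = g * n * g⁻¹ := congrArg Subtype.val ha
    simp only [mul_right_cancel_iff, mul_left_cancel_iff] at e
    exact e ▸ a.2

open scoped Classical in
/-- the action of an element on coordinates -/
noncomputable def act (g : G) (x : ℕ) : ℕ :=
  if h : ∃ y < 16, g * F.el x * g⁻¹ = F.el y then h.choose else 0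

/-- the code of the action -/
noncomputable def code (g : G) : ℕ := enc (F.act g)

theorem act_eq {g : G} {x y : ℕ} (hy : y < 16) (h : g * F.el x * g⁻¹ = F.el y) : F.act g x = y := by
  have he : ∃ y < 16, g * F.el x * g⁻¹ = F.el y := ⟨y, hy, h⟩
  rw [act, dif_pos he]
  exact F.el_inj _ he.choose_spec.1 _ hy (he.choose_spec.2.symm.trans h)

variable [Finite G]

theorem act_spec {g : G} (hg : g ∈ F.N) {x : ℕ} (hx : x < 16) :
    F.act g x < 16 ∧ g * F.el x * g⁻¹ = F.el (F.act g x) := by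
  have he := F.mem_N.1 hg x hx
  rw [act, dif_pos he]
  exact he.choose_spec

theorem act_xor {g : G} (hg : g ∈ F.N) {x y : ℕ} (hx : x < 16) (hy : y < 16) :
    F.act g (x ^^^ y) = F.act g x ^^^ F.act g y := by
  refine F.act_eq (xor_lt (F.act_spec hg hx).1 (F.act_spec hg hy).1) ?_
  rw [F.el_xor x hx y hy, F.el_xor _ (F.act_spec hg hx).1 _ (F.act_spec hg hy).1,
    ← (F.act_spec hg hx).2, ← (F.act_spec hg hy).2]
  group

theorem act_zero {g : G} (hg : g ∈ F.N) : F.act g 0 = 0 :=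
  F.act_eq (by norm_num) (by rw [F.el_zero]; group)

theorem ev_code {g : G} (hg : g ∈ F.N) {x : ℕ} (hx : x < 16) : ev (F.code g) x = F.act g x := by
  have h1 := (F.act_spec hg (show 1 < 16 by norm_num)).1
  have h2 := (F.act_spec hg (show 2 < 16 by norm_num)).1
  have h4 := (F.act_spec hg (show 4 < 16 by norm_num)).1
  have h8 := (F.act_spec hg (show 8 < 16 by norm_num)).1
  have hc : F.code g % 16 = F.act g 1 ∧ F.code g / 16 % 16 = F.act g 2 ∧
      F.code g / 256 % 16 = F.act g 4 ∧ F.code g / 4096 % 16 = F.act g 8 := by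
    simp only [code, enc]
    omega
  have hbit : ∀ k < 16, ∀ b, F.act g k * (b % 2) = F.act g (k * (b % 2)) := by
    intro k _ b
    rcases Nat.mod_two_eq_zero_or_one b with e | e <;> rw [e]
    · rw [mul_zero, mul_zero, F.act_zero hg]
    · rw [mul_one, mul_one]
  have hb : ∀ k < 16, ∀ b, k * (b % 2) < 16 := by
    intro k hk b
    rcases Nat.mod_two_eq_zero_or_one b with e | e <;> rw [e] <;> omega
  unfold ev
  rw [hc.1, hc.2.1, hc.2.2.1, hc.2.2.2, hbit 1 (by norm_num), hbit 2 (by norm_num), hbit 4 (by norm_num),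
    hbit 8 (by norm_num)]
  rw [← F.act_xor hg (hb 1 (by norm_num) _) (hb 2 (by norm_num) _),
    ← F.act_xor hg (xor_lt (hb 1 (by norm_num) _) (hb 2 (by norm_num) _)) (hb 4 (by norm_num) _),
    ← F.act_xor hg (xor_lt (xor_lt (hb 1 (by norm_num) _) (hb 2 (by norm_num) _)) (hb 4 (by norm_num) _))
      (hb 8 (by norm_num) _)]
  congr 1
  interval_cases x <;> rfl

/-- the conjugation formula in coordinates -/
theorem conj_el {g : G} (hg : g ∈ F.N) {x : ℕ} (hx : x < 16) :
    g * F.el x * g⁻¹ = F.el (ev (F.code g) x) := by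
  rw [F.ev_code hg hx]; exact (F.act_spec hg hx).2

theorem code_mul {g h : G} (hg : g ∈ F.N) (hh : h ∈ F.N) :
    F.code (g * h) = comp (F.code g) (F.code h) := by
  have key : ∀ x < 16, F.act (g * h) x = ev (F.code g) (ev (F.code h) x) := by
    intro x hx
    rw [F.ev_code hh hx, F.ev_code hg (F.act_spec hh hx).1]
    refine F.act_eq (F.act_spec hg (F.act_spec hh hx).1).1 ?_
    rw [← (F.act_spec hg (F.act_spec hh hx).1).2, ← (F.act_spec hh hx).2]
    group
  show enc _ = enc _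
  simp only [enc, key 1 (by norm_num), key 2 (by norm_num), key 4 (by norm_num), key 8 (by norm_num)]

theorem code_eq_of {g : G} {a : ℕ} (h : ∀ x < 16, g * F.el x * g⁻¹ = F.el (ev a x)) :
    g ∈ F.N ∧ F.code g = enc (ev a) := by
  have hg : g ∈ F.N := F.mem_N.2 fun x hx => ⟨_, ev_lt a x, h x hx⟩
  refine ⟨hg, ?_⟩
  have k : ∀ x < 16, F.act g x = ev a x := fun x hx => F.act_eq (ev_lt a x) (h x hx)
  simp only [code, enc, k 1 (by norm_num), k 2 (by norm_num), k 4 (by norm_num), k 8 (by norm_num)]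

theorem p_mem : F.p ∈ F.N ∧ F.code F.p = cPi := by
  obtain ⟨h1, h2⟩ := F.code_eq_of F.p_el
  exact ⟨h1, h2.trans (by decide +kernel)⟩

theorem r_mem : F.r ∈ F.N ∧ F.code F.r = cRho := by
  obtain ⟨h1, h2⟩ := F.code_eq_of F.r_el
  exact ⟨h1, h2.trans (by decide +kernel)⟩

theorem A_le_N : F.A ≤ F.N := le_normalizer

theorem code_of_mem_A {g : G} (hg : g ∈ F.A) : F.code g = cId := by
  obtain ⟨x, hx, rfl⟩ := hg
  refine (F.code_eq_of (a := cId) fun y hy => ?_).2.trans (by decide +kernel)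
  rw [(F.el_comm hx hy).eq, mul_assoc, mul_inv_cancel, mul_one,
    show ev cId y = y from (show ∀ y < 16, ev cId y = y by decide +kernel) y hy]

theorem code_eq_id_iff {g : G} (hg : g ∈ F.N) : F.code g = cId ↔ g ∈ F.A := by
  refine ⟨fun h => ?_, F.code_of_mem_A⟩
  refine F.cent g fun x hx => ?_
  have e := F.conj_el hg hx
  rw [h, show ev cId x = x from (show ∀ y < 16, ev cId y = y by decide +kernel) x hx] at e
  exact mul_inv_eq_iff_eq_mul.1 e

theorem code_eq_iff {g h : G} (hg : g ∈ F.N) (hh : h ∈ F.N) :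
    F.code g = F.code h ↔ g⁻¹ * h ∈ F.A := by
  have hi := inv_mem hg
  constructor
  · intro e
    rw [← F.code_eq_id_iff (mul_mem hi hh), F.code_mul hi hh, ← e, ← F.code_mul hi hg, inv_mul_cancel,
      F.code_of_mem_A (one_mem _)]
  · intro e
    obtain ⟨x, hx, hxe⟩ := e
    have key : ∀ y < 16, h * F.el y * h⁻¹ = g * F.el y * g⁻¹ := by
      intro y hy
      rw [show h = g * F.el x by rw [hxe]; group, mul_inv_rev]
      calc g * F.el x * F.el y * ((F.el x)⁻¹ * g⁻¹) = g * (F.el x * F.el y) * (F.el x)⁻¹ * g⁻¹ := by group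
        _ = g * F.el y * g⁻¹ := by rw [(F.el_comm hx hy).eq]; group
    have k : ∀ y < 16, F.act h y = F.act g y := fun y hy =>
      F.act_eq (F.act_spec hg hy).1 ((key y hy).trans (F.act_spec hg hy).2)
    simp only [code, enc, k 1 (by norm_num), k 2 (by norm_num), k 4 (by norm_num), k 8 (by norm_num)]

/-- an element fixing `t` permutes the coordinates -/
theorem stab_code {g : G} (hg : g ∈ F.N) (h : ev (F.code g) 1 = 1) : F.code g ∈ cS3 := by
  have hc : Commute g t := by
    have e := F.conj_el hg (show 1 < 16 by norm_num)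
    rw [h, F.el_one] at e
    exact mul_inv_eq_iff_eq_mul.1 e
  obtain ⟨s, hs, hs'⟩ := F.stab g hc (F.mem_N.1 hg)
  rw [(F.code_eq_of hs').2]
  exact (show ∀ s ∈ cS3, enc (ev s) ∈ cS3 by decide +kernel) s hs

/-- a code realised in the normaliser -/
def Real (a : ℕ) : Prop := ∃ g ∈ F.N, F.code g = a

theorem Real.comp {a b : ℕ} (ha : F.Real a) (hb : F.Real b) : F.Real (TwoTimesSym.comp a b) := by
  obtain ⟨g, hg, rfl⟩ := ha
  obtain ⟨h, hh, rfl⟩ := hb
  exact ⟨g * h, mul_mem hg hh, F.code_mul hg hh⟩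

theorem real_id : F.Real cId := ⟨1, one_mem _, F.code_of_mem_A (one_mem _)⟩
theorem real_pi : F.Real cPi := ⟨F.p, F.p_mem⟩
theorem real_rho : F.Real cRho := ⟨F.r, F.r_mem⟩

end Frame

/-- the list of products of generators of bounded length -/
def grow (gens : List ℕ) : ℕ → List ℕ
  | 0 => [cId]
  | k + 1 => ((grow gens k) ++ (grow gens k).flatMap fun a => gens.map fun g => comp g a).dedup

theorem Frame.real_grow [Finite G] {t : G} (F : Frame t) {gens : List ℕ} (h : ∀ a ∈ gens, F.Real a) :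
    ∀ k, ∀ a ∈ grow gens k, F.Real a
  | 0, a, ha => by
    rw [grow, List.mem_singleton] at ha
    exact ha ▸ F.real_id
  | k + 1, a, ha => by
    rw [grow, List.mem_dedup, List.mem_append, List.mem_flatMap] at ha
    rcases ha with ha | ⟨b, hb, ha⟩
    · exact F.real_grow h k a ha
    · obtain ⟨g, hg, rfl⟩ := List.mem_map.1 ha
      exact Frame.Real.comp F (h g hg) (F.real_grow h k b hb)

end Cfsg.Lib.TwoTimesSym
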