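import Cfsg.Agent.TwoTimesSym.Code

/-!
The possible groups of codes of the normaliser of a frame, and their Sylow `2`-subgroups.
-/

set_option autoImplicit false

namespace Cfsg.Lib.TwoTimesSym

/-- translations and coordinate permutations -/
def xFull : List ℕ := [6066, 6100, 7026, 7128, 7540, 7608, 9345, 9447, 10305, 10475, 11847, 11915, 17025, 17127,
  18465, 18669, 20007, 20109, 29106, 29140, 31506, 31710, 32020, 32190, 33345, 33515, 33825, 34029, 36395, 36429,
  45426, 45528, 46866, 47070, 48408, 48510, 53620, 53688, 55060, 55230, 56088, 56190, 57927, 57995, 58407, 58509,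
  59435, 59469]

/-- one translation and a symmetric group of degree four -/
def xFour : List ℕ := [4680, 4740, 5160, 5250, 6180, 6210, 8520, 8580, 9240, 9345, 10260, 10305, 16680, 16770,
  16920, 17025, 18450, 18465, 31710, 31725, 32190, 32235, 32445, 32475, 33060, 33090, 33300, 33345, 33810, 33825,
  47070, 47085, 48510, 48615, 48765, 48855, 55230, 55275, 56190, 56295, 56955, 57015, 59325, 59355, 60285, 60375,
  60795, 60855]

/-- even translations and coordinate permutations -/
def xHalf : List ℕ := [9345, 9447, 10305, 10475, 11847, 11915, 17025, 17127, 18465, 18669, 20007, 20109, 33345,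
  33515, 33825, 34029, 36395, 36429, 57927, 57995, 58407, 58509, 59435, 59469]

/-- the twisted variant -/
def xTwist : List ℕ := [9345, 9351, 9355, 9357, 10305, 10311, 10315, 10317, 17025, 17031, 17035, 17037, 18465,
  18471, 18475, 18477, 33345, 33351, 33355, 33357, 33825, 33831, 33835, 33837]

/-- Sylow subgroup of `xFull` -/
def sFull : List ℕ := [7128, 7608, 10475, 11915, 18669, 20109, 31710, 32190, 33345, 33825, 45426, 46866, 53620,
  55060, 57927, 58407]

/-- Sylow subgroup of `xFour` -/
def sFour : List ℕ := [4680, 5160, 8580, 10260, 16770, 18450, 31710, 32190, 33345, 33825, 47085, 48765, 55275,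
  56955, 60375, 60855]

/-- Sylow subgroup of `xHalf` -/
def sHalf : List ℕ := [10475, 11915, 18669, 20109, 33345, 33825, 57927, 58407]

/-- Sylow subgroup of `xTwist` -/
def sTwist : List ℕ := [33345, 33351, 33355, 33357, 33825, 33831, 33835, 33837]

end Cfsg.Lib.TwoTimesSym
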