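import Cfsg.Agent.TwoTimesSym.Range

/-!
Cosets of a frame inside its normaliser, for the pattern in which eight vectors are conjugate to `t`.
-/

set_option autoImplicit false
set_option linter.unusedSectionVars false
set_option linter.style.haveILetI false

namespace Cfsg.Lib.TwoTimesSym

open Subgroup

variable {G : Type*} [Group G]

namespace Pair

variable {t : G} (P : Pair t) [Finite G]

include P in
theorem sq_of_conj {d : G} (hd : IsConj t d) : d * d = 1 := by
  obtain ⟨c, hc⟩ := isConj_iff.1 hd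
  rw [← hc]
  calc c * t * c⁻¹ * (c * t * c⁻¹) = c * (t * t) * c⁻¹ := by group
    _ = 1 := by rw [P.ht2]; group

variable {P}

/-- a set of codes inside the range -/
def Codes.ofRange {l₀ : List ℕ} (h : P.IsRange l₀) (l : List ℕ)
    (hl : (decide l.Nodup && closedB l && l.contains cId && l.all fun f => l₀.contains f) = true) :
    P.Codes where
  l := l
  nodup := by simp only [Bool.and_eq_true, decide_eq_true_iff] at hl; exact hl.1.1.1
  closed := by simp only [Bool.and_eq_true] at hl; exact hl.1.1.2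
  id_mem := by simp only [Bool.and_eq_true, List.contains_iff_mem] at hl; exact hl.1.2
  real f hf := by
    simp only [Bool.and_eq_true, List.all_eq_true, List.contains_iff_mem] at hl
    exact h.real f (hl.2 f hf)

theorem IsRange.nC_eq {l : List ℕ} (h : P.IsRange l) {f r : ℕ}
    (hc : (l.contains f && l.contains r && l.any fun a => comp a r == comp f a) = true) :
    P.nC f = P.nC r := by
  simp only [Bool.and_eq_true, List.contains_iff_mem, List.any_eq_true, beq_iff_eq] at hc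
  obtain ⟨⟨hf, hr⟩, a, ha, e⟩ := hc
  exact P.nC_conj (h.real a ha) (h.real r hr) (h.real f hf) e

theorem mem_T_of_code {g : G} (hg : g ∈ P.F.N) (h : P.F.code g = cId ∨ P.F.code g = cPi) : g ∈ P.T := by
  rcases h with h | h
  · exact P.A_le_T ((P.F.code_eq_id_iff hg).1 h)
  · have hA := (P.F.code_eq_iff P.F.p_mem.1 hg).1 (P.F.p_mem.2.trans h.symm)
    have : g = P.F.p * (P.F.p⁻¹ * g) := by group
    rw [this]
    exact mul_mem P.p_mem_T (P.A_le_T hA)

theorem code_of_mem_T {g : G} (hg : g ∈ P.T) : P.F.code g = cId ∨ P.F.code g = cPi := by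
  obtain ⟨k, -, rfl⟩ := hg
  have hA := P.F.el_mem (Nat.mod_lt k (show 16 > 0 by norm_num))
  unfold Pair.emb
  split
  · right
    rw [P.F.code_mul P.F.p_mem.1 (P.F.A_le_N hA), P.F.code_of_mem_A hA, P.F.p_mem.2]
    decide +kernel
  · exact Or.inl (P.F.code_of_mem_A hA)

/-- an element whose code commutes with that of `p` normalises `T` -/
theorem mem_NT_of_code {g : G} (hg : g ∈ P.F.N) {f f' : ℕ} (hf : P.F.code g = f)
    (hf' : P.F.code g⁻¹ = f') (h1 : comp (comp f cPi) f' = cPi) : g ∈ P.NT := by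
  have hle : ∀ x ∈ P.T, g * x * g⁻¹ ∈ P.T := by
    intro x hx
    have hxN := P.T_le_N hx
    refine mem_T_of_code (mul_mem (mul_mem hg hxN) (inv_mem hg)) ?_
    rw [P.F.code_mul (mul_mem hg hxN) (inv_mem hg), P.F.code_mul hg hxN]
    rcases code_of_mem_T hx with e | e <;> rw [e]
    · left
      rw [← P.F.code_of_mem_A (one_mem _), ← P.F.code_mul hg (one_mem _), mul_one,
        ← P.F.code_mul hg (inv_mem hg), mul_inv_cancel]
    · right; rw [hf, hf', h1]
  rw [NT, mem_normalizer_iff]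
  let φ : P.T → P.T := fun x => ⟨g * x.1 * g⁻¹, hle _ x.2⟩
  have hφ : Function.Surjective φ := Finite.surjective_of_injective fun a b e => by
    have e' : g * a.1 * g⁻¹ = g * b.1 * g⁻¹ := congrArg Subtype.val e
    exact Subtype.ext (mul_left_cancel (mul_right_cancel e'))
  refine fun n => ⟨hle n, fun hn => ?_⟩
  obtain ⟨a, ha⟩ := hφ ⟨_, hn⟩
  have e' : g * a.1 * g⁻¹ = g * n * g⁻¹ := congrArg Subtype.val ha
  exact (mul_left_cancel (mul_right_cancel e')) ▸ a.2

variable (P)

theorem nC_pi_eight (hD : P.DL = [7, 8, 14]) : P.nC cPi = 4 := by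
  rw [P.nC_pi, hD]; decide +kernel

theorem nC_id_eight (hD : P.DL = [7, 8, 14]) : P.nC cId = 8 := by
  rw [P.nC_id, hD]; decide +kernel

/-- two commuting conjugates of `t` do not multiply to a third -/
theorem product_rule (hD : P.DL = [7, 8, 14]) {x y : G} (hx : IsConj t x) (hy : IsConj t y)
    (hc : Commute x y) : ¬ IsConj t (x * y) := by
  intro hxy
  obtain ⟨h, hh⟩ := isConj_iff.1 hx.symm
  have hyc : h * y * h⁻¹ ∈ centralizer ({t} : Set G) := by
    rw [mem_centralizer_singleton_iff, ← hh]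
    calc h * y * h⁻¹ * (h * x * h⁻¹) = h * (y * x) * h⁻¹ := by group
      _ = _ := by rw [← hc.eq]; group
  have hconj : IsConj y (h * y * h⁻¹) := isConj_iff.2 ⟨h, rfl⟩
  have hy2 := P.sq_of_conj (hy.trans hconj)
  have hK : IsPGroup 2 (zpowers (h * y * h⁻¹)) := by
    rintro ⟨z, hz⟩
    obtain ⟨i, rfl⟩ := mem_zpowers_iff.1 hz
    refine ⟨1, Subtype.ext ?_⟩
    show ((h * y * h⁻¹) ^ i) ^ (2 ^ 1) = 1
    rw [pow_one, ← zpow_natCast, ← zpow_mul, mul_comm, zpow_mul, zpow_natCast, pow_two, hy2, one_zpow]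
  obtain ⟨c, ⟨hcC, -⟩, hcT⟩ := P.exists_conj_le (M := ⊤) le_top hK
    (zpowers_le.2 (mem_inf.2 ⟨hyc, mem_top _⟩))
  obtain ⟨k, hk, ek⟩ := hcT _ (mem_zpowers _)
  have h1 : IsConj t (P.emb k) := by
    rw [ek]; exact (hy.trans hconj).trans (isConj_iff.2 ⟨c⁻¹, by simp⟩)
  have hct : c⁻¹ * t * c = t := by
    rw [mul_assoc, ← mem_centralizer_singleton_iff.1 hcC]; group
  have h2 : IsConj t (P.emb (tmul 1 k)) := by
    rw [P.emb_mul, P.emb_lt (show 1 < 16 by norm_num), P.F.el_one, ek]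
    refine hxy.trans (isConj_iff.2 ⟨c⁻¹ * h, ?_⟩)
    calc c⁻¹ * h * (x * y) * (c⁻¹ * h)⁻¹ = (c⁻¹ * (h * x * h⁻¹) * c) * (c⁻¹ * (h * y * h⁻¹) * c) := by group
      _ = _ := by rw [hh, hct]
  rw [P.conj_emb_iff hk, hD] at h1
  rw [P.conj_emb_iff tmul_lt, hD] at h2
  exact (show ∀ k < 32, maskT [7, 8, 14] k = true → maskT [7, 8, 14] (tmul 1 k) = true → False by
    decide +kernel) k hk h1 h2

/-- a translation with its fixed vectors spans an elementary subgroup of order `16` -/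
theorem exists_block {f : ℕ} (hlen : (fixL f).length = 8) (hid : f ≠ cId) {d : G} (hd : d ∈ P.F.N)
    (hdf : P.F.code d = f) (hdd : d * d = 1) :
    ∃ E : Subgroup G, Nat.card E = 16 ∧ (∀ a ∈ E, ∀ b ∈ E, Commute a b) ∧ (∀ z ∈ E, z * z = 1) ∧
      ∀ g, g ∈ E ↔ ∃ x < 16, ev f x = x ∧ (g = P.F.el x ∨ g = d * P.F.el x) := by
  classical
  have hcomm : ∀ x < 16, ev f x = x → Commute d (P.F.el x) := by
    intro x hx hfx
    have e := P.F.conj_el hd hx
    rw [hdf, hfx] at e
    exact mul_inv_eq_iff_eq_mul.1 e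
  have hdA : d ∉ P.F.A := fun hA => hid (hdf ▸ P.F.code_of_mem_A hA)
  have hxor : ∀ x < 16, ∀ y < 16, ev f x = x → ev f y = y → ev f (x ^^^ y) = x ^^^ y := by
    intro x hx y hy ex ey
    have e := P.F.conj_el hd (Frame.xor_lt hx hy)
    rw [hdf] at e
    refine (P.F.el_inj _ (Frame.ev_lt _ _) _ (Frame.xor_lt hx hy) ?_)
    rw [← e, P.F.el_xor _ hx _ hy]
    exact mul_inv_eq_iff_eq_mul.2 ((hcomm x hx ex).mul_right (hcomm y hy ey)).eq
  let E : Subgroup G :=
    { carrier := {g | ∃ x < 16, ev f x = x ∧ (g = P.F.el x ∨ g = d * P.F.el x)}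
      one_mem' := ⟨0, by norm_num, by simp [ev], Or.inl P.F.el_zero.symm⟩
      mul_mem' := by
        rintro a b ⟨x, hx, ex, ha⟩ ⟨y, hy, ey, hb⟩
        refine ⟨x ^^^ y, Frame.xor_lt hx hy, hxor x hx y hy ex ey, ?_⟩
        rw [P.F.el_xor _ hx _ hy]
        rcases ha with rfl | rfl <;> rcases hb with rfl | rfl
        · exact Or.inl rfl
        · exact Or.inr (by rw [← mul_assoc, ← (hcomm x hx ex).eq, mul_assoc])
        · exact Or.inr (by rw [mul_assoc])
        · refine Or.inl ?_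
          calc d * P.F.el x * (d * P.F.el y) = d * (P.F.el x * d) * P.F.el y := by group
            _ = d * d * (P.F.el x * P.F.el y) := by rw [← (hcomm x hx ex).eq]; group
            _ = _ := by rw [hdd, one_mul]
      inv_mem' := by
        rintro a ⟨x, hx, ex, ha⟩
        refine ⟨x, hx, ex, ?_⟩
        rcases ha with rfl | rfl
        · exact Or.inl (P.F.el_inv hx)
        · refine Or.inr ?_
          rw [mul_inv_rev, P.F.el_inv hx, inv_eq_of_mul_eq_one_right hdd, (hcomm x hx ex).eq] }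
  set S := (fixL f).toFinset with hS
  have hSc : S.card = 8 := by
    rw [hS, List.toFinset_card_of_nodup (show (fixL f).Nodup from List.nodup_range.filter _), hlen]
  have hSm : ∀ x, x ∈ S ↔ x < 16 ∧ ev f x = x := by simp [hS, fixL]
  let φ : S × Bool → E := fun p => ⟨(bif p.2 then d else 1) * P.F.el p.1.1, p.1.1, ((hSm _).1 p.1.2).1,
    ((hSm _).1 p.1.2).2, by cases p.2 <;> simp⟩
  have hφ : Function.Bijective φ := by
    constructor
    · rintro ⟨⟨x, hx⟩, a⟩ ⟨⟨y, hy⟩, b⟩ e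
      have hx' := ((hSm _).1 hx).1
      have hy' := ((hSm _).1 hy).1
      have e' : (bif a then d else 1) * P.F.el x = (bif b then d else 1) * P.F.el y := congrArg Subtype.val e
      cases a <;> cases b <;> simp only [cond_true, cond_false, one_mul] at e'
      · simp [P.F.el_inj _ hx' _ hy' e']
      · exact absurd (by rw [show d = P.F.el x * (P.F.el y)⁻¹ by rw [e']; group]
                         exact mul_mem (P.F.el_mem hx') (inv_mem (P.F.el_mem hy'))) hdA
      · exact absurd (by rw [show d = P.F.el y * (P.F.el x)⁻¹ by rw [← e']; group]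
                         exact mul_mem (P.F.el_mem hy') (inv_mem (P.F.el_mem hx'))) hdA
      · simp [P.F.el_inj _ hx' _ hy' (mul_left_cancel e')]
    · rintro ⟨g, x, hx, ex, hg | hg⟩
      · exact ⟨⟨⟨x, (hSm x).2 ⟨hx, ex⟩⟩, false⟩, Subtype.ext (by simp [φ, hg])⟩
      · exact ⟨⟨⟨x, (hSm x).2 ⟨hx, ex⟩⟩, true⟩, Subtype.ext (by simp [φ, hg])⟩
  have hEc : Nat.card E = 16 := by
    rw [← Nat.card_eq_of_bijective φ hφ, Nat.card_prod, Nat.card_eq_finsetCard, hSc,
      Nat.card_eq_fintype_card, Fintype.card_bool]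
  have hEsq : ∀ z ∈ E, z * z = 1 := by
    rintro _ ⟨x, hx, ex, rfl | rfl⟩
    · exact P.F.el_sq hx
    · calc d * P.F.el x * (d * P.F.el x) = d * (P.F.el x * d) * P.F.el x := by group
        _ = d * d * (P.F.el x * P.F.el x) := by rw [← (hcomm x hx ex).eq]; group
        _ = 1 := by rw [hdd, P.F.el_sq hx, one_mul]
  have hEcomm : ∀ a ∈ E, ∀ b ∈ E, Commute a b := by
    intro a ha b hb
    have h1 := hEsq _ (mul_mem ha hb)
    show a * b = b * a
    rw [← inv_eq_of_mul_eq_one_right h1, mul_inv_rev, inv_eq_of_mul_eq_one_right (hEsq a ha),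
      inv_eq_of_mul_eq_one_right (hEsq b hb)]
  exact ⟨E, hEc, hEcomm, hEsq, fun g => Iff.rfl⟩

/-- the involutions in the coset of a translation are its products with fixed vectors -/
theorem involution_in_coset {f : ℕ} {d e : G} (hd : d ∈ P.F.N) (hdf : P.F.code d = f) (hdd : d * d = 1)
    (he : e ∈ P.F.N) (hef : P.F.code e = f) (hee : e * e = 1) :
    ∃ x < 16, ev f x = x ∧ e = d * P.F.el x := by
  obtain ⟨x, hx, hxe⟩ := (P.F.code_eq_iff hd he).1 (hdf.trans hef.symm)
  have e' : d * P.F.el x = e := by rw [hxe]; group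
  have h1 := P.F.conj_el hd hx
  rw [hdf, inv_eq_of_mul_eq_one_right hdd] at h1
  rw [← e'] at hee
  have e2 : P.F.el (ev f x) * P.F.el x = 1 := by rw [← h1, ← hee]; group
  exact ⟨x, hx, P.F.el_inj _ (Frame.ev_lt _ _) _ hx ((eq_inv_of_mul_eq_one_left e2).trans (P.F.el_inv hx)),
    e'.symm⟩

/-- only the block itself centralises a translating conjugate of `t` and its fixed vectors -/
theorem cent_block {f : ℕ} (hlen : (fixL f).length = 8) (hid : f ≠ cId) {x y : G} (hx : x ∈ P.F.N)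
    (hxf : P.F.code x = f) (hxt : IsConj t x) (hy : y ∈ P.F.N) (hc : Commute x y)
    (hfix : ∀ v < 16, ev f v = v → ev (P.F.code y) v = v) : P.F.code y = cId ∨ P.F.code y = f := by
  obtain ⟨E, hEc, hEcomm, hEsq, hEm⟩ := P.exists_block hlen hid hx hxf (P.sq_of_conj hxt)
  have hxE : x ∈ E := (hEm x).2 ⟨0, by norm_num, by simp [ev], Or.inr (by rw [P.F.el_zero, mul_one])⟩
  obtain ⟨g, -, hg⟩ := P.exists_frame hEc hEcomm hEsq hxE hxt
  have hyE : ∀ z ∈ E, Commute y z := by
    intro z hz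
    obtain ⟨v, hv, hfv, rfl | rfl⟩ := (hEm z).1 hz
    · have e := P.F.conj_el hy hv
      rw [hfix v hv hfv] at e
      exact mul_inv_eq_iff_eq_mul.1 e
    · refine hc.symm.mul_right ?_
      have e := P.F.conj_el hy hv
      rw [hfix v hv hfv] at e
      exact mul_inv_eq_iff_eq_mul.1 e
  have key : ∀ F : Frame t, (∀ z, g * z * g⁻¹ ∈ F.A ↔ z ∈ E) → y ∈ E := by
    intro F hF
    rw [← hF]
    refine F.cent _ fun v hv => ?_
    have hz : g⁻¹ * F.el v * g ∈ E := by
      rw [← hF, show g * (g⁻¹ * F.el v * g) * g⁻¹ = F.el v by group]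
      exact F.el_mem hv
    have e := (hyE _ hz).eq
    show _ = _
    calc g * y * g⁻¹ * F.el v = g * (y * (g⁻¹ * F.el v * g)) * g⁻¹ := by group
      _ = g * (g⁻¹ * F.el v * g * y) * g⁻¹ := by rw [e]
      _ = _ := by group
  obtain ⟨v, hv, -, rfl | rfl⟩ := (hEm y).1 (hg.elim (key P.F) (key P.F'))
  · exact Or.inl (P.F.code_of_mem_A (P.F.el_mem hv))
  · right
    rw [← hxf]
    refine ((P.F.code_eq_iff hx (mul_mem hx (P.F.A_le_N (P.F.el_mem hv)))).2 ?_).symm
    rw [inv_mul_cancel_left]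
    exact P.F.el_mem hv

/-- a translation coset meets the conjugates of `t` in nothing or in all of its involutions -/
theorem half (hD : P.DL = [7, 8, 14]) {f : ℕ} (hlen : (fixL f).length = 8)
    (hfix : ∀ x < 16, ev f x = x → mask [7, 8, 14] x = false) (hid : f ≠ cId) :
    P.nC f = 0 ∨ (P.nC f = 8 ∧ ∀ e ∈ P.F.N, P.F.code e = f → e * e = 1 → IsConj t e) := by
  classical
  rcases P.nC_cases f with h | ⟨d, W, hd, hdf, hdt, -, h, hW, hW', -⟩
  · exact Or.inl h
  right
  have hdd := P.sq_of_conj hdt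
  obtain ⟨E, hEc, hEcomm, hEsq, hEm⟩ := P.exists_block hlen hid hd hdf hdd
  have hdE : d ∈ E := (hEm d).2 ⟨0, by norm_num, by simp [ev], Or.inr (by rw [P.F.el_zero, mul_one])⟩
  obtain ⟨g, -, hg⟩ := P.exists_frame hEc hEcomm hEsq hdE hdt
  have hcount : W.card = 8 := by
    have hW1 : Nat.card {e : E // IsConj t (e : G)} = W.card := by
      rw [← Nat.card_eq_finsetCard W]
      let ψ : {x // x ∈ W} → {e : E // IsConj t (e : G)} := fun x =>
        ⟨⟨d * P.F.el x.1, (hEm _).2 ⟨x.1, (hW _ x.2).1, (hW _ x.2).2.1, Or.inr rfl⟩⟩, (hW _ x.2).2.2⟩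
      refine (Nat.card_congr (Equiv.ofBijective ψ ⟨fun a b e => Subtype.ext (P.F.el_inj _ (hW _ a.2).1 _
        (hW _ b.2).1 (mul_left_cancel (congrArg (fun z => ((z.1 : E) : G)) e))), fun e => ?_⟩)).symm
      obtain ⟨⟨g', hg'⟩, hc⟩ := e
      obtain ⟨x, hx, ex, rfl | rfl⟩ := (hEm g').1 hg'
      · have := (P.conj_el_iff hx).1 hc
        rw [hD, hfix x hx ex] at this
        exact absurd this Bool.false_ne_true
      · exact ⟨⟨x, hW' x hx ex hc⟩, rfl⟩
    have h1 : ∀ Q : Pair t, Q.DL = [7, 8, 14] → (∀ y, g * y * g⁻¹ ∈ Q.F.A ↔ y ∈ E) →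
        Nat.card {e : E // IsConj t (e : G)} = 8 := by
      intro Q hQ hgQ
      rw [← Q.nC_id_eight hQ, nC]
      have hcj : ∀ y, IsConj t y → IsConj t (g * y * g⁻¹) := fun y hy => hy.trans (isConj_iff.2 ⟨g, rfl⟩)
      refine Nat.card_congr
        { toFun := fun e => ⟨g * (e.1 : G) * g⁻¹, Q.F.A_le_N ((hgQ _).2 e.1.2),
            Q.F.code_of_mem_A ((hgQ _).2 e.1.2), hcj _ e.2⟩
          invFun := fun a => ⟨⟨g⁻¹ * a.1 * g, ?_⟩, ?_⟩
          left_inv := fun e => by apply Subtype.ext; apply Subtype.ext; simp [mul_assoc]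
          right_inv := fun a => by apply Subtype.ext; simp [mul_assoc] }
      · rw [← hgQ, show g * (g⁻¹ * a.1 * g) * g⁻¹ = a.1 by group]
        exact (Q.F.code_eq_id_iff a.2.1).1 a.2.2.1
      · exact a.2.2.2.trans (isConj_iff.2 ⟨g⁻¹, by simp⟩)
    rw [← hW1]
    rcases hg with hg | hg
    · exact h1 P hD hg
    · exact h1 P.swap (by rw [P.swap_DL_eq (Or.inr hD), hD]) hg
  refine ⟨by rw [h, hcount], fun e he hef hee => ?_⟩
  obtain ⟨x, hx, hfx, rfl⟩ := P.involution_in_coset hd hdf hdd he hef hee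
  set S := (fixL f).toFinset with hS
  have hSc : S.card = 8 := by
    rw [hS, List.toFinset_card_of_nodup (show (fixL f).Nodup from List.nodup_range.filter _), hlen]
  have hSm : ∀ x, x ∈ S ↔ x < 16 ∧ ev f x = x := by simp [hS, fixL]
  have hWS : W = S := Finset.eq_of_subset_of_card_le (fun z hz => (hSm z).2 ⟨(hW z hz).1, (hW z hz).2.1⟩)
    (by rw [hSc, hcount])
  exact (hW x (hWS ▸ (hSm x).2 ⟨hx, hfx⟩)).2.2

end Pair

end Cfsg.Lib.TwoTimesSym
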