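import Cfsg.Agent.TwoTimesSym.Frame

/-!
Two frames sharing a Sylow subgroup `T` of order `32` of the centralizer of `t`.
-/

set_option autoImplicit false
set_option linter.unusedSectionVars false

namespace Cfsg.Lib.TwoTimesSym

open Subgroup

variable {G : Type*} [Group G]

/-- multiplication in the Sylow group of the centralizer, coded by `k < 32` -/
def tmul (a b : ℕ) : ℕ :=
  16 * ((a / 16 + b / 16) % 2) + ((if b / 16 % 2 = 1 then ev cPi (a % 16) else a % 16) ^^^ (b % 16))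

/-- the second frame inside the coded Sylow group -/
def tr (x : ℕ) : ℕ :=
  tmul (tmul (tmul (if x % 2 = 1 then 1 else 0) (if x / 2 % 2 = 1 then 16 else 0))
    (if x / 4 % 2 = 1 then 22 else 0)) (if x / 8 % 2 = 1 then 14 else 0)

/-- a code for the coordinate change `a ↦ ta` on odd vectors -/
def cFlip : ℕ := 38193

/-- two frames -/
structure Pair (t : G) where
  /-- first frame -/
  F : Frame t
  /-- second frame -/
  F' : Frame t
  l2 : F'.el 2 = F.p
  l2' : F.el 2 = F'.p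
  l14 : F'.el 14 = F.el 8
  l8 : F'.el 8 = F.el 14
  l6 : F'.el 6 = F.el 6
  hcard : ∃ c, Odd c ∧ Nat.card (centralizer ({t} : Set G)) = 32 * c

/-- the other coordinatisation of a frame -/
def Frame.flip {t : G} (F : Frame t) : Frame t where
  el x := F.el (ev cFlip x)
  p := t * F.p
  r := F.r
  el_xor x hx y hy := by
    rw [← F.el_xor _ (Frame.ev_lt _ _) _ (Frame.ev_lt _ _)]
    congr 1
    exact (show ∀ x < 16, ∀ y < 16, ev cFlip (x ^^^ y) = ev cFlip x ^^^ ev cFlip y by decide +kernel) x hx y hy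
  el_inj x hx y hy h := (show ∀ x < 16, ∀ y < 16, ev cFlip x = ev cFlip y → x = y by decide +kernel) x hx y hy
    (F.el_inj _ (Frame.ev_lt _ _) _ (Frame.ev_lt _ _) h)
  el_one := by rw [show ev cFlip 1 = 1 by decide +kernel, F.el_one]
  cent g hg := by
    obtain ⟨x, hx, rfl⟩ := F.cent g fun x hx => by
      obtain ⟨y, hy, e⟩ := (show ∀ x < 16, ∃ y < 16, ev cFlip y = x by decide +kernel) x hx
      exact e ▸ hg y hy
    obtain ⟨y, hy, e⟩ := (show ∀ x < 16, ∃ y < 16, ev cFlip y = x by decide +kernel) x hx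
    exact ⟨y, hy, by rw [e]⟩
  stab g hc hg := by
    obtain ⟨s, hs, h⟩ := F.stab g hc fun x hx => by
      obtain ⟨y, hy, e⟩ := (show ∀ x < 16, ∃ y < 16, ev cFlip y = x by decide +kernel) x hx
      obtain ⟨w, hw, hw'⟩ := hg y hy
      rw [← e]
      exact ⟨_, Frame.ev_lt _ _, hw'⟩
    refine ⟨s, hs, fun x hx => ?_⟩
    rw [h _ (Frame.ev_lt _ _)]
    congr 1
    exact (show ∀ s ∈ cS3, ∀ x < 16, ev s (ev cFlip x) = ev cFlip (ev s x) by decide +kernel) s hs x hx
  p_sq := by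
    have h := F.p_el 1 (by norm_num)
    rw [show ev cPi 1 = 1 by decide +kernel, F.el_one] at h
    have hc : F.p * t = t * F.p := mul_inv_eq_iff_eq_mul.1 h
    have ht : t * t = 1 := F.el_one ▸ F.el_sq (by norm_num)
    calc t * F.p * (t * F.p) = t * (F.p * t) * F.p := by group
      _ = t * t * (F.p * F.p) := by rw [hc]; group
      _ = 1 := by rw [ht, F.p_sq, mul_one]
  p_el x hx := by
    have e : t * F.p * F.el (ev cFlip x) * (t * F.p)⁻¹ =
        t * (F.p * F.el (ev cFlip x) * F.p⁻¹) * t⁻¹ := by group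
    rw [e, F.p_el _ (Frame.ev_lt _ _)]
    have hc := (F.el_comm (show 1 < 16 by norm_num) (Frame.ev_lt cPi (ev cFlip x))).eq
    rw [F.el_one] at hc
    rw [show t * F.el (ev cPi (ev cFlip x)) * t⁻¹ = F.el (ev cPi (ev cFlip x)) from by rw [hc]; group]
    congr 1
    exact (show ∀ x < 16, ev cPi (ev cFlip x) = ev cFlip (ev cPi x) by decide +kernel) x hx
  r_el x hx := by
    rw [F.r_el _ (Frame.ev_lt _ _)]
    congr 1
    exact (show ∀ x < 16, ev cRho (ev cFlip x) = ev cFlip (ev cRho x) by decide +kernel) x hx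

namespace Pair

variable {t : G} (P : Pair t)

/-- exchange the frames -/
def swap : Pair t where
  F := P.F'
  F' := P.F
  l2 := P.l2'
  l2' := P.l2
  l14 := P.l8.symm
  l8 := P.l14.symm
  l6 := P.l6.symm
  hcard := P.hcard

/-- change both coordinatisations -/
def flip : Pair t where
  F := P.F.flip
  F' := P.F'.flip
  l2 := by
    show P.F'.el (ev cFlip 2) = t * P.F.p
    rw [show ev cFlip 2 = 1 ^^^ 2 by decide +kernel, P.F'.el_xor _ (by norm_num) _ (by norm_num),
      P.F'.el_one, P.l2]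
  l2' := by
    show P.F.el (ev cFlip 2) = t * P.F'.p
    rw [show ev cFlip 2 = 1 ^^^ 2 by decide +kernel, P.F.el_xor _ (by norm_num) _ (by norm_num),
      P.F.el_one, P.l2']
  l14 := by
    show P.F'.el (ev cFlip 14) = P.F.el (ev cFlip 8)
    rw [show ev cFlip 14 = 1 ^^^ 14 by decide +kernel, show ev cFlip 8 = 1 ^^^ 8 by decide +kernel,
      P.F'.el_xor _ (by norm_num) _ (by norm_num), P.F.el_xor _ (by norm_num) _ (by norm_num),
      P.F'.el_one, P.F.el_one, P.l14]
  l8 := by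
    show P.F'.el (ev cFlip 8) = P.F.el (ev cFlip 14)
    rw [show ev cFlip 14 = 1 ^^^ 14 by decide +kernel, show ev cFlip 8 = 1 ^^^ 8 by decide +kernel,
      P.F'.el_xor _ (by norm_num) _ (by norm_num), P.F.el_xor _ (by norm_num) _ (by norm_num),
      P.F'.el_one, P.F.el_one, P.l8]
  l6 := by
    show P.F'.el (ev cFlip 6) = P.F.el (ev cFlip 6)
    rw [show ev cFlip 6 = 6 by decide +kernel, P.l6]
  hcard := P.hcard

/-- the coded Sylow group -/
def emb (k : ℕ) : G := if k / 16 % 2 = 1 then P.F.p * P.F.el (k % 16) else P.F.el (k % 16)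

theorem tmul_lt {a b : ℕ} : tmul a b < 32 := by
  have h : ((if b / 16 % 2 = 1 then ev cPi (a % 16) else a % 16) ^^^ (b % 16)) < 16 := by
    refine Frame.xor_lt ?_ (Nat.mod_lt _ (by norm_num))
    split
    · exact Frame.ev_lt _ _
    · exact Nat.mod_lt _ (by norm_num)
  unfold tmul
  omega

theorem p_inv : (P.F.p)⁻¹ = P.F.p := inv_eq_of_mul_eq_one_right P.F.p_sq

theorem el_mul_p {x : ℕ} (hx : x < 16) : P.F.el x * P.F.p = P.F.p * P.F.el (ev cPi x) := by
  rw [← P.F.p_el x hx, P.p_inv]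
  calc P.F.el x * P.F.p = P.F.p * P.F.p * (P.F.el x * P.F.p) := by rw [P.F.p_sq, one_mul]
    _ = _ := by group

theorem emb_split {i x : ℕ} (hi : i < 2) (hx : x < 16) : P.emb (16 * i + x) = P.F.p ^ i * P.F.el x := by
  rw [emb, show (16 * i + x) % 16 = x by omega, show (16 * i + x) / 16 % 2 = i by omega]
  interval_cases i <;> simp

theorem emb_mul {a b : ℕ} : P.emb (tmul a b) = P.emb a * P.emb b := by
  have ha : a % 16 < 16 := Nat.mod_lt _ (by norm_num)
  have hb : b % 16 < 16 := Nat.mod_lt _ (by norm_num)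
  have hev := Frame.ev_lt cPi (a % 16)
  have hA : P.emb a = P.F.p ^ (a / 16 % 2) * P.F.el (a % 16) := by
    rw [emb]; rcases Nat.mod_two_eq_zero_or_one (a / 16) with e | e <;> simp [e]
  have hB : P.emb b = P.F.p ^ (b / 16 % 2) * P.F.el (b % 16) := by
    rw [emb]; rcases Nat.mod_two_eq_zero_or_one (b / 16) with e | e <;> simp [e]
  have hp := P.F.p_sq
  rw [tmul, hA, hB, show (a / 16 + b / 16) % 2 = (a / 16 % 2 + b / 16 % 2) % 2 by omega]
  rcases Nat.mod_two_eq_zero_or_one (b / 16) with eb | eb <;> rw [eb]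
  · rw [if_neg zero_ne_one, add_zero, Nat.mod_mod, P.emb_split (Nat.mod_lt _ (by norm_num))
      (Frame.xor_lt ha hb), P.F.el_xor _ ha _ hb, pow_zero, one_mul, mul_assoc]
  · rw [if_pos rfl, P.emb_split (Nat.mod_lt _ (by norm_num)) (Frame.xor_lt hev hb), P.F.el_xor _ hev _ hb,
      pow_one]
    rcases Nat.mod_two_eq_zero_or_one (a / 16) with ea | ea <;> rw [ea]
    · rw [show (0 + 1) % 2 = 1 from rfl, pow_zero, one_mul, pow_one, ← mul_assoc, ← mul_assoc,
        P.el_mul_p ha]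
    · rw [show (1 + 1) % 2 = 0 from rfl, pow_zero, one_mul, pow_one]
      calc P.F.el (ev cPi (a % 16)) * P.F.el (b % 16)
          = P.F.p * P.F.p * (P.F.el (ev cPi (a % 16)) * P.F.el (b % 16)) := by rw [hp, one_mul]
        _ = P.F.p * (P.F.p * P.F.el (ev cPi (a % 16))) * P.F.el (b % 16) := by group
        _ = P.F.p * (P.F.el (a % 16) * P.F.p) * P.F.el (b % 16) := by rw [P.el_mul_p ha]
        _ = _ := by group

theorem emb_lt {k : ℕ} (hk : k < 16) : P.emb k = P.F.el k := by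
  rw [emb, if_neg (by omega), Nat.mod_eq_of_lt hk]

theorem emb_16 : P.emb 16 = P.F.p := by
  rw [emb, if_pos (by norm_num), show 16 % 16 = 0 from rfl, P.F.el_zero, mul_one]

theorem emb_zero : P.emb 0 = 1 := by rw [P.emb_lt (by norm_num), P.F.el_zero]

theorem el'_eq {x : ℕ} (hx : x < 16) : P.F'.el x = P.emb (tr x) := by
  have h4 : P.F'.el 4 = P.emb 22 := by
    rw [show (4 : ℕ) = 2 ^^^ 6 from rfl, P.F'.el_xor _ (by norm_num) _ (by norm_num), P.l2, P.l6,
      show (22 : ℕ) = tmul 16 6 by decide +kernel, P.emb_mul, P.emb_16, P.emb_lt (by norm_num)]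
  have h8 : P.F'.el 8 = P.emb 14 := by rw [P.l8, P.emb_lt (by norm_num)]
  have h1 : P.F'.el 1 = P.emb 1 := by rw [P.F'.el_one, P.emb_lt (by norm_num), P.F.el_one]
  have h2 : P.F'.el 2 = P.emb 16 := by rw [P.l2, P.emb_16]
  rw [tr, P.emb_mul, P.emb_mul, P.emb_mul]
  have hb : ∀ (k : ℕ) (c : Prop) [Decidable c], k < 16 → (if c then k else 0) < 16 := by
    intro k c _ hk; split <;> omega
  conv_lhs => rw [show x = ((if x % 2 = 1 then 1 else 0) ^^^ (if x / 2 % 2 = 1 then 2 else 0)) ^^^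
    (if x / 4 % 2 = 1 then 4 else 0) ^^^ (if x / 8 % 2 = 1 then 8 else 0) from
      (show ∀ x < 16, x = ((if x % 2 = 1 then 1 else 0) ^^^ (if x / 2 % 2 = 1 then 2 else 0)) ^^^
        (if x / 4 % 2 = 1 then 4 else 0) ^^^ (if x / 8 % 2 = 1 then 8 else 0) by decide +kernel) x hx]
  rw [P.F'.el_xor _ (Frame.xor_lt (Frame.xor_lt (hb _ _ (by norm_num)) (hb _ _ (by norm_num)))
      (hb _ _ (by norm_num))) _ (hb _ _ (by norm_num)),
    P.F'.el_xor _ (Frame.xor_lt (hb _ _ (by norm_num)) (hb _ _ (by norm_num))) _ (hb _ _ (by norm_num)),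
    P.F'.el_xor _ (hb _ _ (by norm_num)) _ (hb _ _ (by norm_num))]
  split_ifs <;> simp only [h1, h2, h4, h8, P.emb_zero, P.F'.el_zero]

variable [Finite G]

theorem p_notMem : P.F.p ∉ P.F.A := fun h =>
  absurd ((P.F.p_mem.2).symm.trans (P.F.code_of_mem_A h)) (by decide +kernel)

theorem emb_inj {a b : ℕ} (ha : a < 32) (hb : b < 32) (h : P.emb a = P.emb b) : a = b := by
  have ha' : a % 16 < 16 := Nat.mod_lt _ (by norm_num)
  have hb' : b % 16 < 16 := Nat.mod_lt _ (by norm_num)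
  unfold emb at h
  split_ifs at h with h1 h2 h2
  · have := P.F.el_inj _ ha' _ hb' (mul_left_cancel h); omega
  · exfalso; apply P.p_notMem
    rw [show P.F.p = P.F.el (b % 16) * (P.F.el (a % 16))⁻¹ by rw [← h]; group]
    exact mul_mem (P.F.el_mem hb') (inv_mem (P.F.el_mem ha'))
  · exfalso; apply P.p_notMem
    rw [show P.F.p = P.F.el (a % 16) * (P.F.el (b % 16))⁻¹ by rw [h]; group]
    exact mul_mem (P.F.el_mem ha') (inv_mem (P.F.el_mem hb'))
  · have := P.F.el_inj _ ha' _ hb' h; omega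

/-- the Sylow subgroup of the centralizer -/
def T : Subgroup G where
  carrier := {g | ∃ k < 32, P.emb k = g}
  one_mem' := ⟨0, by norm_num, P.emb_zero⟩
  mul_mem' := by
    rintro _ _ ⟨a, _, rfl⟩ ⟨b, _, rfl⟩
    exact ⟨_, tmul_lt, P.emb_mul⟩
  inv_mem' := by
    rintro _ ⟨a, ha, rfl⟩
    obtain ⟨b, hb, e⟩ := (show ∀ a < 32, ∃ b < 32, tmul a b = 0 by decide +kernel) a ha
    exact ⟨b, hb, (inv_eq_of_mul_eq_one_right (by rw [← P.emb_mul, e, P.emb_zero])).symm⟩

theorem emb_mem {k : ℕ} (hk : k < 32) : P.emb k ∈ P.T := ⟨k, hk, rfl⟩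

/-- coordinates in `T` -/
noncomputable def idx : Fin 32 ≃ P.T :=
  Equiv.ofBijective (fun k => ⟨P.emb k, P.emb_mem k.2⟩)
    ⟨fun i j h => Fin.ext (P.emb_inj i.2 j.2 (congrArg Subtype.val h)),
      fun g => by obtain ⟨x, hx, hg⟩ := g.2; exact ⟨⟨x, hx⟩, Subtype.ext hg⟩⟩

theorem card_T : Nat.card P.T = 32 := by rw [← Nat.card_congr P.idx, Nat.card_fin]

theorem A_le_T : P.F.A ≤ P.T := by
  rintro _ ⟨x, hx, rfl⟩
  exact ⟨x, by omega, P.emb_lt hx⟩

theorem A'_le_T : P.F'.A ≤ P.T := by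
  rintro _ ⟨x, hx, rfl⟩
  exact ⟨tr x, tmul_lt, (P.el'_eq hx).symm⟩

theorem p_mem_T : P.F.p ∈ P.T := ⟨16, by norm_num, P.emb_16⟩

theorem T_le_N : P.T ≤ P.F.N := by
  rintro _ ⟨k, -, rfl⟩
  have hA := P.F.A_le_N (P.F.el_mem (Nat.mod_lt k (show 16 > 0 by norm_num)))
  unfold emb
  split
  · exact mul_mem P.F.p_mem.1 hA
  · exact hA

theorem T_le_C : P.T ≤ centralizer ({t} : Set G) := by
  rintro _ ⟨k, hk, rfl⟩
  rw [mem_centralizer_singleton_iff]
  have h := congrArg P.emb ((show ∀ k < 32, tmul k 1 = tmul 1 k by decide +kernel) k hk)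
  rw [P.emb_mul, P.emb_mul, P.emb_lt (show 1 < 16 by norm_num), P.F.el_one] at h
  exact h

theorem isPGroup_T : IsPGroup 2 P.T :=
  IsPGroup.of_card (n := 5) (by rw [P.card_T]; norm_num)

/-- a `2`-subgroup of the centralizer, inside a group containing `T`, is conjugate into `T` there -/
theorem exists_conj_le {M K : Subgroup G} (hTM : P.T ≤ M) (hK : IsPGroup 2 K)
    (hKC : K ≤ centralizer ({t} : Set G) ⊓ M) :
    ∃ c ∈ centralizer ({t} : Set G) ⊓ M, ∀ x ∈ K, c⁻¹ * x * c ∈ P.T := by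
  classical
  haveI : Fact (Nat.Prime 2) := ⟨Nat.prime_two⟩
  set X := centralizer ({t} : Set G) ⊓ M with hX
  have hTX : P.T ≤ X := le_inf P.T_le_C hTM
  obtain ⟨c, hc, hcard⟩ := P.hcard
  set Y : Subgroup X := P.T.subgroupOf X
  have hYodd : Odd Y.index := by
    have h1 : Nat.card P.T * P.T.relIndex X = Nat.card X := by
      rw [← relIndex_bot_left, ← relIndex_bot_left]; exact relIndex_mul_relIndex _ _ _ bot_le hTX
    have h2 : Nat.card X ∣ 32 * c := hcard ▸ card_dvd_of_le inf_le_left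
    rw [← h1, P.card_T] at h2
    exact hc.of_dvd_nat (Nat.dvd_of_mul_dvd_mul_left (by norm_num) h2)
  let K' : Subgroup X := K.subgroupOf X
  have hK' : IsPGroup 2 K' := hK.of_equiv (subgroupOfEquivOfLe hKC).symm
  have h := hK'.card_modEq_card_fixedPoints (X ⧸ Y)
  rw [← index] at h
  have hne : (MulAction.fixedPoints K' (X ⧸ Y)).Nonempty := by
    rw [← Set.nonempty_coe_sort]
    by_contra hn
    rw [not_nonempty_iff] at hn
    rw [Nat.card_of_isEmpty (α := MulAction.fixedPoints K' (X ⧸ Y)), Nat.ModEq] at h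
    rw [Nat.odd_iff] at hYodd
    omega
  obtain ⟨q, hq⟩ := hne
  obtain ⟨g, rfl⟩ := QuotientGroup.mk_surjective q
  refine ⟨(g : G), g.2, fun x hx => ?_⟩
  have h2 := hq ⟨⟨x, hKC hx⟩, hx⟩
  have h3 := QuotientGroup.eq.1 h2.symm
  rw [mem_subgroupOf] at h3
  simpa [mul_assoc] using h3

/-- conjugates of `t` centralised by `T` are reached inside the normaliser of `T` -/
theorem burnside {M : Subgroup G} (hTM : P.T ≤ M) {y h : G} (hy : ∀ x ∈ P.T, Commute x y) (hh : h ∈ M)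
    (hhy : h * t * h⁻¹ = y) :
    ∃ g ∈ M, g ∈ normalizer (P.T : Set G) ∧ g * t * g⁻¹ = y := by
  let K : Subgroup G := P.T.map (MulAut.conj h⁻¹).toMonoidHom
  have hmem : ∀ x ∈ P.T, h⁻¹ * x * h ∈ K := fun x hx =>
    ⟨x, hx, by simp [MulAut.conj_apply]⟩
  have hK : IsPGroup 2 K := P.isPGroup_T.map _
  have hKC : K ≤ centralizer ({t} : Set G) ⊓ M := by
    rintro _ ⟨x, hx, rfl⟩
    simp only [MulEquiv.coe_toMonoidHom, MulAut.conj_apply, inv_inv]
    refine mem_inf.2 ⟨?_, mul_mem (mul_mem (inv_mem hh) (hTM hx)) hh⟩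
    rw [mem_centralizer_singleton_iff]
    have e := (hy x hx).eq
    rw [← hhy] at e
    calc h⁻¹ * x * h * t = h⁻¹ * (x * (h * t * h⁻¹)) * h := by group
      _ = h⁻¹ * (h * t * h⁻¹ * x) * h := by rw [e]
      _ = t * (h⁻¹ * x * h) := by group
  obtain ⟨c, ⟨hcC, hcM⟩, hc⟩ := P.exists_conj_le hTM hK hKC
  have hct : c * t * c⁻¹ = t := by
    rw [(mem_centralizer_singleton_iff.1 hcC)]; group
  refine ⟨h * c, mul_mem hh hcM, ?_, by rw [mul_inv_rev]; calc
    h * c * t * (c⁻¹ * h⁻¹) = h * (c * t * c⁻¹) * h⁻¹ := by group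
    _ = y := by rw [hct, hhy]⟩
  -- an injection of `T` into itself is onto
  let f : P.T → P.T := fun x => ⟨c⁻¹ * (h⁻¹ * x.1 * h) * c, hc _ (hmem _ x.2)⟩
  have hf : Function.Surjective f := Finite.surjective_of_injective fun a b e => by
    have e' : c⁻¹ * (h⁻¹ * a.1 * h) * c = c⁻¹ * (h⁻¹ * b.1 * h) * c := congrArg Subtype.val e
    simp only [mul_right_cancel_iff, mul_left_cancel_iff] at e'
    exact Subtype.ext e'
  rw [mem_normalizer_iff]
  refine fun n => ⟨fun hn => ?_, fun hn => ?_⟩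
  · obtain ⟨a, ha⟩ := hf ⟨n, hn⟩
    have e : c⁻¹ * (h⁻¹ * a.1 * h) * c = n := congrArg Subtype.val ha
    convert a.2 using 1
    rw [← e]; group
  · convert (f ⟨_, hn⟩).2 using 1
    simp only [f]; group

end Pair

end Cfsg.Lib.TwoTimesSym
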