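import Cfsg.Agent.TwoTimesSym.Reach

/-!
The possible patterns of reached conjugates of `t`.
-/

set_option autoImplicit false
set_option linter.unusedSectionVars false
set_option linter.style.haveILetI false

namespace Cfsg.Lib.TwoTimesSym

open Subgroup

variable {G : Type*} [Group G]

/-- all candidates for one or two reached vectors are bad -/
def killB (dl rl : List ℕ) : Bool :=
  (rl.any fun y => (cands dl rl y).all fun f => badW [f]) ||
    rl.any fun y => rl.any fun y' => (cands dl rl y).all fun f => (cands dl rl y').all fun f' => badW [f, f']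

/-- the surviving patterns -/
def alive : List (List ℕ × List ℕ) :=
  [([7], []), ([7], [7]), ([7, 8, 14], [8]), ([7, 8, 14], [14]), ([7, 8, 14], [7]),
    ([7, 8, 14], [7, 8, 14])]

set_option maxRecDepth 20000 in
theorem kill_table : ∀ dl ∈ hard, dl ≠ [7, 9, 15] → ∀ rl ∈ reps.sublists,
    rl.all (fun y => dl.contains y) = true →
    (rl = dl ∨ dl.length + 1 = 2 * (rl.length + 1)) →
      killB dl rl = true ∨ killB (dl.map sw) (rl.map sw) = true ∨ (dl, rl) ∈ alive := by
  decide +kernel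

namespace Pair

variable {t : G} (P : Pair t) [Finite G]

/-- the image of `t` under an element normalising `T` -/
theorem NT_image {g : G} (hg : g ∈ P.NT) : ∃ y ∈ 1 :: P.DL, g * t * g⁻¹ = P.F.el y := by
  have hT : g * t * g⁻¹ ∈ P.T := (mem_normalizer_iff.1 hg t).1 (P.A_le_T P.F.t_mem)
  obtain ⟨k, hk, e⟩ := hT
  have hcen : ∀ l < 32, tmul k l = tmul l k := by
    intro l hl
    refine P.emb_inj tmul_lt tmul_lt ?_
    rw [P.emb_mul, P.emb_mul, e]
    have hl' : g⁻¹ * P.emb l * g ∈ P.T := by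
      have := (mem_normalizer_iff.1 (inv_mem hg) _).1 (P.emb_mem hl)
      rwa [inv_inv] at this
    have hc := mem_centralizer_singleton_iff.1 (P.T_le_C hl')
    calc g * t * g⁻¹ * P.emb l = g * (t * (g⁻¹ * P.emb l * g)) * g⁻¹ := by group
      _ = g * (g⁻¹ * P.emb l * g * t) * g⁻¹ := by rw [hc]
      _ = _ := by group
  have hk' := (show ∀ k < 32, (∀ l < 32, tmul k l = tmul l k) → k ∈ [0, 1, 6, 7, 8, 9, 14, 15] by
    decide +kernel) k hk hcen
  have hk16 : k < 16 := (show ∀ k ∈ [0, 1, 6, 7, 8, 9, 14, 15], k < 16 by decide) k hk'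
  rw [P.emb_lt hk16] at e
  have hm := (P.conj_el_iff hk16).1 (isConj_iff.2 ⟨g, e.symm⟩)
  rw [mask, Bool.or_eq_true, beq_iff_eq, List.contains_iff_mem] at hm
  rw [(show ∀ k ∈ [0, 1, 6, 7, 8, 9, 14, 15], rep k = k by decide) k hk'] at hm
  exact ⟨k, List.mem_cons.2 (hm.imp id id), e.symm⟩

theorem mem_DL_lt {y : ℕ} (hy : y ∈ 1 :: P.DL) : y < 16 ∧ y ∈ [0, 1, 6, 7, 8, 9, 14, 15] ∧ y ≠ 0 := by
  rcases List.mem_cons.1 hy with rfl | hy
  · decide
  · exact (show ∀ y ∈ reps, y < 16 ∧ y ∈ [0, 1, 6, 7, 8, 9, 14, 15] ∧ y ≠ 0 by decide) _ (P.mem_DL.1 hy).1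

theorem reach_one : P.Reach 1 := ⟨1, one_mem _, one_mem _, by rw [P.F.el_one]; group⟩

theorem reach_iff {y : ℕ} (hy : y ∈ 1 :: P.DL) : P.Reach y ↔ y ∈ 1 :: P.RL := by
  rcases List.mem_cons.1 hy with rfl | hy
  · exact iff_of_true P.reach_one (List.mem_cons_self ..)
  · rw [List.mem_cons, P.mem_RL]
    have h1 : y ≠ 1 := (show ∀ y ∈ reps, y ≠ 1 by decide) y (P.mem_DL.1 hy).1
    exact ⟨fun h => Or.inr ⟨(P.mem_DL.1 hy).1, h⟩, fun h => (h.resolve_left h1).2⟩

/-- an exchanging element carries a reached vector to an unreached one and conversely -/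
theorem exch_step {g0 : G} (hg0 : g0 ∈ P.NT) (hg0N : g0 ∉ P.F.N) {y : ℕ} (hy : y ∈ 1 :: P.DL) :
    ∃ y' ∈ 1 :: P.DL, g0 * P.F.el y * g0⁻¹ = P.F.el y' ∧ (P.Reach y' ↔ ¬ P.Reach y) := by
  obtain ⟨h, hh, hhe⟩ : ∃ h ∈ P.NT, h * t * h⁻¹ = P.F.el y := by
    obtain ⟨c, hc⟩ := isConj_iff.1 (show IsConj t (P.F.el y) by
      rcases List.mem_cons.1 hy with rfl | hy
      · rw [P.F.el_one]
      · exact (P.mem_DL.1 hy).2)
    obtain ⟨g, -, hg, e⟩ := P.burnside (M := ⊤) le_top (P.el_central (P.mem_DL_lt hy).2.1) (mem_top c) hc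
    exact ⟨g, hg, e⟩
  obtain ⟨y', hy', e⟩ := P.NT_image (mul_mem hg0 hh)
  have key : ∀ {a : G} {z : ℕ}, a ∈ P.NT → a * t * a⁻¹ = P.F.el z → (P.Reach z ↔ a ∈ P.F.N) := by
    intro a z ha haz
    refine ⟨fun ⟨b, hb, hbT, hbz⟩ => ?_, fun h => ⟨a, h, ha, haz⟩⟩
    have hc : Commute (b⁻¹ * a) t := by
      have e2 : b⁻¹ * a * t * (b⁻¹ * a)⁻¹ = t := by
        calc b⁻¹ * a * t * (b⁻¹ * a)⁻¹ = b⁻¹ * (a * t * a⁻¹) * b := by group
          _ = t := by rw [haz, ← hbz]; group
      exact mul_inv_eq_iff_eq_mul.1 e2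
    exact (mul_mem_cancel_left (inv_mem hb)).1 (P.cent_NT (mul_mem (inv_mem hbT) ha) hc)
  refine ⟨y', hy', by rw [← hhe, ← e]; group, ?_⟩
  rw [key (mul_mem hg0 hh) e, key hh hhe]
  exact ⟨fun h1 h2 => hg0N ((mul_mem_cancel_right h2).1 h1), fun h1 => P.mul_exch hg0 hg0N hh h1⟩

theorem RL_cases : P.RL = P.DL ∨
    ((∃ g ∈ P.NT, g ∉ P.F.N) ∧ P.DL.length + 1 = 2 * (P.RL.length + 1)) := by
  classical
  by_cases hex : ∃ g ∈ P.NT, g ∉ P.F.N
  · right
    refine ⟨hex, ?_⟩
    obtain ⟨g0, hg0, hg0N⟩ := hex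
    set S : Finset ℕ := (1 :: P.DL).toFinset with hS
    have hnd : (1 :: P.DL).Nodup ∧ (1 :: P.RL).Nodup := by
      refine ⟨List.nodup_cons.2 ⟨fun h => ?_, ?_⟩, List.nodup_cons.2 ⟨fun h => ?_, ?_⟩⟩
      · exact absurd (P.mem_DL.1 h).1 (by decide)
      · exact List.Nodup.filter _ (by decide)
      · exact absurd (P.mem_RL.1 h).1 (by decide)
      · exact List.Nodup.filter _ (by decide)
    have e0 : S.filter (fun y => P.Reach y) = (1 :: P.RL).toFinset := by
      ext y
      simp only [Finset.mem_filter, hS, List.mem_toFinset]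
      refine ⟨fun ⟨h1, h2⟩ => (P.reach_iff h1).1 h2, fun h => ?_⟩
      have h' : y ∈ 1 :: P.DL := by
        rcases List.mem_cons.1 h with rfl | h
        · exact List.mem_cons_self ..
        · exact List.mem_cons_of_mem _ (P.RL_sub h)
      exact ⟨h', (P.reach_iff h').2 h⟩
    have hcardS : S.card = P.DL.length + 1 := by rw [hS, List.toFinset_card_of_nodup hnd.1, List.length_cons]
    have hcard0 : (S.filter fun y => P.Reach y).card = P.RL.length + 1 := by
      rw [e0, List.toFinset_card_of_nodup hnd.2, List.length_cons]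
    let σ : ℕ → ℕ := fun y => if h : y ∈ 1 :: P.DL then (P.exch_step hg0 hg0N h).choose else 0
    have hσ : ∀ y ∈ S, σ y ∈ S ∧ g0 * P.F.el y * g0⁻¹ = P.F.el (σ y) ∧ (P.Reach (σ y) ↔ ¬ P.Reach y) := by
      intro y hy
      rw [hS, List.mem_toFinset] at hy
      obtain ⟨h1, h2⟩ := (P.exch_step hg0 hg0N hy).choose_spec
      simp only [σ, dif_pos hy]
      exact ⟨by rw [hS, List.mem_toFinset]; exact h1, h2⟩
    have hinj : ∀ y ∈ S, ∀ y' ∈ S, σ y = σ y' → y = y' := by
      intro y hy y' hy' e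
      have h1 := (hσ y hy).2.1
      rw [e, ← (hσ y' hy').2.1] at h1
      have hlt : ∀ z ∈ S, z < 16 := fun z hz => (P.mem_DL_lt (by rwa [hS, List.mem_toFinset] at hz)).1
      exact P.F.el_inj _ (hlt y hy) _ (hlt y' hy') (mul_left_cancel (mul_right_cancel h1))
    have h01 : (S.filter fun y => P.Reach y).card ≤ (S.filter fun y => ¬ P.Reach y).card :=
      Finset.card_le_card_of_injOn σ (fun y hy => by
        simp only [Finset.coe_filter, Set.mem_ofPred_eq] at hy ⊢
        exact ⟨(hσ y hy.1).1, fun h => (hσ y hy.1).2.2.1 h hy.2⟩) (fun a ha b hb => by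
        simp only [Finset.coe_filter, Set.mem_ofPred_eq] at ha hb
        exact hinj a ha.1 b hb.1)
    have h10 : (S.filter fun y => ¬ P.Reach y).card ≤ (S.filter fun y => P.Reach y).card :=
      Finset.card_le_card_of_injOn σ (fun y hy => by
        simp only [Finset.coe_filter, Set.mem_ofPred_eq] at hy ⊢
        exact ⟨(hσ y hy.1).1, (hσ y hy.1).2.2.2 hy.2⟩) (fun a ha b hb => by
        simp only [Finset.coe_filter, Set.mem_ofPred_eq] at ha hb
        exact hinj a ha.1 b hb.1)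
    have := Finset.card_filter_add_card_filter_not (s := S) (fun y => P.Reach y)
    omega
  · left
    push Not at hex
    refine List.filter_congr fun y hy => ?_
    simp only [decide_eq_decide]
    refine ⟨fun ⟨g, _, _, e⟩ => isConj_iff.2 ⟨g, e⟩, fun h => ?_⟩
    obtain ⟨c, hc⟩ := isConj_iff.1 h
    obtain ⟨g, -, hg, e⟩ := P.burnside (M := ⊤) le_top
      (P.el_central ((show ∀ y ∈ reps, y ∈ [0, 1, 6, 7, 8, 9, 14, 15] by decide) y hy)) (mem_top c) hc
    exact ⟨g, hex g hg, hg, e⟩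

theorem not_killB : killB P.DL P.RL = false := by
  rw [Bool.eq_false_iff]
  intro h
  have get : ∀ y ∈ P.RL, ∃ f ∈ cands P.DL P.RL y, P.F.Real f := by
    intro y hy
    obtain ⟨hr, g, hg, hgT, e⟩ := P.mem_RL.1 hy
    exact ⟨_, P.code_mem_cands hg hgT ((show ∀ y ∈ reps, y < 16 by decide) y hr) e, g, hg, rfl⟩
  simp only [killB, Bool.or_eq_true, List.any_eq_true, List.all_eq_true] at h
  rcases h with ⟨y, hy, h⟩ | ⟨y, hy, y', hy', h⟩
  · obtain ⟨f, hf, hR⟩ := get y hy
    simpa [P.not_badW (fs := [f]) (by simpa using hR)] using h f hf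
  · obtain ⟨f, hf, hR⟩ := get y hy
    obtain ⟨f', hf', hR'⟩ := get y' hy'
    simpa [P.not_badW (fs := [f, f']) (by simpa using ⟨hR, hR'⟩)] using h f hf f' hf'

theorem swap_killB : killB (P.DL.map sw) (P.RL.map sw) = false := by
  have h := P.swap.not_killB
  have hR : ∀ y, y ∈ P.swap.RL ↔ y ∈ P.RL.map sw := by
    intro y
    have hsw : ∀ r ∈ reps, sw r ∈ reps ∧ sw (sw r) = r := by decide
    constructor
    · intro hy
      have hr := (P.swap.mem_RL.1 hy).1
      exact List.mem_map.2 ⟨sw y, (P.swap_RL y hr).1 hy, (hsw y hr).2⟩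
    · intro hy
      obtain ⟨r, hr, rfl⟩ := List.mem_map.1 hy
      have hr' := (P.mem_RL.1 hr).1
      rw [P.swap_RL _ (hsw r hr').1, (hsw r hr').2]
      exact hr
  have hmR : ∀ y, mask P.swap.RL y = mask (P.RL.map sw) y := by
    intro y
    have hc : P.swap.RL.contains (rep y) = (P.RL.map sw).contains (rep y) := by
      rw [Bool.eq_iff_iff, List.contains_iff_mem, List.contains_iff_mem, hR]
    rw [mask, mask, hc]
  have hc : ∀ y, cands P.swap.DL P.swap.RL y = cands (P.DL.map sw) (P.RL.map sw) y := by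
    intro y
    unfold cands
    congr 1
    funext f
    simp only [validB, P.mask_swap, hmR]
  have hany : ∀ p : ℕ → Bool, P.swap.RL.any p = (P.RL.map sw).any p := by
    intro p
    rw [Bool.eq_iff_iff, List.any_eq_true, List.any_eq_true]
    exact exists_congr fun y => and_congr_left' (hR y)
  simp only [killB, hc, hany] at h ⊢
  exact h

theorem flip_DL (h : P.DL = [7, 9, 15]) : P.flip.DL = [7, 8, 14] := by
  classical
  have e : P.flip.DL = reps.filter fun y => P.DL.contains (ev cFlip y) := by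
    refine List.filter_congr fun y hy => ?_
    rw [Bool.eq_iff_iff, decide_eq_true_iff, List.contains_iff_mem, P.mem_DL]
    refine ⟨fun hc => ⟨(show ∀ y ∈ reps, ev cFlip y ∈ reps by decide +kernel) y hy, ?_⟩, fun hc => hc.2⟩
    exact hc
  rw [e, h]
  decide +kernel

include P in
/-- the remaining patterns, up to the change of coordinates -/
theorem alive_cases : (∃ H : Subgroup G, H.index = 2) ∨ ∃ Q : Pair t, (Q.DL, Q.RL) ∈ alive := by
  rcases P.sylow_pattern with h | h
  · exact Or.inl h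
  right
  have main : ∀ Q : Pair t, Q.DL ∈ hard → Q.DL ≠ [7, 9, 15] → (Q.DL, Q.RL) ∈ alive := by
    intro Q hQ hne
    rcases kill_table _ hQ hne _ Q.RL_mem_sublists (by
      rw [List.all_eq_true]
      intro y hy
      rw [List.contains_iff_mem]
      exact Q.RL_sub hy) (Q.RL_cases.imp id And.right) with h | h | h
    · exact absurd h (by rw [Q.not_killB]; decide)
    · exact absurd h (by rw [Q.swap_killB]; decide)
    · exact h
  by_cases hD : P.DL = [7, 9, 15]
  · have hf := P.flip_DL hD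
    exact ⟨P.flip, main P.flip (by rw [hf]; decide) (by rw [hf]; decide)⟩
  · exact ⟨P, main P h hD⟩

end Pair

end Cfsg.Lib.TwoTimesSym
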