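import Cfsg.Agent.TwoTimesSym.Facts

/-!
Normal forms in the group of order `64` generated by two commuting cyclic groups of order four, an
inverting involution and an exchanging one.
-/

set_option autoImplicit false
set_option linter.unusedSectionVars false
set_option linter.style.haveILetI false

namespace Cfsg.Lib.TwoTimesSym

open Subgroup

variable {G : Type*} [Group G]

/-- the product in normal form `r^i s^j t^u p^v` -/
def qmul (a b : ℕ) : ℕ :=
  let i1 := if a / 32 % 2 = 1 then b / 4 % 4 else b % 4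
  let j1 := if a / 32 % 2 = 1 then b % 4 else b / 4 % 4
  let i2 := if a / 16 % 2 = 1 then 3 * i1 else i1
  let j2 := if a / 16 % 2 = 1 then 3 * j1 else j1
  (a % 4 + i2) % 4 + 4 * ((a / 4 % 4 + j2) % 4) + 16 * ((a / 16 % 2 + b / 16 % 2) % 2) +
    32 * ((a / 32 % 2 + b / 32 % 2) % 2)

/-- the code of a normal form -/
def qcode (k : ℕ) : ℕ :=
  comp (comp (if k % 2 = 1 then 11915 else cId) (if k / 4 % 2 = 1 then 18669 else cId))
    (if k / 32 % 2 = 1 then cPi else cId)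

/-- the element of `T` with a normal form having even exponents -/
def qval (k : ℕ) : ℕ :=
  tmul (((if k % 4 = 2 then 10 else 0) ^^^ (if k / 4 % 4 = 2 then 12 else 0)) ^^^ (k / 16 % 2)) (16 * (k / 32 % 2))

/-- even exponents -/
def qEven (k : ℕ) : Bool := k % 2 == 0 && k / 4 % 2 == 0

/-- an odd translation with `t` -/
def qTrans (k : ℕ) : Bool := k / 16 % 2 == 1 && k / 32 % 2 == 0 && !qEven k

/-- the conjugates of `t` among normal forms -/
def qD (k : ℕ) : Bool :=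
  qTrans k || (List.range 64).any fun m => (List.range 64).any fun m' => qmul m m' == 0 &&
    (let k' := qmul (qmul m k) m'; qEven k' && maskT [7, 8, 14] (qval k'))

set_option maxRecDepth 20000 in
theorem qtable : ∀ k < 64, qD k = true ∨ qmul k k ≠ 0 ∨ ∃ m < 64, ∃ m' < 64, qmul m m' = 0 ∧
    qEven (qmul (qmul m k) m') = true ∧ maskT [7, 8, 14] (qval (qmul (qmul m k) m')) = false := by
  decide +kernel

set_option maxRecDepth 20000 in
theorem qcount : ((List.range 64).filter qD).length = 20 := by decide +kernel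

theorem pow_two_cases {M : Type*} [Monoid M] (x : M) (n : ℕ) : x ^ (n % 2) = if n % 2 = 1 then x else 1 := by
  rcases Nat.mod_two_eq_zero_or_one n with h | h <;> simp [h]

theorem normal_form_mul {r s u v : G} (hr4 : r ^ 4 = 1) (hs4 : s ^ 4 = 1) (hu : u * u = 1) (hv : v * v = 1)
    (hrs : Commute r s) (huv : Commute u v) (hur : u * r * u⁻¹ = r⁻¹) (hus : u * s * u⁻¹ = s⁻¹)
    (hvr : v * r * v⁻¹ = s) (hvs : v * s * v⁻¹ = r) (a b : ℕ) :
    r ^ (qmul a b % 4) * s ^ (qmul a b / 4 % 4) * u ^ (qmul a b / 16 % 2) * v ^ (qmul a b / 32 % 2) =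
      r ^ (a % 4) * s ^ (a / 4 % 4) * u ^ (a / 16 % 2) * v ^ (a / 32 % 2) *
        (r ^ (b % 4) * s ^ (b / 4 % 4) * u ^ (b / 16 % 2) * v ^ (b / 32 % 2)) := by
  have hinv : ∀ x : G, x ^ 4 = 1 → ∀ n : ℕ, (x⁻¹) ^ n = x ^ (3 * n) := by
    intro x hx n
    rw [pow_mul]
    congr 1
    exact inv_eq_of_mul_eq_one_right (by rw [← pow_succ', hx])
  have hv1 : ∀ i j : ℕ, v * (r ^ i * s ^ j) = r ^ j * s ^ i * v := by
    intro i j
    have e1 : v * r ^ i * v⁻¹ = s ^ i := by rw [← conj_pow, hvr]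
    have e2 : v * s ^ j * v⁻¹ = r ^ j := by rw [← conj_pow, hvs]
    calc v * (r ^ i * s ^ j) = (v * r ^ i * v⁻¹) * (v * s ^ j * v⁻¹) * v := by group
      _ = s ^ i * r ^ j * v := by rw [e1, e2]
      _ = _ := by rw [(hrs.pow_pow j i).symm.eq]
  have hu1 : ∀ i j : ℕ, u * (r ^ i * s ^ j) = r ^ (3 * i) * s ^ (3 * j) * u := by
    intro i j
    have e1 : u * r ^ i * u⁻¹ = r ^ (3 * i) := by rw [← conj_pow, hur, hinv r hr4]
    have e2 : u * s ^ j * u⁻¹ = s ^ (3 * j) := by rw [← conj_pow, hus, hinv s hs4]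
    calc u * (r ^ i * s ^ j) = (u * r ^ i * u⁻¹) * (u * s ^ j * u⁻¹) * u := by group
      _ = _ := by rw [e1, e2]
  have hv2 : ∀ w i j : ℕ, v ^ (w % 2) * (r ^ i * s ^ j) =
      r ^ (if w % 2 = 1 then j else i) * s ^ (if w % 2 = 1 then i else j) * v ^ (w % 2) := by
    intro w i j
    rcases Nat.mod_two_eq_zero_or_one w with e | e <;> rw [e]
    · simp
    · rw [if_pos rfl, if_pos rfl, pow_one, hv1]
  have hu2 : ∀ w i j : ℕ, u ^ (w % 2) * (r ^ i * s ^ j) =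
      r ^ (if w % 2 = 1 then 3 * i else i) * s ^ (if w % 2 = 1 then 3 * j else j) * u ^ (w % 2) := by
    intro w i j
    rcases Nat.mod_two_eq_zero_or_one w with e | e <;> rw [e]
    · simp
    · rw [if_pos rfl, if_pos rfl, pow_one, hu1]
  have hmod2 : ∀ x : G, x * x = 1 → ∀ n : ℕ, x ^ (n % 2) = x ^ n := fun x hx n =>
    (pow_eq_pow_mod n (by rw [pow_two, hx])).symm
  have hmod4 : ∀ x : G, x ^ 4 = 1 → ∀ n : ℕ, x ^ (n % 4) = x ^ n := fun x hx n =>
    (pow_eq_pow_mod n hx).symm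
  set i1 := if a / 32 % 2 = 1 then b / 4 % 4 else b % 4
  set j1 := if a / 32 % 2 = 1 then b % 4 else b / 4 % 4
  set i2 := if a / 16 % 2 = 1 then 3 * i1 else i1
  set j2 := if a / 16 % 2 = 1 then 3 * j1 else j1
  have hq : qmul a b % 4 = (a % 4 + i2) % 4 ∧ qmul a b / 4 % 4 = (a / 4 % 4 + j2) % 4 ∧
      qmul a b / 16 % 2 = (a / 16 % 2 + b / 16 % 2) % 2 ∧
      qmul a b / 32 % 2 = (a / 32 % 2 + b / 32 % 2) % 2 := by
    have e : qmul a b = (a % 4 + i2) % 4 + 4 * ((a / 4 % 4 + j2) % 4) + 16 * ((a / 16 % 2 + b / 16 % 2) % 2) +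
        32 * ((a / 32 % 2 + b / 32 % 2) % 2) := rfl
    omega
  rw [hq.1, hq.2.1, hq.2.2.1, hq.2.2.2, hmod4 r hr4, hmod4 s hs4, hmod2 u hu, hmod2 v hv, pow_add r, pow_add s,
    pow_add u, pow_add v]
  have hv3 : v ^ (a / 32 % 2) * (r ^ (b % 4) * s ^ (b / 4 % 4)) = r ^ i1 * s ^ j1 * v ^ (a / 32 % 2) :=
    hv2 _ _ _
  have hu3 : u ^ (a / 16 % 2) * (r ^ i1 * s ^ j1) = r ^ i2 * s ^ j2 * u ^ (a / 16 % 2) := hu2 _ _ _
  symm
  calc r ^ (a % 4) * s ^ (a / 4 % 4) * u ^ (a / 16 % 2) * v ^ (a / 32 % 2) *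
        (r ^ (b % 4) * s ^ (b / 4 % 4) * u ^ (b / 16 % 2) * v ^ (b / 32 % 2))
      = r ^ (a % 4) * s ^ (a / 4 % 4) * u ^ (a / 16 % 2) * (v ^ (a / 32 % 2) * (r ^ (b % 4) * s ^ (b / 4 % 4))) *
          (u ^ (b / 16 % 2) * v ^ (b / 32 % 2)) := by group
    _ = r ^ (a % 4) * s ^ (a / 4 % 4) * (u ^ (a / 16 % 2) * (r ^ i1 * s ^ j1)) *
          ((v ^ (a / 32 % 2) * u ^ (b / 16 % 2)) * v ^ (b / 32 % 2)) := by rw [hv3]; group
    _ = r ^ (a % 4) * (s ^ (a / 4 % 4) * r ^ i2) * s ^ j2 * u ^ (a / 16 % 2) *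
          ((u ^ (b / 16 % 2) * v ^ (a / 32 % 2)) * v ^ (b / 32 % 2)) := by
        rw [hu3, (huv.pow_pow (b / 16 % 2) (a / 32 % 2)).eq]; group
    _ = r ^ (a % 4) * (r ^ i2 * s ^ (a / 4 % 4)) * s ^ j2 * u ^ (a / 16 % 2) *
          ((u ^ (b / 16 % 2) * v ^ (a / 32 % 2)) * v ^ (b / 32 % 2)) := by
        rw [(hrs.pow_pow i2 (a / 4 % 4)).eq]
    _ = _ := by group

set_option maxRecDepth 20000 in
theorem qmul_inv : ∀ a < 64, ∃ b < 64, qmul a b = 0 := by decide +kernel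

set_option maxRecDepth 20000 in
theorem qmul_cancel : ∀ b' < 64, ∀ a < 64, ∀ c < 64, qmul a b' = 0 → qmul c b' = 0 → c = a := by decide +kernel

set_option maxRecDepth 20000 in
theorem qTrans_facts : ∀ k < 64, qTrans k = true →
    qmul k k = 0 ∧ qcode k ∈ [11915, 18669, 57927] := by decide +kernel

theorem qmul_lt (a b : ℕ) : qmul a b < 64 := by
  simp only [qmul]
  omega

theorem qval_lt (k : ℕ) : qval k < 32 := Pair.tmul_lt

end Cfsg.Lib.TwoTimesSym
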