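import Cfsg.Agent.TwoTimesSym.Local
import Cfsg.Agent.TwoTimesSym.QuadModel

/-!
Conjugates of `t` translating by two of the even vectors give a subgroup of order `64` with twenty
conjugates of `t`, on whose cosets `t` is odd.
-/

set_option autoImplicit false
set_option linter.unusedSectionVars false
set_option linter.style.haveILetI false

namespace Cfsg.Lib.TwoTimesSym

open Subgroup

variable {G : Type*} [Group G]

namespace Pair

variable {t : G} (P : Pair t) [Finite G]

set_option maxHeartbeats 1000000 in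
/-- Two translating conjugates of `t` give a subgroup of index two. -/
theorem quad (hD : P.DL = [7, 8, 14]) (h1 : P.nC 11915 ≠ 0) (h3 : P.nC 57927 ≠ 0)
    (h256 : 256 ∣ Nat.card G) : ∃ H : Subgroup G, H.index = 2 := by
  classical
  have pick : ∀ f, P.nC f ≠ 0 → ∃ d ∈ P.F.N, P.F.code d = f ∧ IsConj t d := by
    intro f hf
    rcases P.nC_cases f with h | ⟨d, W, hd, hdf, hdt, -⟩
    · exact absurd h hf
    · exact ⟨d, hd, hdf, hdt⟩
  have halfP : ∀ f, P.nC f ≠ 0 → (fixL f).length = 8 → (∀ x < 16, ev f x = x → mask [7, 8, 14] x = false) →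
      f ≠ cId → ∀ e ∈ P.F.N, P.F.code e = f → e * e = 1 → IsConj t e := by
    intro f hf ha hb hc
    rcases P.half hD ha hb hc with h | h
    · exact absurd h hf
    · exact h.2
  obtain ⟨x1, hx1, hc1, ht1⟩ := pick _ h1
  obtain ⟨x3, hx3, hc3, ht3⟩ := pick _ h3
  have hp := P.F.p_mem
  have hpp := P.F.p_sq
  set x2 := P.F.p * x1 * P.F.p⁻¹ with hx2def
  have hx2 : x2 ∈ P.F.N := mul_mem (mul_mem hp.1 hx1) (inv_mem hp.1)
  have hc2 : P.F.code x2 = 18669 := by
    rw [hx2def, inv_eq_of_mul_eq_one_right hpp, P.F.code_mul (mul_mem hp.1 hx1) hp.1, P.F.code_mul hp.1 hx1,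
      hp.2, hc1]
    decide +kernel
  have ht2' : IsConj t x2 := ht1.trans (isConj_iff.2 ⟨P.F.p, rfl⟩)
  have hs1 := P.sq_of_conj ht1
  have hs2 := P.sq_of_conj ht2'
  have hs3 := P.sq_of_conj ht3
  have htN : t ∈ P.F.N := P.F.A_le_N P.F.t_mem
  have htc : P.F.code t = cId := P.F.code_of_mem_A P.F.t_mem
  -- commutators with `t`
  have hxt : ∀ {x : G}, x ∈ P.F.N → x * x = 1 → ∀ {f y}, P.F.code x = f → ev f 1 = y →
      x * t = P.F.el y * x := by
    intro x hx _ f y hf hy
    have e := P.F.conj_el hx (show 1 < 16 by norm_num)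
    rw [hf, hy, P.F.el_one] at e
    exact mul_inv_eq_iff_eq_mul.1 e
  have k1 := hxt hx1 hs1 hc1 (show ev 11915 1 = 11 by decide +kernel)
  have k2 := hxt hx2 hs2 hc2 (show ev 18669 1 = 13 by decide +kernel)
  set r := t * x1 with hr
  set s := t * x2 with hs
  have hr2 : r * r = P.F.el 10 := by
    rw [hr, show t * x1 * (t * x1) = t * (x1 * t) * x1 by group, k1,
      show t * (P.F.el 11 * x1) * x1 = t * P.F.el 11 * (x1 * x1) by group, hs1, mul_one,
      show (10 : ℕ) = 1 ^^^ 11 from rfl, P.F.el_xor _ (by norm_num) _ (by norm_num), P.F.el_one]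
  have hsq2 : s * s = P.F.el 12 := by
    rw [hs, show t * x2 * (t * x2) = t * (x2 * t) * x2 by group, k2,
      show t * (P.F.el 13 * x2) * x2 = t * P.F.el 13 * (x2 * x2) by group, hs2, mul_one,
      show (12 : ℕ) = 1 ^^^ 13 from rfl, P.F.el_xor _ (by norm_num) _ (by norm_num), P.F.el_one]
  -- the product of the two translations
  have h12 : x1 * x2 ∈ P.F.N := mul_mem hx1 hx2
  have hc12 : P.F.code (x1 * x2) = 57927 := by
    rw [P.F.code_mul hx1 hx2, hc1, hc2]; decide +kernel
  have hz : x2 * x1 = P.F.el 6 * (x1 * x2) := by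
    obtain ⟨y, hy, hye⟩ := (P.F.code_eq_iff hx3 h12).1 (hc3.trans hc12.symm)
    have e : x1 * x2 = x3 * P.F.el y := by rw [hye]; group
    have e1 := P.F.conj_el hx3 hy
    rw [hc3, inv_eq_of_mul_eq_one_right hs3] at e1
    have hsqe : x1 * x2 * (x1 * x2) = P.F.el (ev 57927 y ^^^ y) := by
      rw [e, P.F.el_xor _ (Frame.ev_lt _ _) _ hy, ← e1]; group
    rcases (show ∀ y < 16, ev 57927 y ^^^ y = 0 ∨ ev 57927 y ^^^ y = 6 by decide +kernel) y hy with h0 | h6
    · exfalso
      rw [h0, P.F.el_zero] at hsqe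
      have hcm : Commute x1 x2 := by
        show x1 * x2 = x2 * x1
        calc x1 * x2 = (x1 * x2)⁻¹ := (inv_eq_of_mul_eq_one_right hsqe).symm
          _ = x2 * x1 := by rw [mul_inv_rev, inv_eq_of_mul_eq_one_right hs1, inv_eq_of_mul_eq_one_right hs2]
      exact P.product_rule hD ht1 ht2' hcm
        (halfP _ h3 (by decide +kernel) (by decide +kernel) (by decide +kernel) _ h12 hc12 hsqe)
    · rw [h6] at hsqe
      have hinv : (x1 * x2)⁻¹ = x2 * x1 := by
        rw [mul_inv_rev, inv_eq_of_mul_eq_one_right hs1, inv_eq_of_mul_eq_one_right hs2]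
      rw [← hinv]
      have h66 := P.F.el_sq (show 6 < 16 by norm_num)
      rw [← hsqe] at h66 ⊢
      refine inv_eq_of_mul_eq_one_right ?_
      calc x1 * x2 * (x1 * x2 * (x1 * x2) * (x1 * x2)) = x1 * x2 * (x1 * x2) * (x1 * x2 * (x1 * x2)) := by group
        _ = 1 := h66
  have hrs : Commute r s := by
    show r * s = s * r
    rw [hr, hs]
    calc t * x1 * (t * x2) = t * (x1 * t) * x2 := by group
      _ = (t * P.F.el 11) * (x1 * x2) := by rw [k1]; group
      _ = (t * P.F.el 13) * P.F.el 6 * (x1 * x2) := by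
        rw [show t * P.F.el 11 = t * P.F.el 13 * P.F.el 6 by
          rw [mul_assoc, ← P.F.el_xor _ (by norm_num) _ (by norm_num)]; rfl]
      _ = t * (P.F.el 13 * (x2 * x1)) := by rw [hz]; group
      _ = t * (x2 * t) * x1 := by rw [k2]; group
      _ = t * x2 * (t * x1) := by group
  have htt := P.ht2
  have hpt : Commute t P.F.p := by
    have e := P.F.p_el 1 (by norm_num)
    rw [show ev cPi 1 = 1 by decide +kernel, P.F.el_one] at e
    exact (mul_inv_eq_iff_eq_mul.1 e).symm
  have hur : t * r * t⁻¹ = r⁻¹ := by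
    rw [hr, mul_inv_rev, inv_eq_of_mul_eq_one_right hs1, inv_eq_of_mul_eq_one_right htt]
    calc t * (t * x1) * t = t * t * (x1 * t) := by group
      _ = _ := by rw [htt, one_mul]
  have hus : t * s * t⁻¹ = s⁻¹ := by
    rw [hs, mul_inv_rev, inv_eq_of_mul_eq_one_right hs2, inv_eq_of_mul_eq_one_right htt]
    calc t * (t * x2) * t = t * t * (x2 * t) := by group
      _ = _ := by rw [htt, one_mul]
  have hvr : P.F.p * r * P.F.p⁻¹ = s := by
    rw [hr, hs, hx2def]
    calc P.F.p * (t * x1) * P.F.p⁻¹ = (P.F.p * t) * x1 * P.F.p⁻¹ := by group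
      _ = _ := by rw [← hpt.eq]; group
  have hvs : P.F.p * s * P.F.p⁻¹ = r := by
    rw [← hvr, inv_eq_of_mul_eq_one_right hpp]
    calc P.F.p * (P.F.p * r * P.F.p) * P.F.p = (P.F.p * P.F.p) * r * (P.F.p * P.F.p) := by group
      _ = r := by rw [hpp, one_mul, mul_one]
  have hr4 : r ^ 4 = 1 := by
    rw [show r ^ 4 = r * r * (r * r) by simp [pow_succ, mul_assoc], hr2, P.F.el_sq (by norm_num)]
  have hs4 : s ^ 4 = 1 := by
    rw [show s ^ 4 = s * s * (s * s) by simp [pow_succ, mul_assoc], hsq2, P.F.el_sq (by norm_num)]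
  -- the normal forms
  let φ : ℕ → G := fun k => r ^ (k % 4) * s ^ (k / 4 % 4) * t ^ (k / 16 % 2) * P.F.p ^ (k / 32 % 2)
  have hmul : ∀ a b, φ (qmul a b) = φ a * φ b :=
    fun a b => normal_form_mul hr4 hs4 htt hpp hrs hpt hur hus hvr hvs a b
  have hlt : ∀ a b, qmul a b < 64 := qmul_lt
  have hφ0 : φ 0 = 1 := by simp [φ]
  have hrN : r ∈ P.F.N := mul_mem htN hx1
  have hsN : s ∈ P.F.N := mul_mem htN hx2
  have hN : ∀ k, φ k ∈ P.F.N := fun k =>
    mul_mem (mul_mem (mul_mem (pow_mem hrN _) (pow_mem hsN _)) (pow_mem htN _)) (pow_mem hp.1 _)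
  have hrc : P.F.code r = 11915 := by rw [hr, P.F.code_mul htN hx1, htc, hc1]; decide +kernel
  have hsc : P.F.code s = 18669 := by rw [hs, P.F.code_mul htN hx2, htc, hc2]; decide +kernel
  have hpc : ∀ (x : G) (f : ℕ), x ∈ P.F.N → P.F.code x = f → comp f f = cId → comp f cId = f → comp cId f = f →
      ∀ n, P.F.code (x ^ n) = if n % 2 = 1 then f else cId := by
    intro x f hx hf h2 hr' hl n
    induction n with
    | zero => simp [P.F.code_of_mem_A (one_mem _)]
    | succ n ih =>
      rw [pow_succ, P.F.code_mul (pow_mem hx n) hx, ih, hf]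
      rcases Nat.mod_two_eq_zero_or_one n with e | e
      · rw [if_neg (by omega), if_pos (by omega), hl]
      · rw [if_pos e, if_neg (by omega), h2]
  have hcode : ∀ k < 64, P.F.code (φ k) = qcode k := by
    intro k _
    have hcr := hpc r _ hrN hrc (by decide +kernel) (by decide +kernel) (by decide +kernel) (k % 4)
    have hcs := hpc s _ hsN hsc (by decide +kernel) (by decide +kernel) (by decide +kernel) (k / 4 % 4)
    have hct : P.F.code (t ^ (k / 16 % 2)) = cId := P.F.code_of_mem_A (pow_mem P.F.t_mem _)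
    have hcp := hpc _ _ hp.1 hp.2 (by decide +kernel) (by decide +kernel) (by decide +kernel) (k / 32 % 2)
    rw [show k % 4 % 2 = k % 2 by omega] at hcr
    rw [show k / 4 % 4 % 2 = k / 4 % 2 by omega] at hcs
    rw [show k / 32 % 2 % 2 = k / 32 % 2 by omega] at hcp
    show P.F.code (r ^ (k % 4) * s ^ (k / 4 % 4) * t ^ (k / 16 % 2) * P.F.p ^ (k / 32 % 2)) = _
    rw [P.F.code_mul (mul_mem (mul_mem (pow_mem hrN _) (pow_mem hsN _)) (pow_mem htN _)) (pow_mem hp.1 _),
      P.F.code_mul (mul_mem (pow_mem hrN _) (pow_mem hsN _)) (pow_mem htN _),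
      P.F.code_mul (pow_mem hrN _) (pow_mem hsN _), hcr, hcs, hct, hcp, qcode]
    congr 1
    exact (show ∀ a ∈ [11915, cId], ∀ b ∈ [18669, cId], comp (comp a b) cId = comp a b by decide +kernel)
      _ (by split <;> simp) _ (by split <;> simp)
  have hval : ∀ k, qEven k = true → φ k = P.emb (qval k) := by
    intro k hk
    simp only [qEven, Bool.and_eq_true, beq_iff_eq] at hk
    have hrp : r ^ (k % 4) = P.F.el (if k % 4 = 2 then 10 else 0) := by
      rcases (show k % 4 = 0 ∨ k % 4 = 2 by omega) with e | e <;> rw [e]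
      · simp [P.F.el_zero]
      · rw [if_pos rfl, pow_two, hr2]
    have hsp : s ^ (k / 4 % 4) = P.F.el (if k / 4 % 4 = 2 then 12 else 0) := by
      rcases (show k / 4 % 4 = 0 ∨ k / 4 % 4 = 2 by omega) with e | e <;> rw [e]
      · simp [P.F.el_zero]
      · rw [if_pos rfl, pow_two, hsq2]
    have htp : t ^ (k / 16 % 2) = P.F.el (k / 16 % 2) := by
      rcases Nat.mod_two_eq_zero_or_one (k / 16) with e | e <;> rw [e]
      · simp [P.F.el_zero]
      · rw [pow_one, P.F.el_one]
    have hpp' : P.F.p ^ (k / 32 % 2) = P.emb (16 * (k / 32 % 2)) := by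
      rcases Nat.mod_two_eq_zero_or_one (k / 32) with e | e <;> rw [e]
      · simp [P.emb_zero]
      · rw [pow_one, P.emb_16]
    have ha : (if k % 4 = 2 then 10 else 0) < 16 := by split <;> omega
    have hb : (if k / 4 % 4 = 2 then 12 else 0) < 16 := by split <;> omega
    have hu : k / 16 % 2 < 16 := by omega
    show r ^ (k % 4) * s ^ (k / 4 % 4) * t ^ (k / 16 % 2) * P.F.p ^ (k / 32 % 2) = _
    rw [hrp, hsp, htp, hpp', ← P.F.el_xor _ ha _ hb, ← P.F.el_xor _ (Frame.xor_lt ha hb) _ hu,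
      qval, P.emb_mul, P.emb_lt (Frame.xor_lt (Frame.xor_lt ha hb) hu)]
  let L : Subgroup G :=
    { carrier := {g | ∃ k < 64, φ k = g}
      one_mem' := ⟨0, by norm_num, hφ0⟩
      mul_mem' := by
        rintro _ _ ⟨a, -, rfl⟩ ⟨b, -, rfl⟩
        exact ⟨_, hlt a b, hmul a b⟩
      inv_mem' := by
        rintro _ ⟨a, ha, rfl⟩
        obtain ⟨b, hb, e⟩ := qmul_inv a ha
        exact ⟨b, hb, (inv_eq_of_mul_eq_one_right (by rw [← hmul, e, hφ0])).symm⟩ }
  have hker : ∀ k < 64, φ k = 1 → k = 0 := by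
    intro k hk e
    have hk' := (show ∀ k < 64, qcode k = cId → qEven k = true by decide +kernel) k hk
      ((hcode k hk).symm.trans (by rw [e, P.F.code_of_mem_A (one_mem _)]))
    rw [hval k hk', ← P.emb_zero] at e
    exact (show ∀ k < 64, qEven k = true → qval k = 0 → k = 0 by decide +kernel) k hk hk'
      (P.emb_inj tmul_lt (by norm_num) e)
  have hinj : ∀ a < 64, ∀ b < 64, φ a = φ b → a = b := by
    intro a ha b hb e
    obtain ⟨b', hb', e'⟩ := qmul_inv b hb
    have h0 := hker _ (hlt a b') (by rw [hmul, e, ← hmul, e', hφ0])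
    have hu : ∀ b < 64, qmul b b' = 0 → b = a := by
      intro c hc ec
      exact qmul_cancel b' hb' a ha c hc h0 ec
    exact (hu b hb e').symm
  have hbij : Function.Bijective (fun k : Fin 64 => (⟨φ k, k, k.2, rfl⟩ : L)) :=
    ⟨fun a b e => Fin.ext (hinj _ a.2 _ b.2 (congrArg Subtype.val e)),
      fun g => by obtain ⟨k, hk, e⟩ := g.2; exact ⟨⟨k, hk⟩, Subtype.ext e⟩⟩
  let eL := Equiv.ofBijective _ hbij
  have hcard : Nat.card L = 64 := by rw [← Nat.card_congr eL, Nat.card_fin]
  have hconj : ∀ m m' k, qmul m m' = 0 → φ (qmul (qmul m k) m') = φ m * φ k * (φ m)⁻¹ := by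
    intro m m' k e
    rw [hmul, hmul, inv_eq_of_mul_eq_one_right (a := φ m) (b := φ m') (by rw [← hmul, e, hφ0])]
  have hDiff : ∀ k < 64, IsConj t (φ k) ↔ qD k = true := by
    intro k hk
    constructor
    · intro hc
      rcases qtable k hk with h | h | ⟨m, -, m', -, e, he, hm⟩
      · exact h
      · exact absurd (hker _ (hlt k k) (by rw [hmul, P.sq_of_conj hc])) h
      · have h2 : IsConj t (φ (qmul (qmul m k) m')) := by
          rw [hconj m m' k e]; exact hc.trans (isConj_iff.2 ⟨_, rfl⟩)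
        rw [hval _ he, P.conj_emb_iff (qval_lt _), hD, hm] at h2
        exact absurd h2 Bool.false_ne_true
    · intro h
      rw [qD, Bool.or_eq_true] at h
      rcases h with h | h
      · have hh := qTrans_facts k hk h
        have hee : φ k * φ k = 1 := by rw [← hmul, hh.1, hφ0]
        have h2 : P.nC 18669 ≠ 0 := by
          intro h0
          haveI : IsEmpty {d : G // d ∈ P.F.N ∧ P.F.code d = 18669 ∧ IsConj t d} :=
            (Finite.card_eq_zero_iff).1 h0
          exact IsEmpty.false (α := {d : G // d ∈ P.F.N ∧ P.F.code d = 18669 ∧ IsConj t d}) ⟨x2, hx2, hc2, ht2'⟩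
        have hall : ∀ f ∈ [11915, 18669, 57927], P.nC f ≠ 0 ∧ (fixL f).length = 8 ∧
            (∀ x < 16, ev f x = x → mask [7, 8, 14] x = false) ∧ f ≠ cId := by
          intro f hf
          simp only [List.mem_cons, List.not_mem_nil, or_false] at hf
          rcases hf with rfl | rfl | rfl
          · exact ⟨h1, by decide +kernel⟩
          · exact ⟨h2, by decide +kernel⟩
          · exact ⟨h3, by decide +kernel⟩
        obtain ⟨g1, g2, g3, g4⟩ := hall _ hh.2
        exact halfP _ g1 g2 g3 g4 _ (hN k) (hcode k hk) hee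
      · simp only [List.any_eq_true, Bool.and_eq_true, beq_iff_eq] at h
        obtain ⟨m, -, m', -, e, he, hm⟩ := h
        have h2 : IsConj t (φ (qmul (qmul m k) m')) := by
          rw [hval _ he, P.conj_emb_iff (qval_lt _), hD]; exact hm
        rw [hconj m m' k e] at h2
        exact h2.trans (isConj_iff.2 ⟨(φ m)⁻¹, by simp [mul_assoc]⟩)
  have hcount : conjCount t L = 20 := by
    rw [← qcount, conjCount]
    have e1 : {k : Fin 64 // qD k = true} ≃ {d : L // IsConj t (d : G)} :=
      Equiv.subtypeEquiv eL fun k => (hDiff k k.2).symm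
    rw [← Nat.card_congr e1, ← List.toFinset_card_of_nodup (List.nodup_range.filter _),
      ← Nat.card_eq_finsetCard]
    exact Nat.card_congr
      { toFun := fun k => ⟨k.1, List.mem_toFinset.2 (List.mem_filter.2 ⟨List.mem_range.2 k.1.2, k.2⟩)⟩
        invFun := fun k => ⟨⟨k.1, List.mem_range.1 (List.mem_filter.1 (List.mem_toFinset.1 k.2)).1⟩,
          (List.mem_filter.1 (List.mem_toFinset.1 k.2)).2⟩
        left_inv := fun k => rfl
        right_inv := fun k => rfl }
  obtain ⟨c, hc, hC⟩ := P.hcard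
  have hfix := fixCount_mul t L
  rw [hcard, hC, hcount] at hfix
  have hidx : 4 ∣ L.index := by
    have e := L.index_mul_card
    rw [hcard] at e
    obtain ⟨m, hm⟩ := h256
    exact ⟨m, by omega⟩
  refine exists_index_two_of_sign P.ht2 L (f := 10 * c) (by omega) ?_
  rw [Nat.odd_iff] at hc
  obtain ⟨m, hm⟩ := hidx
  omega

end Pair

end Cfsg.Lib.TwoTimesSym
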