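import Cfsg.Agent.TwoTimesSym.Patterns
import Cfsg.Agent.TwoTimesSym.Fibre
import Cfsg.Agent.TwoTimesSym.Lists

/-!
The action of the normaliser of a frame in the surviving patterns, and the first exclusions.
-/

set_option autoImplicit false
set_option linter.unusedSectionVars false
set_option linter.style.haveILetI false

namespace Cfsg.Lib.TwoTimesSym

open Subgroup

variable {G : Type*} [Group G]

/-- all elements of the list are products of the generators -/
def genB (l gens : List ℕ) : Bool :=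
  let g := grow gens 6
  l.all fun x => g.contains x

set_option maxRecDepth 20000 in
theorem half_table : ∀ f ∈ cands [7] [7] 7, badW [f] = true ∨
    genB xHalf [f, cPi, cRho] = true ∨ genB xTwist [f, cPi, cRho] = true := by
  decide +kernel

set_option maxRecDepth 20000 in
theorem full_table : ∀ f ∈ cands [7, 8, 14] [7, 8, 14] 14, ∀ f' ∈ cands [7, 8, 14] [7, 8, 14] 8,
    badW [f] = true ∨ badW [f, f'] = true ∨
      genB xFull [f, f', cPi, cRho] = true ∨ genB xFour [f, f', cPi, cRho] = true := by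
  decide +kernel

namespace Pair

variable {t : G} (P : Pair t) [Finite G]

/-- the normaliser of the first frame has exactly the given codes -/
structure IsRange (l : List ℕ) : Prop where
  mem : ∀ g ∈ P.F.N, P.F.code g ∈ l
  real : ∀ f ∈ l, P.F.Real f

theorem real_of_genB {l gens : List ℕ} (hg : ∀ f ∈ gens, P.F.Real f) (h : genB l gens = true) :
    ∀ f ∈ l, P.F.Real f := by
  intro f hf
  rw [genB, List.all_eq_true] at h
  exact P.F.real_grow hg 6 f (List.contains_iff_mem.1 (h f hf))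

theorem isRange_of_cover {l : List ℕ} (hl : ∀ f ∈ l, P.F.Real f) (hc : closedB l = true)
    (hS : (cS3.all fun s => l.contains s) = true)
    (hcov : ((List.range 16).all fun x => !mask P.RL x || l.any fun c => ev c 1 == x) = true) :
    P.IsRange l := by
  refine ⟨fun g hg => ?_, hl⟩
  obtain ⟨hlt, hsp⟩ := P.F.act_spec hg (show 1 < 16 by norm_num)
  have hm : mask P.RL (P.F.act g 1) = true := (P.orbit_iff hlt).1 ⟨g, hg, by
    rw [← hsp, P.F.el_one]⟩
  have h := List.all_eq_true.1 hcov _ (List.mem_range.2 hlt)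
  rw [hm, Bool.not_true, Bool.false_or, List.any_eq_true] at h
  obtain ⟨c, hc', he⟩ := h
  rw [beq_iff_eq] at he
  obtain ⟨k, hk, rfl⟩ := hl c hc'
  have hk1 : P.F.act k 1 = P.F.act g 1 := by rw [← P.F.ev_code hk (by norm_num), he]
  have hfix : ev (P.F.code (k⁻¹ * g)) 1 = 1 := by
    rw [P.F.ev_code (mul_mem (inv_mem hk) hg) (by norm_num)]
    refine P.F.act_eq (by norm_num) ?_
    calc k⁻¹ * g * P.F.el 1 * (k⁻¹ * g)⁻¹ = k⁻¹ * (g * P.F.el 1 * g⁻¹) * k := by group
      _ = _ := by rw [hsp, ← hk1, ← (P.F.act_spec hk (by norm_num)).2]; group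
  have hs := P.F.stab_code (mul_mem (inv_mem hk) hg) hfix
  have e : P.F.code g = comp (P.F.code k) (P.F.code (k⁻¹ * g)) := by
    rw [← P.F.code_mul hk (mul_mem (inv_mem hk) hg), mul_inv_cancel_left]
  rw [e]
  exact mem_of_closed hc hc' (List.contains_iff_mem.1 (List.all_eq_true.1 hS _ hs))

theorem exists_cand {y : ℕ} (hy : y ∈ P.RL) : ∃ f ∈ cands P.DL P.RL y, P.F.Real f := by
  obtain ⟨hr, g, hg, hgT, e⟩ := P.mem_RL.1 hy
  exact ⟨_, P.code_mem_cands hg hgT ((show ∀ y ∈ reps, y < 16 by decide) y hr) e, g, hg, rfl⟩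

theorem range_seven (hD : P.DL = [7]) (hR : P.RL = [7]) : P.IsRange xHalf ∨ P.IsRange xTwist := by
  obtain ⟨f, hf, hfR⟩ := P.exists_cand (y := 7) (by simp [hR])
  rw [hD, hR] at hf
  have hreal : ∀ a ∈ [f, cPi, cRho], P.F.Real a := by
    intro a ha
    simp only [List.mem_cons, List.not_mem_nil, or_false] at ha
    rcases ha with rfl | rfl | rfl
    exacts [hfR, P.F.real_pi, P.F.real_rho]
  rcases half_table f hf with h | h | h
  · exact absurd h (by rw [P.not_badW (fs := [f]) (by simpa using hfR)]; decide)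
  · exact Or.inl (P.isRange_of_cover (P.real_of_genB hreal h) (by decide +kernel) (by decide +kernel)
      (by rw [hR]; decide +kernel))
  · exact Or.inr (P.isRange_of_cover (P.real_of_genB hreal h) (by decide +kernel) (by decide +kernel)
      (by rw [hR]; decide +kernel))

theorem range_full (hD : P.DL = [7, 8, 14]) (hR : P.RL = [7, 8, 14]) :
    P.IsRange xFull ∨ P.IsRange xFour := by
  obtain ⟨f, hf, hfR⟩ := P.exists_cand (y := 14) (by simp [hR])
  obtain ⟨f', hf', hfR'⟩ := P.exists_cand (y := 8) (by simp [hR])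
  rw [hD, hR] at hf hf'
  have hreal : ∀ a ∈ [f, f', cPi, cRho], P.F.Real a := by
    intro a ha
    simp only [List.mem_cons, List.not_mem_nil, or_false] at ha
    rcases ha with rfl | rfl | rfl | rfl
    exacts [hfR, hfR', P.F.real_pi, P.F.real_rho]
  rcases full_table f hf f' hf' with h | h | h | h
  · exact absurd h (by rw [P.not_badW (fs := [f]) (by simpa using hfR)]; decide)
  · exact absurd h (by rw [P.not_badW (fs := [f, f']) (by simpa using ⟨hfR, hfR'⟩)]; decide)
  · exact Or.inl (P.isRange_of_cover (P.real_of_genB hreal h) (by decide +kernel) (by decide +kernel)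
      (by rw [hR]; decide +kernel))
  · exact Or.inr (P.isRange_of_cover (P.real_of_genB hreal h) (by decide +kernel) (by decide +kernel)
      (by rw [hR]; decide +kernel))

theorem swap_DL_eq (hD : P.DL = [7] ∨ P.DL = [7, 8, 14]) : P.swap.DL = P.DL := by
  classical
  refine List.filter_congr fun y hy => ?_
  rw [decide_eq_decide]
  have h := P.mask_swap y
  have hy' : y < 16 := (show ∀ y ∈ reps, y < 16 by decide) y hy
  rw [P.swap.conj_el_iff hy', P.conj_el_iff hy', h]
  rcases hD with e | e <;> rw [e] <;>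
    exact Bool.eq_iff_iff.1 ((show ∀ y ∈ reps, mask (([7, 8, 14] : List ℕ).map sw) y = mask [7, 8, 14] y ∧
      mask (([7] : List ℕ).map sw) y = mask [7] y by decide +kernel) y hy |> fun h => by first | exact h.1 | exact h.2)

theorem swap_RL_eq : P.swap.RL = reps.filter fun y => P.RL.contains (sw y) := by
  classical
  refine List.filter_congr fun y hy => ?_
  rw [Bool.eq_iff_iff, decide_eq_true_iff, List.contains_iff_mem]
  have h := P.swap_RL y hy
  rw [P.swap.mem_RL] at h
  exact ⟨fun hc => h.1 ⟨hy, hc⟩, fun hm => (h.2 hm).2⟩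

theorem swap_N_conj {g : G} (hg : g ∈ P.NT) (hgN : g ∉ P.F.N) {h : G} (hh : h ∈ P.F.N) :
    g * h * g⁻¹ ∈ P.F'.N := by
  refine mem_normalizer_iff.2 fun z => ?_
  have hx := P.conj_exch hg hgN
  have e1 : z = g * (g⁻¹ * z * g) * g⁻¹ := by group
  have e2 : g * h * g⁻¹ * z * (g * h * g⁻¹)⁻¹ = g * (h * (g⁻¹ * z * g) * h⁻¹) * g⁻¹ := by group
  show z ∈ P.F'.A ↔ g * h * g⁻¹ * z * (g * h * g⁻¹)⁻¹ ∈ P.F'.A
  rw [e2, hx, P.mem_N_iff.1 hh]
  conv_lhs => rw [e1, hx]

/-- an element exchanging the frames cannot exchange `t` with a reached companion -/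
theorem no_swap {g : G} (hg : g ∈ P.NT) (hgN : g ∉ P.F.N) (h1 : g * t * g⁻¹ = P.F.el 8) :
    g * P.F.el 8 * g⁻¹ ≠ t := by
  intro h2
  -- the rotation of the second frame fixes both
  have hr := P.F'.r_mem
  have hg' : g ∈ P.swap.NT := P.NT_swap ▸ hg
  have hgN' : g ∉ P.swap.F.N := fun h => hgN ((P.mem_N_iff' hg).2 h)
  have hw : g * P.F'.r * g⁻¹ ∈ P.F.N := P.swap.swap_N_conj hg' hgN' hr.1
  set w := g * P.F'.r * g⁻¹ with hwdef
  have hf1 : P.F'.r * t * P.F'.r⁻¹ = t := by
    have h := P.F'.r_el 1 (by norm_num)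
    rwa [show ev cRho 1 = 1 by decide +kernel, P.F'.el_one] at h
  have hf2 : P.F'.r * P.F.el 8 * P.F'.r⁻¹ = P.F.el 8 := by
    have h := P.F'.r_el 14 (by norm_num)
    rwa [show ev cRho 14 = 14 by decide +kernel, P.l14] at h
  have hw1 : ev (P.F.code w) 1 = 1 := by
    rw [P.F.ev_code hw (by norm_num)]
    refine P.F.act_eq (by norm_num) ?_
    rw [P.F.el_one]
    calc w * t * w⁻¹ = w * (g * P.F.el 8 * g⁻¹) * w⁻¹ := by rw [h2]
      _ = g * (P.F'.r * P.F.el 8 * P.F'.r⁻¹) * g⁻¹ := by rw [hwdef]; group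
      _ = t := by rw [hf2, h2]
  have hw8 : ev (P.F.code w) 8 = 8 := by
    rw [P.F.ev_code hw (by norm_num)]
    refine P.F.act_eq (by norm_num) ?_
    calc w * P.F.el 8 * w⁻¹ = w * (g * t * g⁻¹) * w⁻¹ := by rw [h1]
      _ = g * (P.F'.r * t * P.F'.r⁻¹) * g⁻¹ := by rw [hwdef]; group
      _ = P.F.el 8 := by rw [hf1, h1]
  have hsq : comp (P.F.code w) (P.F.code w) = cId :=
    (show ∀ s ∈ cS3, ev s 8 = 8 → comp s s = cId by decide +kernel) _ (P.F.stab_code hw hw1) hw8
  rw [← P.F.code_mul hw hw, P.F.code_eq_id_iff (mul_mem hw hw), hwdef,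
    show g * P.F'.r * g⁻¹ * (g * P.F'.r * g⁻¹) = g * (P.F'.r * P.F'.r) * g⁻¹ by group] at hsq
  have hrr : P.F'.r * P.F'.r ∈ P.F'.A := (P.swap.conj_exch hg' hgN' _).1 hsq
  have := P.F'.code_of_mem_A hrr
  rw [P.F'.code_mul hr.1 hr.1, hr.2] at this
  exact absurd this (by decide +kernel)

theorem no_seven_empty (hD : P.DL = [7]) (hR : P.RL = []) : False := by
  rcases P.RL_cases with h | ⟨⟨g, hg, hgN⟩, -⟩
  · rw [hD, hR] at h; exact List.cons_ne_nil _ _ h.symm
  obtain ⟨y, hy, hgy, hRy⟩ := P.exch_step hg hgN (y := 1) (List.mem_cons_self ..)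
  have hy7 : y = 7 := by
    rw [hD] at hy
    simp only [List.mem_cons, List.not_mem_nil, or_false] at hy
    rcases hy with rfl | rfl
    · exact absurd P.reach_one (hRy.1 P.reach_one)
    · rfl
  subst hy7
  rw [P.F.el_one] at hgy
  have hr := P.F.r_mem
  have hw := P.swap_N_conj hg hgN hr.1
  set w := g * P.F.r * g⁻¹ with hwdef
  have h7 : P.F.el 7 = P.F'.el 7 := by
    rw [show (7 : ℕ) = 1 ^^^ 6 from rfl, P.F'.el_xor _ (by norm_num) _ (by norm_num),
      P.F.el_xor _ (by norm_num) _ (by norm_num), P.F'.el_one, P.F.el_one, P.l6]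
  have hswapR : P.swap.RL = [] := by rw [P.swap_RL_eq, hR]; decide +kernel
  obtain ⟨hlt, hsp⟩ := P.F'.act_spec hw (show 1 < 16 by norm_num)
  have hm := (P.swap.orbit_iff hlt).1 ⟨w, hw, by
    show w * t * w⁻¹ = P.F'.el (P.F'.act w 1)
    rw [← hsp, P.F'.el_one]⟩
  rw [hswapR] at hm
  have hact : P.F'.act w 1 = 1 :=
    (show ∀ x < 16, mask [] x = true → x = 1 by decide +kernel) _ hlt hm
  have hw1 : ev (P.F'.code w) 1 = 1 := by rw [P.F'.ev_code hw (by norm_num), hact]
  have hw7 : ev (P.F'.code w) 7 = 7 := by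
    rw [P.F'.ev_code hw (by norm_num)]
    refine P.F'.act_eq (by norm_num) ?_
    rw [← h7, ← hgy, hwdef]
    have hf1 : P.F.r * t * P.F.r⁻¹ = t := by
      have h := P.F.r_el 1 (by norm_num)
      rwa [show ev cRho 1 = 1 by decide +kernel, P.F.el_one] at h
    calc g * P.F.r * g⁻¹ * (g * t * g⁻¹) * (g * P.F.r * g⁻¹)⁻¹ = g * (P.F.r * t * P.F.r⁻¹) * g⁻¹ := by group
      _ = _ := by rw [hf1]
  have hsq : comp (P.F'.code w) (P.F'.code w) = cId :=
    (show ∀ s ∈ cS3, ev s 7 = 7 → comp s s = cId by decide +kernel) _ (P.F'.stab_code hw hw1) hw7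
  rw [← P.F'.code_mul hw hw, P.F'.code_eq_id_iff (mul_mem hw hw), hwdef,
    show g * P.F.r * g⁻¹ * (g * P.F.r * g⁻¹) = g * (P.F.r * P.F.r) * g⁻¹ by group] at hsq
  have hrr := (P.conj_exch hg hgN _).1 hsq
  have := P.F.code_of_mem_A hrr
  rw [P.F.code_mul hr.1 hr.1, hr.2] at this
  exact absurd this (by decide +kernel)

theorem orbit_big : ∀ f ∈ cands [7, 8, 14] [14] 14, badW [f] = true ∨ ∀ q ∈ [7, 8],
    4 < ([q, ev cRho q, ev cRho (ev cRho q), ev f q, ev f (ev cRho q), ev f (ev cRho (ev cRho q))].dedup).length := by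
  decide +kernel

theorem no_single (hD : P.DL = [7, 8, 14]) (hR : P.RL = [8]) : False := by
  rcases P.RL_cases with h | ⟨⟨g, hg, hgN⟩, -⟩
  · rw [hD, hR] at h; exact absurd h (by decide)
  obtain ⟨y, hy, hgy, hRy⟩ := P.exch_step hg hgN (y := 1) (List.mem_cons_self ..)
  have hnot := hRy
  rw [P.F.el_one] at hgy
  have hnr : ¬ P.Reach y := fun h => hRy.1 h P.reach_one
  have hyD : y = 7 ∨ y = 14 := by
    rw [P.reach_iff hy, hR] at hnr
    rw [hD] at hy
    simp only [List.mem_cons, List.not_mem_nil, or_false] at hy hnr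
    omega
  have hsR : P.swap.RL = [14] := by rw [P.swap_RL_eq, hR]; decide +kernel
  obtain ⟨f, hf, hfR⟩ := P.swap.exists_cand (y := 14) (by simp [hsR])
  rw [P.swap_DL_eq (Or.inr hD), hD, hsR] at hf
  rcases orbit_big f hf with h | h
  · exact absurd h (by rw [P.swap.not_badW (fs := [f]) (by simpa using hfR)]; decide)
  set q := sw y with hq
  have hqv : q ∈ [7, 8] ∧ q < 16 ∧ P.F'.el q = P.F.el y := by
    rcases hyD with rfl | rfl
    · refine ⟨by decide, by decide, ?_⟩
      show P.F'.el (1 ^^^ 6) = P.F.el (1 ^^^ 6)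
      rw [P.F'.el_xor _ (by norm_num) _ (by norm_num), P.F.el_xor _ (by norm_num) _ (by norm_num),
        P.F'.el_one, P.F.el_one, P.l6]
    · exact ⟨by decide, by decide, P.l8⟩
  -- the image of the orbit of `t` in the second frame
  let O : ℕ → Prop := fun w => w < 16 ∧ ∃ v < 16, mask P.RL v = true ∧ g * P.F.el v * g⁻¹ = P.F'.el w
  have hO : O q := ⟨hqv.2.1, 1, by norm_num, by simp [mask, rep], by rw [P.F.el_one, hgy, hqv.2.2]⟩
  have hinv : ∀ c, P.F'.Real c → ∀ w, O w → O (ev c w) := by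
    rintro c ⟨k, hk, rfl⟩ w ⟨hw, v, hv, hm, e⟩
    have hk' : g⁻¹ * k * g ∈ P.F.N := by
      have hi : g⁻¹ ∉ P.swap.F.N := fun h => hgN ((P.mem_N_iff' hg).2 (inv_mem_iff.1 h))
      have := P.swap.swap_N_conj (g := g⁻¹) (P.NT_swap ▸ inv_mem hg) hi hk
      rwa [inv_inv] at this
    obtain ⟨hlt, hsp⟩ := P.F.act_spec hk' hv
    refine ⟨Frame.ev_lt _ _, _, hlt, ?_, ?_⟩
    · rw [← P.orbit_iff hlt]
      obtain ⟨m, hm', e'⟩ := (P.orbit_iff hv).2 hm
      exact ⟨g⁻¹ * k * g * m, mul_mem hk' hm', by rw [← hsp, ← e']; group⟩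
    · rw [← hsp, ← P.F'.conj_el hk hw, ← e]; group
  have hrho : P.F'.Real cRho := P.F'.real_rho
  set L := [q, ev cRho q, ev cRho (ev cRho q), ev f q, ev f (ev cRho q), ev f (ev cRho (ev cRho q))] with hL
  have hall : ∀ w ∈ L, O w := by
    intro w hw
    have h1 := hinv _ hrho _ hO
    have h2 := hinv _ hrho _ h1
    simp only [hL, List.mem_cons, List.not_mem_nil, or_false] at hw
    rcases hw with rfl | rfl | rfl | rfl | rfl | rfl
    exacts [hO, h1, h2, hinv _ hfR _ hO, hinv _ hfR _ h1, hinv _ hfR _ h2]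
  classical
  let σ : ℕ → ℕ := fun w => if h : O w then h.2.choose else 0
  have hcard : L.dedup.toFinset.card ≤ ((List.range 16).filter (mask P.RL)).toFinset.card := by
    refine Finset.card_le_card_of_injOn σ (fun w hw => ?_) (fun a ha b hb e => ?_)
    · have hw' := hall w (List.mem_dedup.1 (List.mem_toFinset.1 hw))
      simp only [σ, dif_pos hw', List.coe_toFinset, Set.mem_ofPred_eq, List.mem_filter, List.mem_range]
      exact ⟨hw'.2.choose_spec.1, hw'.2.choose_spec.2.1⟩
    · have ha' := hall a (List.mem_dedup.1 (List.mem_toFinset.1 ha))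
      have hb' := hall b (List.mem_dedup.1 (List.mem_toFinset.1 hb))
      simp only [σ, dif_pos ha', dif_pos hb'] at e
      have h1 := ha'.2.choose_spec.2.2
      rw [e, hb'.2.choose_spec.2.2] at h1
      exact (P.F'.el_inj _ hb'.1 _ ha'.1 h1).symm
  rw [List.toFinset_card_of_nodup (List.nodup_dedup _), hR,
    List.toFinset_card_of_nodup (List.nodup_range.filter _),
    show ((List.range 16).filter (mask [8])).length = 4 by decide +kernel] at hcard
  have := h q hqv.1
  rw [← hL] at this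
  omega

end Pair

end Cfsg.Lib.TwoTimesSym
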