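import Cfsg.Agent.TwoTimesSym.Facts

/-!
The normaliser of the Sylow subgroup of the centralizer, and the conjugates of `t` it reaches.
-/

set_option autoImplicit false
set_option linter.unusedSectionVars false
set_option linter.style.haveILetI false

namespace Cfsg.Lib.TwoTimesSym

open Subgroup

variable {G : Type*} [Group G]

namespace Pair

variable {t : G} (P : Pair t) [Finite G]

/-- the normaliser of `T` -/
def NT : Subgroup G := normalizer (P.T : Set G)

theorem T_swap : P.swap.T = P.T := by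
  have hle : ∀ Q : Pair t, Q.swap.T ≤ Q.T := by
    intro Q
    rintro _ ⟨k, -, rfl⟩
    have h1 : Q.swap.F.el (k % 16) ∈ Q.T := Q.A'_le_T (Q.F'.el_mem (Nat.mod_lt _ (by norm_num)))
    unfold Pair.emb
    split
    · refine mul_mem ?_ h1
      show Q.F'.p ∈ Q.T
      rw [← Q.l2']
      exact Q.A_le_T (Q.F.el_mem (by norm_num))
    · exact h1
  exact le_antisymm (hle P) (hle P.swap)

theorem NT_swap : P.swap.NT = P.NT := by rw [NT, NT, T_swap]

theorem p_mem_A' : P.F.p ∈ P.F'.A := P.l2 ▸ P.F'.el_mem (by norm_num)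

theorem le_or_le {S : Subgroup G} (hS : S ≤ P.T) (hsq : ∀ x ∈ S, x * x = 1) :
    S ≤ P.F.A ∨ S ≤ P.F'.A := by
  have hin : ∀ x ∈ S, x ∈ P.F.A ∨ x ∈ P.F'.A := by
    intro x hx
    obtain ⟨k, hk, e⟩ := hS hx
    have hkk : tmul k k = 0 := P.emb_inj tmul_lt (by norm_num) (by rw [P.emb_mul, e, P.emb_zero, hsq x hx])
    rcases Nat.lt_or_ge k 16 with hk' | hk'
    · exact Or.inl ⟨k, hk', (P.emb_lt hk').symm.trans e⟩
    · obtain ⟨w, hw, e'⟩ := (show ∀ k < 32, 16 ≤ k → tmul k k = 0 → ∃ y < 16, tr y = k by decide +kernel)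
        k hk hk' hkk
      exact Or.inr ⟨w, hw, by rw [P.el'_eq hw, e', e]⟩
  by_contra h
  rw [not_or, SetLike.not_le_iff_exists, SetLike.not_le_iff_exists] at h
  obtain ⟨⟨x, hx, hx'⟩, ⟨y, hy, hy'⟩⟩ := h
  have hxA := (hin x hx).resolve_left hx'
  have hyA := (hin y hy).resolve_right hy'
  rcases hin _ (mul_mem hx hy) with h | h
  · exact hx' ((mul_mem_cancel_right hyA).1 h)
  · exact hy' ((mul_mem_cancel_left hxA).1 h)

/-- an element normalising `T` carries the first frame onto itself or onto the second -/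
theorem conj_cases {g : G} (hg : g ∈ P.NT) :
    (∀ y, g * y * g⁻¹ ∈ P.F.A ↔ y ∈ P.F.A) ∨ (∀ y, g * y * g⁻¹ ∈ P.F'.A ↔ y ∈ P.F.A) := by
  let S : Subgroup G := P.F.A.map (MulAut.conj g).toMonoidHom
  have hSm : ∀ y, g * y * g⁻¹ ∈ S ↔ y ∈ P.F.A := by
    intro y
    constructor
    · rintro ⟨a, ha, e⟩
      simp only [MulEquiv.coe_toMonoidHom, MulAut.conj_apply] at e
      exact (mul_left_cancel (mul_right_cancel e)) ▸ ha
    · exact fun hy => ⟨y, hy, by simp⟩
  have hS : S ≤ P.T := by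
    rintro _ ⟨a, ha, rfl⟩
    exact (mem_normalizer_iff.1 hg a).1 (P.A_le_T ha)
  have hsq : ∀ x ∈ S, x * x = 1 := by
    rintro _ ⟨a, ⟨i, hi, rfl⟩, rfl⟩
    rw [← map_mul, P.F.el_sq hi, map_one]
  have hc : Nat.card S = 16 := by
    rw [show S = P.F.A.map (MulAut.conj g).toMonoidHom from rfl,
      card_map_of_injective (MulAut.conj g).injective, P.F.card_A]
  rcases P.le_or_le hS hsq with h | h
  · left; intro y
    have e := eq_of_le_of_card_ge h (by rw [hc, P.F.card_A])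
    exact Iff.trans (by rw [e]) (hSm y)
  · right; intro y
    have e := eq_of_le_of_card_ge h (by rw [hc, P.F'.card_A])
    exact Iff.trans (by rw [e]) (hSm y)

theorem mem_N_iff {g : G} : g ∈ P.F.N ↔ ∀ y, g * y * g⁻¹ ∈ P.F.A ↔ y ∈ P.F.A :=
  ⟨fun h y => (mem_normalizer_iff.1 h y).symm, fun h => mem_normalizer_iff.2 fun y => (h y).symm⟩

theorem mem_N'_of {g : G} (hg : g ∈ P.NT) (hN : g ∈ P.F.N) : g ∈ P.F'.N := by
  rcases P.swap.conj_cases (g := g) (P.NT_swap ▸ hg) with h | h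
  · exact mem_normalizer_iff.2 fun y => (h y).symm
  · exfalso
    have h1 : g * P.F.p * g⁻¹ ∈ P.F.A := (h P.F.p).2 P.p_mem_A'
    exact P.p_notMem ((P.mem_N_iff.1 hN _).1 h1)

theorem mem_N_iff' {g : G} (hg : g ∈ P.NT) : g ∈ P.F.N ↔ g ∈ P.F'.N :=
  ⟨P.mem_N'_of hg, P.swap.mem_N'_of (P.NT_swap ▸ hg)⟩

/-- an element normalising `T` but not the first frame exchanges the two -/
theorem conj_exch {g : G} (hg : g ∈ P.NT) (hN : g ∉ P.F.N) :
    ∀ y, g * y * g⁻¹ ∈ P.F'.A ↔ y ∈ P.F.A :=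
  (P.conj_cases hg).resolve_left fun h => hN (P.mem_N_iff.2 h)

theorem mul_exch {g h : G} (hg : g ∈ P.NT) (hgN : g ∉ P.F.N) (hh : h ∈ P.NT) (hhN : h ∉ P.F.N) :
    g * h ∈ P.F.N := by
  have h2 := P.swap.conj_exch (g := g) (P.NT_swap ▸ hg) (fun h => hgN ((P.mem_N_iff' hg).2 h))
  refine P.mem_N_iff.2 fun y => ?_
  rw [show g * h * y * (g * h)⁻¹ = g * (h * y * h⁻¹) * g⁻¹ by group]
  exact (h2 _).trans (P.conj_exch hh hhN y)

/-- elements fixing `t` and normalising `T` fix both frames -/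
theorem cent_NT {g : G} (hg : g ∈ P.NT) (hc : Commute g t) : g ∈ P.F.N := by
  set X : Subgroup G := centralizer ({t} : Set G) ⊓ P.NT
  have hTX : P.T ≤ X := le_inf P.T_le_C le_normalizer
  obtain ⟨c, hcodd, hcard⟩ := P.hcard
  haveI : (P.T.subgroupOf X).Normal := normal_subgroupOf_of_le_normalizer inf_le_right
  have hdvd : Nat.card P.T * P.T.relIndex X ∣ 32 * c := by
    rw [← hcard, ← relIndex_bot_left, relIndex_mul_relIndex _ _ _ bot_le hTX, relIndex_bot_left]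
    exact card_dvd_of_le inf_le_left
  rw [P.card_T] at hdvd
  have hodd : Odd (P.T.relIndex X) := hcodd.of_dvd_nat (Nat.dvd_of_mul_dvd_mul_left (by norm_num) hdvd)
  have hgX : g ∈ X := mem_inf.2 ⟨mem_centralizer_singleton_iff.2 hc.eq, hg⟩
  have hpow := pow_index_mem (P.T.subgroupOf X) (⟨g, hgX⟩ : X)
  rw [mem_subgroupOf, SubgroupClass.coe_pow] at hpow
  by_contra hN
  obtain ⟨m, hm⟩ := hodd
  rw [show (P.T.subgroupOf X).index = P.T.relIndex X from rfl, hm] at hpow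
  have h2 : g * g ∈ P.F.N := P.mul_exch hg hN hg hN
  have hpow' := P.T_le_N hpow
  rw [pow_succ, pow_mul, pow_two] at hpow'
  exact hN ((mul_mem_cancel_left (pow_mem h2 m)).1 hpow')

/-- reached inside the stabiliser of the first frame -/
def Reach (y : ℕ) : Prop := ∃ g ∈ P.F.N, g ∈ P.NT ∧ g * t * g⁻¹ = P.F.el y

open scoped Classical in
/-- the reached representatives -/
noncomputable def RL : List ℕ := reps.filter fun y => decide (P.Reach y)

theorem mem_RL {y : ℕ} : y ∈ P.RL ↔ y ∈ reps ∧ P.Reach y := by simp [RL]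

theorem RL_sub {y : ℕ} (hy : y ∈ P.RL) : y ∈ P.DL := by
  obtain ⟨hr, g, -, -, e⟩ := P.mem_RL.1 hy
  exact P.mem_DL.2 ⟨hr, isConj_iff.2 ⟨g, e⟩⟩

theorem RL_mem_sublists : P.RL ∈ reps.sublists := by
  classical
  exact List.mem_sublists.2 (List.filter_sublist ..)

theorem el_central {y : ℕ} (hy : y ∈ [0, 1, 6, 7, 8, 9, 14, 15]) : ∀ x ∈ P.T, Commute x (P.F.el y) := by
  rintro x ⟨k, hk, rfl⟩
  have hy16 : y < 16 := (show ∀ y ∈ [0, 1, 6, 7, 8, 9, 14, 15], y < 16 by decide) y hy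
  have e := congrArg P.emb ((show ∀ y ∈ [0, 1, 6, 7, 8, 9, 14, 15], ∀ k < 32, tmul k y = tmul y k by
    decide +kernel) y hy k hk)
  rw [P.emb_mul, P.emb_mul, P.emb_lt hy16] at e
  exact e

/-- the orbit of `t` under the normaliser of the frame -/
theorem orbit_iff {x : ℕ} (hx : x < 16) :
    (∃ g ∈ P.F.N, g * t * g⁻¹ = P.F.el x) ↔ mask P.RL x = true := by
  have hr : rep x < 16 := (show ∀ x < 16, rep x < 16 by decide +kernel) x hx
  obtain ⟨w, hw, hwe⟩ : ∃ w ∈ P.F.N, w * P.F.el (rep x) * w⁻¹ = P.F.el x := by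
    rcases (show ∀ x < 16, rep x = x ∨ ev cRho (rep x) = x ∨ ev cRho (ev cRho (rep x)) = x by decide +kernel)
      x hx with h | h | h
    · exact ⟨1, one_mem _, by rw [h]; group⟩
    · exact ⟨_, P.F.r_mem.1, by rw [P.F.r_el _ hr, h]⟩
    · refine ⟨_, mul_mem P.F.r_mem.1 P.F.r_mem.1, ?_⟩
      rw [show P.F.r * P.F.r * P.F.el (rep x) * (P.F.r * P.F.r)⁻¹ =
        P.F.r * (P.F.r * P.F.el (rep x) * P.F.r⁻¹) * P.F.r⁻¹ by group,
        P.F.r_el _ hr, P.F.r_el _ (Frame.ev_lt _ _), h]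
  rw [mask, Bool.or_eq_true, beq_iff_eq, List.contains_iff_mem, P.mem_RL]
  constructor
  · rintro ⟨g, hg, hge⟩
    have hgr : w⁻¹ * g * t * (w⁻¹ * g)⁻¹ = P.F.el (rep x) := by
      calc w⁻¹ * g * t * (w⁻¹ * g)⁻¹ = w⁻¹ * (g * t * g⁻¹) * w := by group
        _ = _ := by rw [hge, ← hwe]; group
    have hconj : IsConj t (P.F.el (rep x)) := isConj_iff.2 ⟨_, hgr⟩
    have hm := (P.conj_el_iff hr).1 hconj
    rw [mask, show rep (rep x) = rep x from (show ∀ x < 16, rep (rep x) = rep x by decide +kernel) x hx,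
      Bool.or_eq_true, beq_iff_eq, List.contains_iff_mem] at hm
    rcases hm with hm | hm
    · exact Or.inl hm
    · have hmem := (P.mem_DL.1 hm).1
      obtain ⟨g', hg'N, hg'T, e⟩ := P.burnside (M := P.F.N) P.T_le_N
        (P.el_central ((show ∀ y ∈ reps, y ∈ [0, 1, 6, 7, 8, 9, 14, 15] by decide) _ hmem))
        (mul_mem (inv_mem hw) hg) hgr
      exact Or.inr ⟨hmem, g', hg'N, hg'T, e⟩
  · rintro (h | ⟨-, g, hg, -, e⟩)
    · refine ⟨w, hw, ?_⟩
      rw [h, P.F.el_one] at hwe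
      exact hwe
    · exact ⟨w * g, mul_mem hw hg, by rw [← hwe, ← e]; group⟩

end Pair

/-- a code respecting the two masks, the fixed vector and the exchange -/
def validB (dl rl : List ℕ) (f : ℕ) : Bool :=
  (ev f 6 == 6) && (comp f cPi == comp cPi f) && decide ((List.range 16).map (ev f)).Nodup &&
    (List.range 16).all fun x => mask dl (ev f x) == mask dl x && mask rl (ev f x) == mask rl x

/-- candidate codes sending `1` to `y` -/
def cands (dl rl : List ℕ) (y : ℕ) : List ℕ :=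
  ((List.range 16).flatMap fun a => [0, 1, 6, 7, 8, 9, 14, 15].map fun c =>
    y + 16 * a + 256 * (a ^^^ 6) + 4096 * c).filter (validB dl rl)

/-- a word in the given codes fixes `1` without being a coordinate permutation -/
def badW (fs : List ℕ) : Bool :=
  fs.any fun a => cS3.any fun s => fs.any fun b =>
    let h := comp a (comp s b)
    (ev h 1 == 1 && !cS3.contains h) ||
      cS3.any fun s' => fs.any fun c =>
        let h' := comp h (comp s' c)
        ev h' 1 == 1 && !cS3.contains h'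

namespace Pair

variable {t : G} (P : Pair t) [Finite G]

theorem code_p_conj {g : G} (hg : g ∈ P.F.N) (hgT : g ∈ P.NT) :
    comp (P.F.code g) cPi = comp cPi (P.F.code g) := by
  have h1 := (mem_normalizer_iff.1 hgT _).1 P.p_mem_T
  obtain ⟨k, hk, e⟩ := h1
  have hp := P.F.p_mem
  have hx : ∀ x < 16, P.F.el x ∈ P.F.N := fun x hx => P.F.A_le_N (P.F.el_mem hx)
  have hk16 : 16 ≤ k := by
    by_contra hk'
    have hA : g * P.F.p * g⁻¹ ∈ P.F.A := ⟨k, by omega, (P.emb_lt (by omega)).symm.trans e⟩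
    exact P.p_notMem ((P.mem_N_iff.1 hg _).1 hA)
  have e' : g * P.F.p = P.F.p * (P.F.el (k % 16) * g) := by
    have e2 : P.emb k = P.F.p * P.F.el (k % 16) := by rw [emb, if_pos (by omega)]
    rw [e2] at e
    calc g * P.F.p = g * P.F.p * g⁻¹ * g := by group
      _ = _ := by rw [← e]; group
  have hk' : k % 16 < 16 := Nat.mod_lt _ (by norm_num)
  have hc := congrArg P.F.code e'
  rw [P.F.code_mul hg hp.1, P.F.code_mul hp.1 (mul_mem (hx _ hk') hg), hp.2] at hc
  rw [hc, (P.F.code_eq_iff (mul_mem (hx _ hk') hg) hg).2]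
  rw [mul_inv_rev, P.F.el_inv hk']
  have := (P.mem_N_iff.1 (inv_mem hg) _).2 (P.F.el_mem hk')
  simpa using this

/-- the code of an element reaching `y` is a candidate -/
theorem code_mem_cands {g : G} (hg : g ∈ P.F.N) (hgT : g ∈ P.NT) {y : ℕ} (hy : y < 16)
    (hgt : g * t * g⁻¹ = P.F.el y) : P.F.code g ∈ cands P.DL P.RL y := by
  have h6 : P.F.act g 6 = 6 := P.F.act_eq (by norm_num) (P.conj_z hgT)
  have h1 : P.F.act g 1 = y := P.F.act_eq hy (by rw [P.F.el_one]; exact hgt)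
  have ha := (P.F.act_spec hg (show 2 < 16 by norm_num)).1
  have h4 : P.F.act g 4 = P.F.act g 2 ^^^ 6 := by
    rw [show (4 : ℕ) = 2 ^^^ 6 from rfl, P.F.act_xor hg (by norm_num) (by norm_num), h6]
  have hc8 := (P.F.act_spec hg (show 8 < 16 by norm_num)).1
  have hcomm := P.code_p_conj hg hgT
  have hfix : ev cPi (P.F.act g 8) = P.F.act g 8 := by
    have e1 : ev (comp (P.F.code g) cPi) 8 = ev (P.F.code g) 8 := by
      rw [← P.F.p_mem.2, ← P.F.code_mul hg P.F.p_mem.1, P.F.ev_code (mul_mem hg P.F.p_mem.1) (by norm_num),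
        P.F.ev_code hg (by norm_num)]
      refine P.F.act_eq hc8 ?_
      rw [show g * P.F.p * P.F.el 8 * (g * P.F.p)⁻¹ = g * (P.F.p * P.F.el 8 * P.F.p⁻¹) * g⁻¹ by group,
        P.F.p_el 8 (by norm_num), show ev cPi 8 = 8 by decide +kernel, (P.F.act_spec hg (by norm_num)).2]
    rw [hcomm] at e1
    rw [← P.F.p_mem.2, ← P.F.code_mul P.F.p_mem.1 hg, P.F.ev_code (mul_mem P.F.p_mem.1 hg) (by norm_num),
      P.F.ev_code hg (by norm_num)] at e1
    have e2 : P.F.act (P.F.p * g) 8 = ev cPi (P.F.act g 8) := P.F.act_eq (Frame.ev_lt _ _) (by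
      rw [← P.F.p_el _ hc8, ← (P.F.act_spec hg (by norm_num)).2]; group)
    rw [← e2, e1]
  rw [cands, List.mem_filter]
  refine ⟨List.mem_flatMap.2 ⟨_, List.mem_range.2 ha, List.mem_map.2 ⟨P.F.act g 8,
    (show ∀ c < 16, ev cPi c = c → c ∈ [0, 1, 6, 7, 8, 9, 14, 15] by decide +kernel) _ hc8 hfix, ?_⟩⟩, ?_⟩
  · show _ = enc (P.F.act g)
    rw [enc, h1, h4]
  rw [validB, Bool.and_eq_true, Bool.and_eq_true, Bool.and_eq_true, beq_iff_eq, beq_iff_eq,
    decide_eq_true_iff, List.all_eq_true]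
  refine ⟨⟨⟨by rw [P.F.ev_code hg (by norm_num), h6], hcomm⟩, ?_⟩, fun x hx => ?_⟩
  · refine List.Nodup.map_on (fun a ha b hb e => ?_) List.nodup_range
    have ha' := List.mem_range.1 ha
    have hb' := List.mem_range.1 hb
    rw [P.F.ev_code hg ha', P.F.ev_code hg hb'] at e
    refine P.F.el_inj _ ha' _ hb' (mul_left_cancel (mul_right_cancel (b := g⁻¹) (a := g * P.F.el a) ?_))
    rw [(P.F.act_spec hg ha').2, (P.F.act_spec hg hb').2, e]
  have hx' := List.mem_range.1 hx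
  rw [Bool.and_eq_true, beq_iff_eq, beq_iff_eq, P.F.ev_code hg hx']
  obtain ⟨hlt, hspec⟩ := P.F.act_spec hg hx'
  constructor
  · rw [Bool.eq_iff_iff, ← P.conj_el_iff hlt, ← P.conj_el_iff hx', ← hspec]
    have hc : IsConj (P.F.el x) (g * P.F.el x * g⁻¹) := isConj_iff.2 ⟨g, rfl⟩
    exact ⟨fun h => h.trans hc.symm, fun h => h.trans hc⟩
  · rw [Bool.eq_iff_iff, ← P.orbit_iff hlt, ← P.orbit_iff hx']
    constructor
    · rintro ⟨k, hk, e⟩
      refine ⟨g⁻¹ * k, mul_mem (inv_mem hg) hk, ?_⟩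
      calc g⁻¹ * k * t * (g⁻¹ * k)⁻¹ = g⁻¹ * (k * t * k⁻¹) * g := by group
        _ = _ := by rw [e, ← hspec]; group
    · rintro ⟨k, hk, e⟩
      exact ⟨g * k, mul_mem hg hk, by rw [← hspec, ← e]; group⟩

theorem not_badW {fs : List ℕ} (h : ∀ f ∈ fs, P.F.Real f) : badW fs = false := by
  rw [Bool.eq_false_iff]
  intro hb
  have hs : ∀ s ∈ cS3, P.F.Real s := fun s hs =>
    P.F.real_grow (gens := [cPi, cRho]) (fun a ha => by
      simp only [List.mem_cons, List.not_mem_nil, or_false] at ha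
      rcases ha with rfl | rfl
      exacts [P.F.real_pi, P.F.real_rho]) 3 s ((show ∀ s ∈ cS3, s ∈ grow [cPi, cRho] 3 by decide +kernel) s hs)
  have key : ∀ a, P.F.Real a → ev a 1 = 1 → a ∈ cS3 := by
    rintro _ ⟨g, hg, rfl⟩ h1
    exact P.F.stab_code hg h1
  simp only [badW, List.any_eq_true, Bool.or_eq_true, Bool.and_eq_true, Bool.not_eq_true', beq_iff_eq] at hb
  obtain ⟨a, ha, s, hs', b, hb', hb⟩ := hb
  have h1 := Frame.Real.comp P.F (h a ha) (Frame.Real.comp P.F (hs s hs') (h b hb'))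
  rcases hb with ⟨e1, e2⟩ | ⟨s', hs'', c, hc, e1, e2⟩
  · simpa [key _ h1 e1] using e2
  · have h2 := Frame.Real.comp P.F h1 (Frame.Real.comp P.F (hs s' hs'') (h c hc))
    simpa [key _ h2 e1] using e2

theorem swap_RL (y : ℕ) (hy : y ∈ reps) : y ∈ P.swap.RL ↔ sw y ∈ P.RL := by
  rw [P.swap.mem_RL, P.mem_RL]
  have h1 : P.swap.F.el y = P.F.el (sw y) := by
    show P.F'.el y = _
    have l6 := P.l6
    simp only [reps, List.mem_cons, List.not_mem_nil, or_false] at hy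
    rcases hy with rfl | rfl | rfl | rfl | rfl <;> simp only [sw, reduceIte, Nat.reduceEqDiff]
    · rw [show (7 : ℕ) = 1 ^^^ 6 from rfl, P.F'.el_xor _ (by norm_num) _ (by norm_num),
        P.F.el_xor _ (by norm_num) _ (by norm_num), P.F'.el_one, P.F.el_one, P.l6]
    · rw [P.l8]
    · rw [show (9 : ℕ) = 1 ^^^ 8 from rfl, show (15 : ℕ) = 1 ^^^ 14 from rfl,
        P.F'.el_xor _ (by norm_num) _ (by norm_num),
        P.F.el_xor _ (by norm_num) _ (by norm_num), P.F'.el_one, P.F.el_one, P.l8]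
    · rw [P.l14]
    · rw [show (9 : ℕ) = 1 ^^^ 8 from rfl, show (15 : ℕ) = 1 ^^^ 14 from rfl,
        P.F'.el_xor _ (by norm_num) _ (by norm_num),
        P.F.el_xor _ (by norm_num) _ (by norm_num), P.F'.el_one, P.F.el_one, P.l14]
  unfold Reach
  rw [NT_swap, h1]
  constructor
  · rintro ⟨-, g, hg, hgT, e⟩
    exact ⟨(show ∀ y ∈ reps, sw y ∈ reps by decide) y hy, g, (P.mem_N_iff' hgT).2 hg, hgT, e⟩
  · rintro ⟨-, g, hg, hgT, e⟩
    exact ⟨hy, g, (P.mem_N_iff' hgT).1 hg, hgT, e⟩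

end Pair

end Cfsg.Lib.TwoTimesSym
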