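import Cfsg.Agent.TwoTimesSym.Facts
import Cfsg.Agent.TwoTimesSym.Lists

/-!
Coordinates in the group of order `64` generated by a frame, `p` and a second exchanging involution `q`
commuting with `p`; modulo its derived group it is spanned by a central vector and the corners of a
square.
-/

set_option autoImplicit false

namespace Cfsg.Lib.TwoTimesSym

/-- codes of the group of order `64` -/
def sE : List ℕ := [33825, 33345, 58407, 57927]

/-- the central vectors -/
def sU : List ℕ := [0, 6, 9, 15]

/-- conjugation by `q` on coded elements of `T` -/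
def qact (k : ℕ) : ℕ := 16 * (k / 16 % 2) + ev 58407 (k % 16)

/-- multiplication in coordinates -/
def lmul (a b : ℕ) : ℕ :=
  tmul (a % 32) (if a / 32 % 2 = 1 then qact (b % 32) else b % 32) + 32 * ((a / 32 + b / 32) % 2)

/-- the functional, depending on a parameter -/
def lamB (o : Bool) (k : ℕ) : Bool :=
  xor (k.testBit 3) (xor (k.testBit 4 && !o) (k.testBit 5 && o))

/-- the corner coordinates -/
def vec (k : ℕ) : ℕ :=
  (if xor (k.testBit 0) (k.testBit 3) then 1 else 0) + (if xor (k.testBit 1) (k.testBit 2) then 2 else 0) +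
    4 * (k / 16 % 2) + 8 * (k / 32 % 2)

/-- turning the square: `e₁ → p → q → e₂ → e₁` -/
def rot (v : ℕ) : ℕ := (v / 2 % 2) + 2 * (v / 8 % 2) + 4 * (v % 2) + 8 * (v / 4 % 2)

/-- the conjugates of `t` in coordinates -/
def dB (k : ℕ) : Bool :=
  if k < 32 then maskT [7, 8, 14] k else sU.contains (k - 32)

set_option maxRecDepth 20000 in
theorem lmul_tables :
    (∀ a < 64, ∀ b < 64, lmul a b < 64 ∧ (∀ o, lamB o (lmul a b) = xor (lamB o a) (lamB o b)) ∧
      vec (lmul a b) = vec a ^^^ vec b) ∧
    (∀ a < 64, ∀ b < 64, rot (vec a ^^^ vec b) = rot (vec a) ^^^ rot (vec b)) := by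
  decide +kernel

theorem q_split : ∀ k < 64, k = lmul (k % 32) (32 * (k / 32)) := by decide +kernel

theorem lam_count : ∀ o, ((List.range 64).filter fun k => dB k && lamB o k).length = 8 := by decide +kernel

theorem fixed_sixteen : ((List.range 64).filter fun k => rot (rot (vec k)) == vec k).length = 16 ∧
    rot (rot (vec 9)) = vec 9 ∧ rot (rot (vec 6)) = vec 6 ∧ rot (rot (vec 33)) = vec 33 := by decide +kernel

theorem corner_cases : ∀ k < 64, vec k = 8 → k / 32 = 1 ∧ k % 32 ∈ sU := by decide +kernel

theorem cent_q_count : ((List.range 64).filter fun k => lmul k 32 == lmul 32 k).length = 32 := by decide +kernel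

theorem T_squares : (∀ a < 32, tmul a a = 0 ∨ tmul a a = 6) ∧
    (∃ a < 32, ∃ b < 32, tmul (tmul a b) (tmul a b) = 6 ∧ tmul a a = 0 ∧ tmul b b = 0) := by decide +kernel

end Cfsg.Lib.TwoTimesSym
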