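import Cfsg.Agent.TwoTimesSym.Classes
import Cfsg.Agent.TwoTimesSym.SquareModel

/-!
The group of order `64` of a square, in coordinates.
-/

set_option autoImplicit false
set_option linter.unusedSectionVars false
set_option linter.style.haveILetI false

namespace Cfsg.Lib.TwoTimesSym

open Subgroup

variable {G : Type*} [Group G]

namespace Pair

variable {t : G} (P : Pair t) [Finite G]

/-- the second exchanging involution -/
structure Side where
  /-- the involution -/
  q : G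
  mem : q ∈ P.F.N
  code : P.F.code q = 58407
  sq : q * q = 1
  comm : Commute P.F.p q

variable {P} (S : P.Side)

/-- an element of the group in coordinates -/
def Side.phi (k : ℕ) : G := P.emb (k % 32) * S.q ^ (k / 32 % 2)

theorem Side.q_el {x : ℕ} (hx : x < 16) : S.q * P.F.el x = P.F.el (ev 58407 x) * S.q := by
  have e := P.F.conj_el S.mem hx
  rw [S.code] at e
  exact mul_inv_eq_iff_eq_mul.1 e

theorem Side.q_emb {k : ℕ} (hk : k < 32) : S.q * P.emb k = P.emb (qact k) * S.q := by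
  have hx : k % 16 < 16 := Nat.mod_lt _ (by norm_num)
  have e1 : P.emb k = P.F.p ^ (k / 16) * P.F.el (k % 16) := by
    rw [← P.emb_split (show k / 16 < 2 by omega) hx, show 16 * (k / 16) + k % 16 = k by omega]
  have e2 : P.emb (qact k) = P.F.p ^ (k / 16) * P.F.el (ev 58407 (k % 16)) := by
    rw [qact, show k / 16 % 2 = k / 16 by omega, P.emb_split (by omega) (Frame.ev_lt _ _)]
  rw [e1, e2, ← mul_assoc, ← (S.comm.pow_left _).eq, mul_assoc, S.q_el hx, ← mul_assoc]

theorem Side.phi_mul {a b : ℕ} : S.phi (lmul a b) = S.phi a * S.phi b := by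
  unfold Side.phi
  have h1 : lmul a b % 32 = tmul (a % 32) (if a / 32 % 2 = 1 then qact (b % 32) else b % 32) ∧
      lmul a b / 32 % 2 = (a / 32 + b / 32) % 2 := by
    have := tmul_lt (a := a % 32) (b := if a / 32 % 2 = 1 then qact (b % 32) else b % 32)
    simp only [lmul] at *
    omega
  rw [h1.1, h1.2, P.emb_mul, show (a / 32 + b / 32) % 2 = (a / 32 % 2 + b / 32 % 2) % 2 by omega]
  have hq : S.q ^ ((a / 32 % 2 + b / 32 % 2) % 2) = S.q ^ (a / 32 % 2) * S.q ^ (b / 32 % 2) := by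
    rw [← pow_add, pow_eq_pow_mod (a / 32 % 2 + b / 32 % 2) (by rw [pow_two, S.sq])]
  rcases Nat.mod_two_eq_zero_or_one (a / 32) with e | e <;> rw [e] at hq ⊢
  · rw [hq, if_neg zero_ne_one]; simp [mul_assoc]
  · rw [hq, if_pos rfl, pow_one]
    calc P.emb (a % 32) * P.emb (qact (b % 32)) * (S.q * S.q ^ (b / 32 % 2))
        = P.emb (a % 32) * (P.emb (qact (b % 32)) * S.q) * S.q ^ (b / 32 % 2) := by group
      _ = P.emb (a % 32) * (S.q * P.emb (b % 32)) * S.q ^ (b / 32 % 2) := by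
        rw [S.q_emb (Nat.mod_lt _ (by norm_num))]
      _ = _ := by group

theorem Side.phi_lt {k : ℕ} (hk : k < 32) : S.phi k = P.emb k := by
  rw [Side.phi, Nat.mod_eq_of_lt hk, show k / 32 % 2 = 0 by omega, pow_zero, mul_one]

theorem Side.phi_el {x : ℕ} (hx : x < 16) : S.phi x = P.F.el x := by
  rw [S.phi_lt (by omega), P.emb_lt hx]

theorem Side.phi_32 : S.phi 32 = S.q := by
  rw [Side.phi, show 32 % 32 = 0 from rfl, P.emb_zero, one_mul, show 32 / 32 % 2 = 1 from rfl, pow_one]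

theorem Side.phi_mem (k : ℕ) : S.phi k ∈ P.F.N :=
  mul_mem (P.T_le_N (P.emb_mem (Nat.mod_lt _ (by norm_num)))) (pow_mem S.mem _)

/-- the code of an element in coordinates -/
theorem Side.phi_code (k : ℕ) : P.F.code (S.phi k) =
    comp (if k / 16 % 2 = 1 then cPi else cId) (if k / 32 % 2 = 1 then 58407 else cId) := by
  rw [Side.phi, P.F.code_mul (P.T_le_N (P.emb_mem (Nat.mod_lt _ (by norm_num)))) (pow_mem S.mem _)]
  congr 1
  · have hA := P.F.el_mem (Nat.mod_lt (k % 32) (show 16 > 0 by norm_num))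
    rw [Pair.emb, show k % 32 / 16 % 2 = k / 16 % 2 by omega]
    split
    · rw [P.F.code_mul P.F.p_mem.1 (P.F.A_le_N hA), P.F.code_of_mem_A hA, P.F.p_mem.2]
      decide +kernel
    · exact P.F.code_of_mem_A hA
  · rcases Nat.mod_two_eq_zero_or_one (k / 32) with e | e <;> rw [e]
    · rw [pow_zero, P.F.code_of_mem_A (one_mem _), if_neg zero_ne_one]
    · rw [pow_one, S.code, if_pos rfl]

theorem Side.phi_inj {a b : ℕ} (ha : a < 64) (hb : b < 64) (h : S.phi a = S.phi b) : a = b := by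
  have hc := congrArg P.F.code h
  rw [S.phi_code, S.phi_code] at hc
  have hq : a / 32 % 2 = b / 32 % 2 := (show ∀ a < 64, ∀ b < 64,
    comp (if a / 16 % 2 = 1 then cPi else cId) (if a / 32 % 2 = 1 then 58407 else cId) =
      comp (if b / 16 % 2 = 1 then cPi else cId) (if b / 32 % 2 = 1 then 58407 else cId) →
    a / 32 % 2 = b / 32 % 2 by decide +kernel) a ha b hb hc
  unfold Side.phi at h
  rw [hq] at h
  have := P.emb_inj (Nat.mod_lt a (show 32 > 0 by norm_num)) (Nat.mod_lt b (show 32 > 0 by norm_num))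
    (mul_right_cancel h)
  omega

/-- the group of the square -/
def Side.L : Subgroup G where
  carrier := {g | ∃ k < 64, S.phi k = g}
  one_mem' := ⟨0, by norm_num, by rw [S.phi_lt (by norm_num), P.emb_zero]⟩
  mul_mem' := by
    rintro _ _ ⟨a, ha, rfl⟩ ⟨b, hb, rfl⟩
    exact ⟨_, (lmul_tables.1 a ha b hb).1, S.phi_mul⟩
  inv_mem' := by
    rintro _ ⟨a, ha, rfl⟩
    obtain ⟨b, hb, e⟩ := (show ∀ a < 64, ∃ b < 64, lmul a b = 0 by decide +kernel) a ha
    exact ⟨b, hb, (inv_eq_of_mul_eq_one_right (by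
      rw [← S.phi_mul, e, S.phi_lt (by norm_num), P.emb_zero])).symm⟩

theorem Side.phi_mem_L {k : ℕ} (hk : k < 64) : S.phi k ∈ S.L := ⟨k, hk, rfl⟩

/-- the numbering of the group -/
noncomputable def Side.idx : Fin 64 ≃ S.L :=
  Equiv.ofBijective (fun k => ⟨S.phi k, S.phi_mem_L k.2⟩)
    ⟨fun i j h => Fin.ext (S.phi_inj i.2 j.2 (congrArg Subtype.val h)),
      fun g => by obtain ⟨x, hx, hg⟩ := g.2; exact ⟨⟨x, hx⟩, Subtype.ext hg⟩⟩

theorem Side.card_L : Nat.card S.L = 64 := by rw [← Nat.card_congr S.idx, Nat.card_fin]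

/-- the group consists of the elements of the normaliser with the four codes -/
theorem Side.mem_L {g : G} : g ∈ S.L ↔ g ∈ P.F.N ∧ P.F.code g ∈ sE := by
  constructor
  · rintro ⟨k, hk, rfl⟩
    refine ⟨S.phi_mem k, ?_⟩
    rw [S.phi_code]
    exact (show ∀ k < 64, comp (if k / 16 % 2 = 1 then cPi else cId) (if k / 32 % 2 = 1 then 58407 else cId) ∈ sE
      by decide +kernel) k hk
  · rintro ⟨hg, hc⟩
    obtain ⟨k, hk, e⟩ := (show ∀ f ∈ sE, ∃ k < 64,
      comp (if k / 16 % 2 = 1 then cPi else cId) (if k / 32 % 2 = 1 then 58407 else cId) = f by decide +kernel) _ hc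
    rw [← S.phi_code k] at e
    obtain ⟨x, hx, hxe⟩ := (P.F.code_eq_iff (S.phi_mem k) hg).1 e
    refine ⟨lmul k x, (lmul_tables.1 k hk x (by omega)).1, ?_⟩
    rw [S.phi_mul, S.phi_el hx, hxe]
    group

/-- the generators of the group -/
theorem Side.L_le {K : Subgroup G} (h1 : P.F.el 1 ∈ K) (h2 : P.F.el 2 ∈ K) (h6 : P.F.el 6 ∈ K)
    (h8 : P.F.el 8 ∈ K) (hp : P.F.p ∈ K) (hq : S.q ∈ K) : S.L ≤ K := by
  rintro _ ⟨k, hk, rfl⟩
  have he : ∀ x < 16, P.F.el x ∈ K := by
    intro x hx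
    obtain ⟨a, ha, b, hb, c, hc, d, hd, e⟩ := (show ∀ x < 16, ∃ a ∈ [0, 1], ∃ b ∈ [0, 2], ∃ c ∈ [0, 6],
      ∃ d ∈ [0, 8], x = a ^^^ b ^^^ c ^^^ d by decide +kernel) x hx
    have m : ∀ y v : ℕ, P.F.el v ∈ K → y ∈ [0, v] → P.F.el y ∈ K := by
      intro y v hv hy
      simp only [List.mem_cons, List.not_mem_nil, or_false] at hy
      rcases hy with rfl | rfl
      · rw [P.F.el_zero]; exact one_mem _
      · exact hv
    have lt : ∀ y v : ℕ, v < 16 → y ∈ [0, v] → y < 16 := by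
      intro y v hv hy
      simp only [List.mem_cons, List.not_mem_nil, or_false] at hy
      omega
    have la := lt a 1 (by norm_num) ha
    have lb := lt b 2 (by norm_num) hb
    have lc := lt c 6 (by norm_num) hc
    have ld := lt d 8 (by norm_num) hd
    rw [e, P.F.el_xor _ (Frame.xor_lt (Frame.xor_lt la lb) lc) _ ld,
      P.F.el_xor _ (Frame.xor_lt la lb) _ lc, P.F.el_xor _ la _ lb]
    exact mul_mem (mul_mem (mul_mem (m a 1 h1 ha) (m b 2 h2 hb)) (m c 6 h6 hc)) (m d 8 h8 hd)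
  unfold Side.phi Pair.emb
  refine mul_mem ?_ (pow_mem hq _)
  split
  · exact mul_mem hp (he _ (Nat.mod_lt _ (by norm_num)))
  · exact he _ (Nat.mod_lt _ (by norm_num))

end Pair

end Cfsg.Lib.TwoTimesSym
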